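import Groth.Agent.GrpdLib.Points

/-!
# The quotient map of an affine finite locally free groupoid
-/

set_option backward.isDefEq.respectTransparency false
set_option backward.isDefEq.respectTransparency.types false

universe u

open CategoryTheory CategoryTheory.Limits AlgebraicGeometry Grpd

namespace Groth.Agent.GrpdLib

variable {S : Scheme.{u}} (G : GroupoidScheme S) [IsAffine G.U] [IsAffine G.R]

theorem isoSpec_hom_toQuot :
    G.toQuot = G.U.isoSpec.hom ≫ Spec.map (CommRingCat.ofHom G.invariants.subtype) := rfl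

/-- A morphism out of a spectrum into an affine scheme, as a ring map. -/
noncomputable def pointHom {X : Scheme.{u}} [IsAffine X] {K : CommRingCat.{u}} (x : Spec K ⟶ X) : Γ(X, ⊤) →+* K :=
  (Spec.preimage (x ≫ X.isoSpec.hom)).hom

theorem pointHom_comp {X Y : Scheme.{u}} [IsAffine X] [IsAffine Y] {K : CommRingCat.{u}} (x : Spec K ⟶ X)
    (f : X ⟶ Y) : pointHom (x ≫ f) = (pointHom x).comp f.appTop.hom := by
  rw [pointHom, pointHom, ← CommRingCat.hom_comp]
  congr 1
  apply Spec.map_injective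
  rw [Spec.map_preimage, Spec.map_comp, Spec.map_preimage]
  simp only [Category.assoc, Scheme.isoSpec_hom, ← Scheme.toSpecΓ_naturality]

theorem pointHom_injective {X : Scheme.{u}} [IsAffine X] {K : CommRingCat.{u}} :
    Function.Injective (pointHom (X := X) (K := K)) := fun x y h => by
  have : Spec.preimage (x ≫ X.isoSpec.hom) = Spec.preimage (y ≫ X.isoSpec.hom) := CommRingCat.hom_ext h
  rw [← cancel_mono X.isoSpec.hom, ← Spec.map_preimage (x ≫ X.isoSpec.hom), this, Spec.map_preimage]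

/-- The morphism of a ring map. -/
noncomputable def ofPointHom {X : Scheme.{u}} [IsAffine X] {K : CommRingCat.{u}} (φ : Γ(X, ⊤) →+* K) : Spec K ⟶ X :=
  Spec.map (CommRingCat.ofHom φ) ≫ X.isoSpec.inv

theorem pointHom_ofPointHom {X : Scheme.{u}} [IsAffine X] {K : CommRingCat.{u}} (φ : Γ(X, ⊤) →+* K) :
    pointHom (ofPointHom φ) = φ := by
  simp [pointHom, ofPointHom]

theorem isoSpec_apply_appTop {X Y : Scheme.{u}} [IsAffine X] [IsAffine Y] (f : X ⟶ Y) (x : X) :
    Y.isoSpec.hom (f x) = PrimeSpectrum.comap f.appTop.hom (X.isoSpec.hom x) := by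
  have h : X.isoSpec.hom ≫ Spec.map f.appTop = f ≫ Y.isoSpec.hom := by
    simp only [Scheme.isoSpec_hom, Scheme.toSpecΓ_naturality]
  rw [← Scheme.Hom.comp_apply, ← h, Scheme.Hom.comp_apply]
  rfl

theorem t_toQuot_eq : G.t ≫ G.toQuot = G.s ≫ G.toQuot := by
  have h : ∀ f : G.R ⟶ G.U, f ≫ G.toQuot =
      G.R.isoSpec.hom ≫ Spec.map (CommRingCat.ofHom (f.appTop.hom.comp G.invariants.subtype)) := fun f => by
    rw [isoSpec_hom_toQuot, ← Category.assoc, Scheme.isoSpec_hom, Scheme.toSpecΓ_naturality, Category.assoc,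
      ← Spec.map_comp, Scheme.isoSpec_hom]
    rfl
  rw [h, h]
  congr 3
  exact RingHom.ext fun a => a.2.symm

variable [IsFinite G.s] [Flat G.s] [LocallyOfFinitePresentation G.s]

theorem surjective_toQuot : Function.Surjective G.toQuot := by
  intro q
  obtain ⟨p, hp⟩ := surjective_comap_invariants (G := G) q
  obtain ⟨x, hx⟩ := G.U.isoSpec.hom.surjective p
  refine ⟨x, ?_⟩
  rw [isoSpec_hom_toQuot, Scheme.Hom.comp_apply, hx]
  exact hp

theorem toQuot_eq_iff (u₀ u₁ : G.U) : G.toQuot u₀ = G.toQuot u₁ ↔ ∃ r : G.R, G.t r = u₀ ∧ G.s r = u₁ := by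
  refine ⟨fun h => ?_, fun ⟨r, h₀, h₁⟩ => ?_⟩
  · let P : PrimeSpectrum Γ(G.U, ⊤) := G.U.isoSpec.hom u₀
    let Q : PrimeSpectrum Γ(G.U, ⊤) := G.U.isoSpec.hom u₁
    have h' : P.asIdeal.comap G.invariants.subtype = Q.asIdeal.comap G.invariants.subtype := by
      rw [isoSpec_hom_toQuot, Scheme.Hom.comp_apply, Scheme.Hom.comp_apply] at h
      exact congrArg PrimeSpectrum.asIdeal h
    obtain ⟨r, hr, hrp, hrq⟩ := exists_prime_of_comap_eq P.asIdeal Q.asIdeal h'
    obtain ⟨z, hz⟩ := G.R.isoSpec.hom.surjective (⟨r, hr⟩ : PrimeSpectrum Γ(G.R, ⊤))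
    refine ⟨z, G.U.isoSpec.hom.homeomorph.injective ?_, G.U.isoSpec.hom.homeomorph.injective ?_⟩
    · show G.U.isoSpec.hom (G.t z) = P
      rw [isoSpec_apply_appTop, hz]
      exact PrimeSpectrum.ext hrp
    · show G.U.isoSpec.hom (G.s z) = Q
      rw [isoSpec_apply_appTop, hz]
      exact PrimeSpectrum.ext hrq
  · rw [← h₀, ← h₁, ← Scheme.Hom.comp_apply, ← Scheme.Hom.comp_apply, t_toQuot_eq]

theorem exists_lift_point (k : Type u) [Field k] [IsAlgClosed k]
    (m : Spec (CommRingCat.of k) ⟶ Spec (CommRingCat.of G.invariants)) :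
    ∃ x : Spec (CommRingCat.of k) ⟶ G.U, x ≫ G.toQuot = m := by
  have := isIntegral_invariants G
  let φ : G.invariants →+* k := (Spec.preimage m).hom
  let : Algebra G.invariants k := φ.toAlgebra
  obtain ⟨ψ, hψ⟩ : ∃ ψ : Γ(G.U, ⊤) →+* k, ψ.comp G.invariants.subtype = φ := by
    have := RingHom.ker_isPrime φ
    obtain ⟨P, hP⟩ := surjective_comap_invariants (G := G) ⟨RingHom.ker φ, this⟩
    have hP' : P.asIdeal.comap G.invariants.subtype = RingHom.ker φ := congrArg PrimeSpectrum.asIdeal hP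
    let C' := G.invariants ⧸ RingHom.ker φ
    let A' := Γ(G.U, ⊤) ⧸ P.asIdeal
    let j : C' →+* A' := Ideal.quotientMap P.asIdeal G.invariants.subtype hP'.ge
    have hj : Function.Injective j := Ideal.quotientMap_injective' (H := hP'.ge) hP'.le
    let : Algebra C' A' := j.toAlgebra
    let : Algebra C' k := (Ideal.Quotient.lift _ φ (fun a ha => ha)).toAlgebra
    have : Algebra.IsIntegral C' A' := by
      refine ⟨fun x => ?_⟩
      obtain ⟨a, rfl⟩ := Ideal.Quotient.mk_surjective x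
      obtain ⟨q, hq, hq0⟩ := Algebra.IsIntegral.isIntegral (R := G.invariants) a
      refine ⟨q.map (Ideal.Quotient.mk _), hq.map _, ?_⟩
      rw [Polynomial.eval₂_map]
      have := congrArg (Ideal.Quotient.mk P.asIdeal) hq0
      rw [Polynomial.hom_eval₂, map_zero] at this
      exact this
    have : FaithfulSMul C' A' := (faithfulSMul_iff_algebraMap_injective C' A').2 hj
    have : FaithfulSMul C' k :=
      (faithfulSMul_iff_algebraMap_injective C' k).2 (RingHom.lift_injective_of_ker_le_ideal _ _ le_rfl)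
    have : IsDomain C' := Ideal.Quotient.isDomain _
    have : IsDomain A' := Ideal.Quotient.isDomain _
    have : Module.IsTorsionFree C' k := Module.isTorsionFree_iff_faithfulSMul.2 inferInstance
    have : Module.IsTorsionFree C' A' := Module.isTorsionFree_iff_faithfulSMul.2 inferInstance
    have : Nontrivial C' := IsDomain.toNontrivial
    have : Algebra.IsAlgebraic C' A' := Algebra.IsIntegral.isAlgebraic
    let ψ : A' →ₐ[C'] k := IsAlgClosed.lift
    refine ⟨ψ.toRingHom.comp (Ideal.Quotient.mk _), RingHom.ext fun c => ?_⟩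
    exact (ψ.commutes (Ideal.Quotient.mk _ c))
  refine ⟨ofPointHom (K := CommRingCat.of k) ψ, ?_⟩
  rw [isoSpec_hom_toQuot, ofPointHom, Category.assoc, Iso.inv_hom_id_assoc, ← Spec.map_comp,
    ← Spec.map_preimage m]
  congr 1
  exact CommRingCat.hom_ext hψ

theorem point_eq_iff (k : Type u) [Field k] [IsAlgClosed k] (x₀ x₁ : Spec (CommRingCat.of k) ⟶ G.U) :
    x₀ ≫ G.toQuot = x₁ ≫ G.toQuot ↔
      ∃ r : Spec (CommRingCat.of k) ⟶ G.R, r ≫ G.t = x₀ ∧ r ≫ G.s = x₁ := by
  refine ⟨fun h => ?_, fun ⟨r, h₀, h₁⟩ => by rw [← h₀, ← h₁, Category.assoc, Category.assoc, t_toQuot_eq]⟩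
  obtain ⟨n, ⟨F⟩⟩ := exists_frame_affData G
  have hq : (pointHom x₀).comp G.invariants.subtype = (pointHom x₁).comp G.invariants.subtype := by
    rw [isoSpec_hom_toQuot, ← Category.assoc, ← Category.assoc, ← Spec.map_preimage (x₀ ≫ _),
      ← Spec.map_preimage (x₁ ≫ G.U.isoSpec.hom), ← Spec.map_comp, ← Spec.map_comp] at h
    exact congrArg CommRingCat.Hom.hom (Spec.map_injective h)
  obtain ⟨χ, hχt, hχs⟩ := (affData G).exists_point F G.s.finite_appTop (pointHom x₀) (pointHom x₁)
    fun a ha => congrArg (fun φ => φ (⟨a, ha⟩ : G.invariants)) hq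
  refine ⟨ofPointHom (K := CommRingCat.of k) χ, pointHom_injective ?_, pointHom_injective ?_⟩
  · rw [pointHom_comp, pointHom_ofPointHom]
    exact hχt
  · rw [pointHom_comp, pointHom_ofPointHom]
    exact hχs

end Groth.Agent.GrpdLib
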