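import Groth.Agent.GrpdLib.LocFree
import Groth.Agent.GrpdLib.Quot

/-!
# The affine quotient by a finite locally free equivalence relation
-/

set_option backward.isDefEq.respectTransparency false
set_option backward.isDefEq.respectTransparency.types false

universe u

open CategoryTheory CategoryTheory.Limits AlgebraicGeometry Grpd
open scoped TensorProduct

namespace Groth.Agent.GrpdLib

variable {S : Scheme.{u}} (G : GroupoidScheme S) [IsAffine G.U] [IsAffine G.R]
  [IsFinite G.s] [Flat G.s] [LocallyOfFinitePresentation G.s] [Mono G.j]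

omit [Flat G.s] [LocallyOfFinitePresentation G.s] in
theorem surjective_lift_t_s :
    letI := G.s.appTop.hom.toAlgebra
    Submodule.span Γ(G.U, ⊤) (Set.range G.t.appTop.hom) = (⊤ : Submodule Γ(G.U, ⊤) Γ(G.R, ⊤)) := by
  let A : Type u := Γ(G.U, ⊤)
  let B : Type u := Γ(G.R, ⊤)
  let tZ : A →ₐ[ℤ] B := G.t.appTop.hom.toIntAlgHom
  let sZ : A →ₐ[ℤ] B := G.s.appTop.hom.toIntAlgHom
  let ψ : A ⊗[ℤ] A →ₐ[ℤ] B := Algebra.TensorProduct.lift tZ sZ fun _ _ => Commute.all _ _
  have hfin : ψ.toRingHom.Finite := by
    refine RingHom.Finite.of_comp_finite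
      (f := (Algebra.TensorProduct.includeRight : A →ₐ[ℤ] A ⊗[ℤ] A).toRingHom) ?_
    have h : ψ.toRingHom.comp (Algebra.TensorProduct.includeRight : A →ₐ[ℤ] A ⊗[ℤ] A).toRingHom =
        G.s.appTop.hom := by
      ext a
      simp [ψ, sZ]
      rfl
    rw [h]
    exact G.s.finite_appTop
  have hepi : Epi (CommRingCat.ofHom ψ.toRingHom) := by
    refine ⟨fun {T} g g' h => ?_⟩
    have ht : g.hom.comp G.t.appTop.hom = g'.hom.comp G.t.appTop.hom := by
      ext a
      have := congrArg (fun φ => φ.hom (a ⊗ₜ[ℤ] (1 : A))) h
      simp [ψ, tZ, sZ] at this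
      exact this
    have hs : g.hom.comp G.s.appTop.hom = g'.hom.comp G.s.appTop.hom := by
      ext a
      have := congrArg (fun φ => φ.hom ((1 : A) ⊗ₜ[ℤ] a)) h
      simp [ψ, tZ, sZ] at this
      exact this
    have h1 : ofPointHom (K := T) g.hom ≫ G.j = ofPointHom (K := T) g'.hom ≫ G.j := by
      apply pullback.hom_ext
      · simp only [Category.assoc, GroupoidScheme.j, pullback.lift_fst]
        exact pointHom_injective (by rw [pointHom_comp, pointHom_comp, pointHom_ofPointHom, pointHom_ofPointHom, ht])
      · simp only [Category.assoc, GroupoidScheme.j, pullback.lift_snd]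
        exact pointHom_injective (by rw [pointHom_comp, pointHom_comp, pointHom_ofPointHom, pointHom_ofPointHom, hs])
    have h2 := congrArg pointHom ((cancel_mono G.j).1 h1)
    rw [pointHom_ofPointHom, pointHom_ofPointHom] at h2
    exact CommRingCat.hom_ext h2
  have hsurj : Function.Surjective ψ := (RingHom.surjective_iff_epi_and_finite).2 ⟨hepi, hfin⟩
  let : Algebra A B := G.s.appTop.hom.toAlgebra
  refine eq_top_iff.2 fun b hb => ?_
  clear hb
  obtain ⟨z, rfl⟩ := hsurj b
  induction z using TensorProduct.induction_on with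
  | zero => rw [map_zero]; exact zero_mem _
  | add z z' hz hz' => rw [map_add]; exact add_mem hz hz'
  | tmul a a' =>
    rw [Algebra.TensorProduct.lift_tmul, mul_comm]
    exact Submodule.smul_mem _ a' (Submodule.subset_span ⟨a, rfl⟩)

theorem isRel : (affData G).IsRel G.invariants where
  fin := G.s.finite_appTop
  proj := by
    have h1 : G.s.appTop.hom.Finite := G.s.finite_appTop
    have h2 : G.s.appTop.hom.Flat := G.s.flat_appTop
    have h3 : G.s.appTop.hom.FinitePresentation :=
      (HasRingHomProperty.iff_of_isAffine (P := @LocallyOfFinitePresentation)).1 ‹_›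
    algebraize [G.s.appTop.hom]
    have : Module.FinitePresentation Γ(G.U, ⊤) Γ(G.R, ⊤) :=
      Module.FinitePresentation.of_finite_of_finitePresentation _ _
    exact Module.Flat.projective_of_finitePresentation (R := Γ(G.U, ⊤)) (M := Γ(G.R, ⊤))
  gen := surjective_lift_t_s G
  int a := (isIntegral_invariants G).isIntegral a
  orbit p q _ _ h := exists_prime_of_comap_eq p q h

/-- `A ⊗ A` over the invariants is `B`. -/
theorem bijective_tensorHom :
    Function.Bijective (AffData.tensorHom (affData G) G.invariants fun _ => Iff.rfl) :=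
  ⟨(isRel G).injective_tensorHom fun _ => Iff.rfl, (isRel G).surjective_tensorHom fun _ => Iff.rfl⟩

theorem flat_invariants : Module.Flat G.invariants Γ(G.U, ⊤) := (isRel G).flat fun _ => Iff.rfl

theorem flat_subtype : G.invariants.subtype.Flat := flat_invariants G

attribute [local instance] AffData.algB

theorem finite_finitePresentation_subtype :
    G.invariants.subtype.Finite ∧ G.invariants.subtype.FinitePresentation := by
  let K := G.invariants
  let A : Type u := Γ(G.U, ⊤)
  have : Module.Flat K A := flat_invariants G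
  have : Module.FaithfullyFlat K A :=
    Module.FaithfullyFlat.of_comap_surjective fun p => surjective_comap_invariants (G := G) p
  let D := affData G
  let φ := AffData.tensorHom D K fun _ => Iff.rfl
  have hrel := isRel G
  let B : Type u := Γ(G.R, ⊤)
  let : Algebra A B := G.s.appTop.hom.toAlgebra
  have : Module.Finite A B := hrel.fin
  have : Module.Projective A B := hrel.proj
  -- `A ⊗ A` with its right module structure is `B`
  let φ' : A ⊗[K] A →+* B := φ.toRingHom
  have hφ' : ∀ x y : A, φ' (x ⊗ₜ[K] y) = G.t.appTop.hom x * G.s.appTop.hom y := fun x y => by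
    simp [φ', φ, AffData.tensorHom, AffData.sK, AffData.tK]
    rfl
  let g : A ⊗[K] A →+* B := φ'.comp (Algebra.TensorProduct.comm K A A).toRingHom
  have hg : ∀ a : A, g (algebraMap A (A ⊗[K] A) a) = algebraMap A B a := fun a => by
    show φ' (Algebra.TensorProduct.comm K A A (a ⊗ₜ[K] (1 : A))) = G.s.appTop.hom a
    rw [Algebra.TensorProduct.comm_tmul, hφ', map_one, one_mul]
  have hbij : Function.Bijective g :=
    (bijective_tensorHom G).comp (Algebra.TensorProduct.comm K A A).bijective
  let e : A ⊗[K] A ≃ₗ[A] B :=
    (AlgEquiv.ofBijective ({ g with commutes' := hg } : A ⊗[K] A →ₐ[A] B) hbij).toLinearEquiv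
  have hfp : Module.FinitePresentation A B := Module.finitePresentation_of_projective A B
  have : Module.Finite A (A ⊗[K] A) := Module.Finite.equiv e.symm
  have : Module.FinitePresentation A (A ⊗[K] A) := Module.FinitePresentation.of_equiv e.symm
  have h1 : Algebra.FinitePresentation A (A ⊗[K] A) := Algebra.FinitePresentation.of_finitePresentation _ _
  have h2 : Module.Finite K A := Module.Finite.of_finite_tensorProduct_of_faithfullyFlat A
  exact ⟨h2, Algebra.FinitePresentation.of_finitePresentation_tensorProduct_of_faithfullyFlat A⟩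

theorem toQuot_finLocFree : IsFinite G.toQuot ∧ Flat G.toQuot ∧ LocallyOfFinitePresentation G.toQuot := by
  obtain ⟨h1, h2⟩ := finite_finitePresentation_subtype G
  rw [isoSpec_hom_toQuot, MorphismProperty.cancel_left_of_respectsIso (P := @IsFinite),
    MorphismProperty.cancel_left_of_respectsIso (P := @Flat),
    MorphismProperty.cancel_left_of_respectsIso (P := @LocallyOfFinitePresentation),
    IsFinite.SpecMap_iff, HasRingHomProperty.Spec_iff (P := @Flat),
    HasRingHomProperty.Spec_iff (P := @LocallyOfFinitePresentation)]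
  exact ⟨h1, flat_subtype G, h2⟩

theorem isPullback_toQuot : IsPullback G.t G.s G.toQuot G.toQuot := by
  let K := G.invariants
  let A : Type u := Γ(G.U, ⊤)
  let D := affData G
  let : Algebra K D.B := AffData.algB D K
  let φ : A ⊗[K] A →+* D.B := (AffData.tensorHom D K fun _ => Iff.rfl).toRingHom
  let c := CommRingCat.ofHom G.invariants.subtype
  have hpo : IsPushout c c G.t.appTop G.s.appTop := by
    refine IsPushout.of_iso (CommRingCat.isPushout_tensorProduct K A A) (Iso.refl _) (Iso.refl _) (Iso.refl _)
      (RingEquiv.ofBijective φ (bijective_tensorHom G)).toCommRingCatIso ?_ ?_ ?_ ?_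
    · rfl
    · rfl
    · ext a
      show φ ((a : A) ⊗ₜ[K] (1 : A)) = D.t a
      simp [φ, AffData.tensorHom, AffData.tK, AffData.sK]
      erw [Algebra.TensorProduct.lift_tmul]
      show D.t a * D.s (1 : A) = D.t a
      erw [map_one, mul_one]
    · ext a
      show φ ((1 : A) ⊗ₜ[K] (a : A)) = D.s a
      simp [φ, AffData.tensorHom, AffData.tK, AffData.sK]
      erw [Algebra.TensorProduct.lift_tmul]
      show D.t (1 : A) * D.s a = D.s a
      erw [map_one, one_mul]
  refine IsPullback.of_iso (isPullback_SpecMap_of_isPushout c c G.t.appTop G.s.appTop hpo)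
    G.R.isoSpec.symm G.U.isoSpec.symm G.U.isoSpec.symm (Iso.refl _) ?_ ?_ ?_ ?_
  · simp [Scheme.isoSpec_inv_naturality]
  · simp [Scheme.isoSpec_inv_naturality]
  · simp [isoSpec_hom_toQuot, c]
  · simp [isoSpec_hom_toQuot, c]

end Groth.Agent.GrpdLib
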