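import Mathlib

/-!
# Norms and characteristic polynomials through frames

A frame of a ring map `α : A → B` exhibits `B` as a direct summand of `Aⁿ`.  It gives a matrix for the
multiplication by every `b : B`; the resulting norm does not depend on the frame and the characteristic
polynomial only depends on `n`.
-/

set_option backward.isDefEq.respectTransparency false
set_option backward.isDefEq.respectTransparency.types false

universe u

open Polynomial Matrix

namespace Groth.Agent.GrpdLib

/-- A finite dual family for `α`. -/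
structure Frame {A B : Type u} [CommRing A] [CommRing B] (α : A →+* B) (n : ℕ) where
  /-- the vectors -/
  u : Fin n → B
  /-- the coordinate functions -/
  v : Fin n → B →+ A
  v_smul : ∀ i a x, v i (α a * x) = a * v i x
  sum_v : ∀ x, ∑ i, α (v i x) * u i = x

namespace Frame

variable {A B : Type u} [CommRing A] [CommRing B] {α : A →+* B} {n n' : ℕ}

/-- The matrix of the multiplication by `b`. -/
def mat (F : Frame α n) (b : B) : Matrix (Fin n) (Fin n) A := fun i j => F.v i (b * F.u j)

theorem mat_apply (F : Frame α n) (b : B) (i j : Fin n) : F.mat b i j = F.v i (b * F.u j) := rfl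

theorem v_mul (F : Frame α n) (i : Fin n) (b x : B) : ∑ j, F.v i (b * F.u j) * F.v j x = F.v i (b * x) := by
  conv_rhs => rw [← F.sum_v x, Finset.mul_sum, map_sum]
  refine Finset.sum_congr rfl fun j _ => ?_
  rw [mul_comm (F.v i _), ← F.v_smul]
  congr 1
  ring

theorem mat_mul (F : Frame α n) (b b' : B) : F.mat (b * b') = F.mat b * F.mat b' := by
  ext i k
  simp only [Matrix.mul_apply, mat_apply, F.v_mul, mul_assoc]

theorem mat_add (F : Frame α n) (b b' : B) : F.mat (b + b') = F.mat b + F.mat b' := by
  ext i j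
  simp [mat_apply, add_mul]

theorem mat_zero (F : Frame α n) : F.mat 0 = 0 := by
  ext i j
  simp [mat_apply]

theorem mat_smul (F : Frame α n) (a : A) (b : B) : F.mat (α a * b) = a • F.mat b := by
  ext i j
  simp [mat_apply, mul_assoc, F.v_smul]

theorem mat_injective (F : Frame α n) {b : B} (h : F.mat b = 0) : b = 0 := by
  have h1 : ∀ j, b * F.u j = 0 := fun j => by
    rw [← F.sum_v (b * F.u j)]
    exact Finset.sum_eq_zero fun i _ => by rw [← F.mat_apply b i j, h]; simp
  rw [← mul_one b, ← F.sum_v 1, Finset.mul_sum]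
  exact Finset.sum_eq_zero fun i _ => by rw [mul_left_comm, h1, mul_zero]

/-- The norm. -/
def norm (F : Frame α n) (b : B) : A := (1 + F.mat (b - 1)).det

theorem one_add_mat_mul (F : Frame α n) (b b' : B) :
    (1 + F.mat (b - 1)) * (1 + F.mat (b' - 1)) = 1 + F.mat (b * b' - 1) := by
  rw [show b * b' - 1 = (b - 1) * (b' - 1) + (b - 1) + (b' - 1) by ring, F.mat_add, F.mat_add, F.mat_mul]
  simp only [add_mul, mul_add, one_mul, mul_one]
  abel

theorem norm_one (F : Frame α n) : F.norm 1 = 1 := by rw [norm, sub_self, mat_zero, add_zero, det_one]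

theorem norm_mul (F : Frame α n) (b b' : B) : F.norm (b * b') = F.norm b * F.norm b' := by
  rw [norm, norm, norm, ← det_mul, one_add_mat_mul]

theorem isUnit_norm (F : Frame α n) {b : B} (h : IsUnit b) : IsUnit (F.norm b) := by
  obtain ⟨c, hc⟩ := isUnit_iff_exists_inv.1 h
  exact isUnit_iff_exists_inv.2 ⟨F.norm c, by rw [← norm_mul, hc, norm_one]⟩

/-- The transition matrix. -/
def trans (F : Frame α n) (F' : Frame α n') (b : B) : Matrix (Fin n) (Fin n') A :=
  Matrix.of fun i j => F.v i (b * F'.u j)

theorem mat_eq_mul (F : Frame α n) (F' : Frame α n') (b : B) :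
    F.mat b = F.trans F' b * F'.trans F 1 := by
  ext i k
  simp only [Matrix.mul_apply, mat_apply, trans, Matrix.of_apply, one_mul]
  conv_lhs => rw [← F'.sum_v (F.u k), Finset.mul_sum, map_sum]
  refine Finset.sum_congr rfl fun j _ => ?_
  rw [mul_comm (F.v i _), ← F.v_smul]
  congr 1
  ring

theorem mul_eq_mat (F : Frame α n) (F' : Frame α n') (b : B) :
    F'.trans F 1 * F.trans F' b = F'.mat b := by
  ext i k
  simp only [Matrix.mul_apply, mat_apply, trans, Matrix.of_apply, one_mul]
  conv_rhs => rw [← F.sum_v (b * F'.u k), map_sum]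
  refine Finset.sum_congr rfl fun j _ => ?_
  rw [F'.v_smul, mul_comm]

theorem norm_eq (F : Frame α n) (F' : Frame α n') (b : B) : F.norm b = F'.norm b := by
  rw [norm, norm, F.mat_eq_mul F', det_one_add_mul_comm, F.mul_eq_mat F']

/-- The characteristic polynomial of the multiplication, padded to degree `n`. -/
noncomputable def cp (F : Frame α n) (b : B) : A[X] := (F.mat b).charpoly

theorem cp_monic (F : Frame α n) (b : B) : (F.cp b).Monic := charpoly_monic _

theorem cp_eq (F F' : Frame α n) (b : B) : F.cp b = F'.cp b := by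
  rw [cp, cp, F.mat_eq_mul F', charpoly_mul_comm, F.mul_eq_mat F']

theorem mat_pow_succ (F : Frame α n) (b : B) : ∀ k : ℕ, F.mat b ^ (k + 1) = F.mat (b ^ (k + 1))
  | 0 => by rw [pow_one, pow_one]
  | k + 1 => by rw [pow_succ, mat_pow_succ F b k, ← mat_mul, ← pow_succ]

theorem mat_pow (F : Frame α n) (b : B) (k : ℕ) : F.mat 1 * F.mat b ^ k * F.mat 1 = F.mat (b ^ k) := by
  cases k with
  | zero => rw [pow_zero, mul_one, pow_zero, ← mat_mul, one_mul]
  | succ k => rw [mat_pow_succ, ← mat_mul, ← mat_mul, one_mul, mul_one]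

theorem aeval_cp (F : Frame α n) (b : B) : (F.cp b).eval₂ α b = 0 := by
  refine F.mat_injective ?_
  let φ : B →+ Matrix (Fin n) (Fin n) A := ⟨⟨F.mat, F.mat_zero⟩, F.mat_add⟩
  have h : F.mat 1 * aeval (F.mat b) (F.cp b) * F.mat 1 = 0 := by
    rw [cp, aeval_self_charpoly, mul_zero, zero_mul]
  rw [Polynomial.eval₂_eq_sum_range, ← h, Polynomial.aeval_eq_sum_range, Finset.mul_sum, Finset.sum_mul]
  refine (map_sum φ _ _).trans (Finset.sum_congr rfl fun k _ => ?_)
  rw [Matrix.mul_smul, Matrix.smul_mul, F.mat_pow]
  exact F.mat_smul _ _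

variable {A' B' : Type u} [CommRing A'] [CommRing B'] {α' : A' →+* B'}

/-- `F'` is the image of `F` along a morphism of ring maps. -/
structure IsMap (F : Frame α n) (F' : Frame α' n) (h : A →+* A') (g : B →+* B') : Prop where
  u_eq : ∀ i, F'.u i = g (F.u i)
  v_eq : ∀ i x, F'.v i (g x) = h (F.v i x)

theorem IsMap.mat {F : Frame α n} {F' : Frame α' n} {h : A →+* A'} {g : B →+* B'} (H : IsMap F F' h g)
    (b : B) : F'.mat (g b) = (F.mat b).map h := by
  ext i j
  simp [mat_apply, H.u_eq, ← map_mul, H.v_eq]

theorem IsMap.norm {F : Frame α n} {F' : Frame α' n} {h : A →+* A'} {g : B →+* B'} (H : IsMap F F' h g)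
    (b : B) : F'.norm (g b) = h (F.norm b) := by
  rw [Frame.norm, Frame.norm, ← map_one g, ← map_sub, H.mat, h.map_det, RingHom.mapMatrix_apply,
    Matrix.map_add _ h.map_add, Matrix.map_one _ h.map_zero h.map_one]

theorem IsMap.cp {F : Frame α n} {F' : Frame α' n} {h : A →+* A'} {g : B →+* B'} (H : IsMap F F' h g)
    (b : B) : F'.cp (g b) = (F.cp b).map h := by
  rw [Frame.cp, Frame.cp, H.mat, charpoly_map]

/-- If a point of the source ring kills `b`, its restriction kills the norm of `b`. -/
theorem norm_eq_zero {K : Type u} [CommRing K] (F : Frame α n) (χ : B →+* K) (h : A →+* K)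
    (hχ : χ.comp α = h) {b : B} (hb : χ b = 0) : h (F.norm b) = 0 := by
  let r : Fin n → K := fun j => χ (F.u j)
  let N := (1 + F.mat (b - 1)).map h
  have hα : ∀ a, χ (α a) = h a := fun a => congrArg (fun φ => φ a) hχ
  have hr : r ᵥ* N = 0 := by
    funext j
    have h1 : ∀ c : B, ∑ i, r i * h (F.mat c i j) = χ (c * F.u j) := fun c => by
      conv_rhs => rw [← F.sum_v (c * F.u j), map_sum]
      exact Finset.sum_congr rfl fun i _ => by rw [map_mul, hα, mul_comm]; rfl
    simp only [vecMul, dotProduct, N, Matrix.map_apply, Matrix.add_apply, map_add, mul_add,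
      Finset.sum_add_distrib, h1, Pi.zero_apply]
    rw [sub_mul, one_mul, map_sub, map_mul, hb, zero_mul, zero_sub]
    simp [Matrix.one_apply, r, apply_ite h]
  have h2 : N.det • r = 0 := by
    have := congrArg (fun w => w ᵥ* N.adjugate) hr
    simpa [vecMul_vecMul, mul_adjugate, vecMul_smul] using this
  have h3 : h (F.norm b) = N.det := by
    rw [norm, h.map_det, RingHom.mapMatrix_apply]
  rw [h3, ← mul_one N.det, ← map_one χ, ← F.sum_v 1, map_sum, Finset.mul_sum]
  refine Finset.sum_eq_zero fun i _ => ?_
  rw [map_mul, mul_left_comm]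
  have := congrArg (fun w => w i) h2
  simp only [Pi.smul_apply, smul_eq_mul, r, Pi.zero_apply] at this
  rw [this, mul_zero]

end Frame

/-- Finite projective algebras have frames. -/
theorem exists_frame {A B : Type u} [CommRing A] [CommRing B] [Algebra A B] [Module.Finite A B]
    [Module.Projective A B] : ∃ n, Nonempty (Frame (algebraMap A B) n) := by
  classical
  obtain ⟨n, f, g, -, -, hfg⟩ := Module.Finite.exists_comp_eq_id_of_projective A B
  refine ⟨n, ⟨⟨fun i => f (Pi.single i 1), fun i => ((LinearMap.proj i).comp g).toAddMonoidHom,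
    fun i a x => ?_, fun x => ?_⟩⟩⟩
  · simp [← Algebra.smul_def]
  · conv_rhs => rw [← LinearMap.id_apply (R := A) x, ← hfg, LinearMap.comp_apply,
      pi_eq_sum_univ (g x), map_sum]
    refine Finset.sum_congr rfl fun i _ => ?_
    rw [map_smul, Algebra.smul_def]
    have : (fun j => if i = j then (1 : A) else 0) = Pi.single i 1 := by
      ext j
      simp [Pi.single_apply, eq_comm]
    rw [this]
    rfl

/-- The base change of a frame. -/
theorem Frame.exists_isMap {A B A' B' : Type u} [CommRing A] [CommRing B] [CommRing A'] [CommRing B']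
    {α : A →+* B} {α' : A' →+* B'} {n : ℕ} (F : Frame α n) (h : A →+* A') (g : B →+* B')
    (hpo : CategoryTheory.IsPushout (CommRingCat.ofHom h) (CommRingCat.ofHom α) (CommRingCat.ofHom α')
      (CommRingCat.ofHom g)) :
    ∃ F' : Frame α' n, Frame.IsMap F F' h g := by
  algebraize [h, α, α', g, α'.comp h]
  have htow : IsScalarTower A B B' := IsScalarTower.of_algebraMap_eq' (by
    have := congrArg CommRingCat.Hom.hom hpo.w
    exact this)
  have hpush : Algebra.IsPushout A A' B B' := CommRingCat.isPushout_iff_isPushout.1 hpo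
  have hbc : IsBaseChange A' (IsScalarTower.toAlgHom A B B').toLinearMap := hpush.out
  let v₀ : Fin n → B →ₗ[A] A := fun i =>
    { toFun := F.v i
      map_add' := (F.v i).map_add
      map_smul' := fun a x => by
        rw [Algebra.smul_def, RingHom.id_apply, smul_eq_mul]
        exact F.v_smul i a x }
  let w : Fin n → B' →ₗ[A'] A' := fun i => hbc.lift ((Algebra.linearMap A A').comp (v₀ i))
  have hw : ∀ i x, w i (g x) = h (F.v i x) := fun i x => hbc.lift_eq _ x
  refine ⟨⟨fun i => g (F.u i), fun i => (w i).toAddMonoidHom, fun i a x => ?_, fun x => ?_⟩,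
    fun i => rfl, hw⟩
  · exact ((w i).map_smul a x).trans (by rfl)
  · induction x using hbc.inductionOn with
    | zero => simp
    | tmul y =>
      change ∑ i, α' (w i (g y)) * g (F.u i) = g y
      conv_rhs => rw [← F.sum_v y, map_sum]
      refine Finset.sum_congr rfl fun i _ => ?_
      rw [hw, map_mul]
      congr 1
      exact congrArg (fun φ => φ.hom (F.v i y)) hpo.w
    | smul a y hy =>
      simp only [LinearMap.toAddMonoidHom_coe, LinearMap.map_smul, smul_eq_mul, map_mul, mul_assoc,
        ← Finset.mul_sum] at hy ⊢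
      rw [hy, Algebra.smul_def]
      rfl
    | add y z hy hz =>
      simp only [map_add, add_mul, Finset.sum_add_distrib, hy, hz]

end Groth.Agent.GrpdLib
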