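import Groth.Prelude.Def_Grpd
import Groth.Agent.GrpdLib.Frame

/-!
# Finite locally free groupoids on affine schemes
-/

set_option backward.isDefEq.respectTransparency false
set_option backward.isDefEq.respectTransparency.types false

universe u

open CategoryTheory CategoryTheory.Limits AlgebraicGeometry Grpd Polynomial

namespace Groth.Agent.GrpdLib

/-- The rings and maps underlying an affine groupoid. -/
structure AffData where
  A : Type u
  [instA : CommRing A]
  B : Type u
  [instB : CommRing B]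
  C : Type u
  [instC : CommRing C]
  s : A →+* B
  t : A →+* B
  e : B →+* A
  p₁ : B →+* C
  p₂ : B →+* C
  m : B →+* C
  e_s : e.comp s = RingHom.id A
  e_t : e.comp t = RingHom.id A
  m_t : m.comp t = p₁.comp t
  sq₁ : IsPushout (CommRingCat.ofHom t) (CommRingCat.ofHom s) (CommRingCat.ofHom p₂) (CommRingCat.ofHom p₁)
  sq₂ : IsPushout (CommRingCat.ofHom s) (CommRingCat.ofHom s) (CommRingCat.ofHom p₂) (CommRingCat.ofHom m)

attribute [instance] AffData.instA AffData.instB AffData.instC

namespace AffData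

variable (D : AffData.{u})

theorem m_t_apply (a : D.A) : D.m (D.t a) = D.p₁ (D.t a) := congrArg (fun φ => φ a) D.m_t

theorem e_s_apply (a : D.A) : D.e (D.s a) = a := congrArg (fun φ => φ a) D.e_s

theorem e_t_apply (a : D.A) : D.e (D.t a) = a := congrArg (fun φ => φ a) D.e_t

variable {D} {n : ℕ} (F : Frame D.s n)

/-- The norm of the pullback along `t` is invariant. -/
theorem t_norm_eq (a : D.A) : D.t (F.norm (D.t a)) = D.s (F.norm (D.t a)) := by
  obtain ⟨F₁, H₁⟩ := F.exists_isMap D.t D.p₁ D.sq₁
  obtain ⟨F₂, H₂⟩ := F.exists_isMap D.s D.m D.sq₂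
  rw [← H₁.norm, ← H₂.norm, D.m_t_apply]
  exact F₁.norm_eq F₂ _

/-- The characteristic polynomial of the pullback along `t` has invariant coefficients. -/
theorem cp_map_eq (a : D.A) : (F.cp (D.t a)).map D.t = (F.cp (D.t a)).map D.s := by
  obtain ⟨F₁, H₁⟩ := F.exists_isMap D.t D.p₁ D.sq₁
  obtain ⟨F₂, H₂⟩ := F.exists_isMap D.s D.m D.sq₂
  rw [← H₁.cp, ← H₂.cp, D.m_t_apply]
  exact F₁.cp_eq F₂ _

theorem eval_cp (a : D.A) : (F.cp (D.t a)).eval a = 0 := by
  have h := congrArg D.e (F.aeval_cp (D.t a))
  rwa [Polynomial.hom_eval₂, D.e_s, map_zero, D.e_t_apply] at h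

include F in
theorem isIntegralElem (K : Subring D.A) (hK : ∀ x, D.s x = D.t x → x ∈ K) (a : D.A) :
    IsIntegral K a := by
  let P := (F.cp (D.t a))
  have hco : ∀ k, P.coeff k ∈ K := fun k => hK _ (by
    have := congrArg (fun Q => Q.coeff k) (cp_map_eq F a)
    simpa only [Polynomial.coeff_map] using this.symm)
  have hlift : P ∈ Polynomial.lifts K.subtype := by
    rw [Polynomial.lifts_iff_coeff_lifts]
    exact fun k => ⟨⟨_, hco k⟩, rfl⟩
  rcases subsingleton_or_nontrivial D.A with _ | _
  · exact ⟨X, monic_X, Subsingleton.elim _ _⟩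
  obtain ⟨q, hq, -, hmon⟩ := Polynomial.lifts_and_degree_eq_and_monic hlift (F.cp_monic _)
  refine ⟨q, hmon, ?_⟩
  rw [← Polynomial.eval_map]
  exact (congrArg (fun Q => Polynomial.eval a Q) hq).trans (eval_cp F a)

/-- If no point of the fibre over `q` kills `t a`, the norm does not vanish at `q`. -/
theorem norm_notMem (q : Ideal D.A) [q.IsPrime] (a : D.A)
    (h : ∀ r : Ideal D.B, r.IsPrime → r.comap D.s = q → D.t a ∉ r) : F.norm (D.t a) ∉ q := by
  let K := q.ResidueField
  algebraize [D.s]
  let B' := TensorProduct D.A K D.B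
  let g : D.B →+* B' := (Algebra.TensorProduct.includeRight : D.B →ₐ[D.A] B').toRingHom
  have hpo : IsPushout (CommRingCat.ofHom (algebraMap D.A K)) (CommRingCat.ofHom D.s)
      (CommRingCat.ofHom (algebraMap K B')) (CommRingCat.ofHom g) := CommRingCat.isPushout_tensorProduct D.A K D.B
  obtain ⟨F', H⟩ := F.exists_isMap _ g hpo
  intro hmem
  have hunit : IsUnit (g (D.t a)) := by
    by_contra hnu
    obtain ⟨M, hM, haM⟩ := exists_max_ideal_of_mem_nonunits hnu
    refine h (M.comap g) (Ideal.comap_isPrime g M) ?_ haM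
    have hw : g.comp D.s = (algebraMap K B').comp (algebraMap D.A K) :=
      (congrArg CommRingCat.Hom.hom hpo.w).symm
    rw [Ideal.comap_comap, hw, ← Ideal.comap_comap,
      Ideal.eq_bot_of_prime (M.comap (algebraMap K B'))]
    exact Ideal.ker_algebraMap_residueField q
  have h1 := F'.isUnit_norm hunit
  rw [H.norm, Ideal.algebraMap_residueField_eq_zero.2 hmem] at h1
  exact not_isUnit_zero h1

/-- A point killing `t a` kills the norm. -/
theorem norm_mem (r : Ideal D.B) (a : D.A) (h : D.t a ∈ r) : F.norm (D.t a) ∈ r.comap D.s := by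
  have := F.norm_eq_zero (Ideal.Quotient.mk r) ((Ideal.Quotient.mk r).comp D.s) rfl
    (Ideal.Quotient.eq_zero_iff_mem.2 h)
  exact (Ideal.Quotient.eq_zero_iff_mem (I := r)).1 this

end AffData

section Geometry

variable {S : Scheme.{u}} (G : GroupoidScheme S)

theorem lift_comp_c {T T' : Scheme.{u}} (φ : T' ⟶ T) (α β : T ⟶ G.R) (h : α ≫ G.s = β ≫ G.t) :
    φ ≫ pullback.lift α β h ≫ G.c =
      pullback.lift (φ ≫ α) (φ ≫ β) (by rw [Category.assoc, Category.assoc, h]) ≫ G.c := by
  rw [← Category.assoc]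
  congr 1
  apply pullback.hom_ext <;> simp

theorem c_s : G.c ≫ G.s = pullback.snd G.s G.t ≫ G.s := by
  have := G.comp_s (pullback.fst G.s G.t) (pullback.snd G.s G.t) pullback.condition
  rwa [show pullback.lift (pullback.fst G.s G.t) (pullback.snd G.s G.t) pullback.condition = 𝟙 _ by
    apply pullback.hom_ext <;> simp, Category.id_comp] at this

theorem c_t : G.c ≫ G.t = pullback.fst G.s G.t ≫ G.t := by
  have := G.comp_t (pullback.fst G.s G.t) (pullback.snd G.s G.t) pullback.condition
  rwa [show pullback.lift (pullback.fst G.s G.t) (pullback.snd G.s G.t) pullback.condition = 𝟙 _ by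
    apply pullback.hom_ext <;> simp, Category.id_comp] at this

/-- Composition and second projection make the composable pairs a base change of `s` along `s`. -/
theorem isPullback_snd_c : IsPullback (pullback.snd G.s G.t) G.c G.s G.s := by
  refine ⟨⟨(c_s G).symm⟩, ⟨PullbackCone.IsLimit.mk _
    (fun p => pullback.lift (pullback.lift p.snd (p.fst ≫ G.i) (by rw [Category.assoc, G.i_t]; exact p.condition.symm) ≫ G.c)
      p.fst (by rw [G.comp_s, Category.assoc, G.i_s]))
    (fun p => pullback.lift_snd _ _ _) (fun p => ?_) fun p l h1 h2 => ?_⟩⟩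
  · rw [G.assoc _ _ _ _ (by rw [Category.assoc, G.i_s])]
    simp only [G.i_comp]
    have hc : p.fst ≫ G.s ≫ G.e = p.snd ≫ G.s ≫ G.e := by rw [← Category.assoc, p.condition, Category.assoc]
    simp only [hc]
    exact G.comp_e p.snd
  · apply pullback.hom_ext
    · simp only [pullback.lift_fst]
      have hl : l ≫ G.c = pullback.lift (l ≫ pullback.fst G.s G.t) (l ≫ pullback.snd G.s G.t)
          (by rw [Category.assoc, Category.assoc, pullback.condition]) ≫ G.c := by
        congr 1
        apply pullback.hom_ext <;> simp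
      simp only [← h2, hl, ← h1]
      rw [G.assoc _ _ _ _ (by simp only [Category.assoc, G.i_t])]
      simp only [G.comp_i]
      have hc : (l ≫ pullback.snd G.s G.t) ≫ G.t ≫ G.e = (l ≫ pullback.fst G.s G.t) ≫ G.s ≫ G.e := by
        simp [pullback.condition_assoc]
      simp only [hc]
      exact (G.comp_e _).symm
    · simpa using h1

variable [IsAffine G.U] [IsAffine G.R]

/-- The data of an affine groupoid. -/
noncomputable def affData : AffData.{u} where
  A := Γ(G.U, ⊤)
  B := Γ(G.R, ⊤)
  C := Γ(pullback G.s G.t, ⊤)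
  s := G.s.appTop.hom
  t := G.t.appTop.hom
  e := G.e.appTop.hom
  p₁ := (pullback.fst G.s G.t).appTop.hom
  p₂ := (pullback.snd G.s G.t).appTop.hom
  m := G.c.appTop.hom
  e_s := by
    rw [← CommRingCat.hom_comp, ← Scheme.Hom.comp_appTop, G.e_s]
    rfl
  e_t := by
    rw [← CommRingCat.hom_comp, ← Scheme.Hom.comp_appTop, G.e_t]
    rfl
  m_t := by
    rw [← CommRingCat.hom_comp, ← Scheme.Hom.comp_appTop, c_t]
    rfl
  sq₁ := isPushout_appTop_of_isPullback (IsPullback.of_hasPullback G.s G.t).flip
  sq₂ := isPushout_appTop_of_isPullback (isPullback_snd_c G)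

theorem mem_invariants_iff (a : Γ(G.U, ⊤)) : a ∈ G.invariants ↔ (affData G).s a = (affData G).t a :=
  Iff.rfl

variable [IsFinite G.s] [Flat G.s] [LocallyOfFinitePresentation G.s]

theorem exists_frame_affData : ∃ n, Nonempty (Frame (affData G).s n) := by
  have h1 : G.s.appTop.hom.Finite := G.s.finite_appTop
  have h2 : G.s.appTop.hom.Flat := G.s.flat_appTop
  have h3 : G.s.appTop.hom.FinitePresentation :=
    (HasRingHomProperty.iff_of_isAffine (P := @LocallyOfFinitePresentation)).1 ‹_›
  algebraize [G.s.appTop.hom]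
  have : Module.FinitePresentation Γ(G.U, ⊤) Γ(G.R, ⊤) :=
    Module.FinitePresentation.of_finite_of_finitePresentation _ _
  have : Module.Projective Γ(G.U, ⊤) Γ(G.R, ⊤) := Module.Flat.projective_of_finitePresentation
  exact exists_frame (A := Γ(G.U, ⊤)) (B := Γ(G.R, ⊤))

theorem isIntegral_invariants : Algebra.IsIntegral G.invariants Γ(G.U, ⊤) := by
  obtain ⟨n, ⟨F⟩⟩ := exists_frame_affData G
  exact ⟨fun a => AffData.isIntegralElem F G.invariants (fun x hx => (mem_invariants_iff G x).2 hx) a⟩

theorem normST_mem_invariants (f : Γ(G.U, ⊤)) : G.normST f ∈ G.invariants := by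
  classical
  let : Algebra Γ(G.U, ⊤) Γ(G.R, ⊤) := G.s.appTop.hom.toAlgebra
  rw [GroupoidScheme.normST]
  by_cases hb : ∃ s : Finset Γ(G.R, ⊤), Nonempty (Module.Basis s Γ(G.U, ⊤) Γ(G.R, ⊤))
  · obtain ⟨s, ⟨b⟩⟩ := hb
    let b' := b.reindex s.equivFin
    let F : Frame (affData G).s s.card :=
      { u := b'
        v := fun i => (b'.coord i).toAddMonoidHom
        v_smul := fun i a x => by
          exact ((b'.coord i).map_smul a x).trans (smul_eq_mul _ _)
        sum_v := fun x => (Finset.sum_congr rfl fun i _ => (Algebra.smul_def _ _).symm).trans (b'.sum_repr x) }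
    have hn : ∀ x : Γ(G.R, ⊤), Algebra.norm Γ(G.U, ⊤) x = F.norm x := by
      intro x
      rw [Algebra.norm_eq_matrix_det b', Frame.norm]
      congr 1
      ext i j
      rw [Matrix.add_apply, Frame.mat_apply, sub_mul, one_mul, map_sub, Algebra.leftMulMatrix_eq_repr_mul]
      have h1 : F.v i (F.u j) = (1 : Matrix (Fin s.card) (Fin s.card) Γ(G.U, ⊤)) i j := by
        show b'.repr (b' j) i = _
        rw [Module.Basis.repr_self, Finsupp.single_apply, Matrix.one_apply]
        simp [eq_comm]
      rw [h1]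
      simp only [add_sub_cancel]
      rfl
    erw [hn, mem_invariants_iff]
    exact (AffData.t_norm_eq F f).symm
  · erw [Algebra.norm_eq_one_of_not_exists_basis Γ(G.U, ⊤) hb]
    exact one_mem G.invariants

variable {G}

theorem surjective_comap_invariants :
    Function.Surjective (PrimeSpectrum.comap G.invariants.subtype) := by
  have := isIntegral_invariants G
  exact Algebra.IsIntegral.comap_surjective (R := G.invariants) (S := Γ(G.U, ⊤))

/-- Two primes with the same trace on the invariants are related by an arrow. -/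
theorem exists_prime_of_comap_eq (p q : Ideal Γ(G.U, ⊤)) [p.IsPrime] [q.IsPrime]
    (h : p.comap G.invariants.subtype = q.comap G.invariants.subtype) :
    ∃ r : Ideal Γ(G.R, ⊤), r.IsPrime ∧ r.comap G.t.appTop.hom = p ∧ r.comap G.s.appTop.hom = q := by
  classical
  have hint := isIntegral_invariants G
  obtain ⟨n, ⟨F⟩⟩ := exists_frame_affData G
  let O := {r : Ideal Γ(G.R, ⊤) | r.IsPrime ∧ r.comap G.s.appTop.hom = q}
  have hfin : G.s.appTop.hom.Finite := G.s.finite_appTop
  have hO : O.Finite := by
    algebraize [G.s.appTop.hom]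
    refine (Algebra.QuasiFinite.finite_primesOver (R := Γ(G.U, ⊤)) (S := Γ(G.R, ⊤)) q).subset fun r hr => ?_
    exact ⟨hr.1, ⟨hr.2.symm⟩⟩
  by_contra hne
  push Not at hne
  have hnle : ∀ r ∈ O, ¬ p ≤ r.comap G.t.appTop.hom := by
    intro r hr hle
    have := hr.1
    refine hne r hr.1 ?_ hr.2
    have hc : (r.comap G.t.appTop.hom).comap G.invariants.subtype = p.comap G.invariants.subtype := by
      rw [h, ← hr.2, Ideal.comap_comap, Ideal.comap_comap]
      congr 1
      ext a
      exact a.2.symm
    by_contra hlt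
    exact (Ideal.IsIntegral.comap_lt_comap (R := G.invariants) (lt_of_le_of_ne hle (Ne.symm hlt))).ne hc.symm
  obtain ⟨a, hap, ha⟩ : ∃ a ∈ p, ∀ r ∈ O, G.t.appTop.hom a ∉ r := by
    by_contra hall
    push Not at hall
    have hsub : (p : Set Γ(G.U, ⊤)) ⊆ ⋃ r ∈ (hO.toFinset : Set _), ((Ideal.comap G.t.appTop.hom r : Ideal _) : Set _) := by
      intro a ha
      obtain ⟨r, hr, har⟩ := hall a ha
      exact Set.mem_biUnion (hO.mem_toFinset.2 hr) har
    rcases hO.toFinset.eq_empty_or_nonempty with he | ⟨r₀, hr₀⟩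
    · rw [he] at hsub
      exact absurd (hsub p.zero_mem) (by simp)
    obtain ⟨r, hr, hle⟩ := (Ideal.subset_union_prime r₀ r₀ (fun r hr _ _ => by
      have := (hO.mem_toFinset.1 hr).1
      exact Ideal.comap_isPrime _ r)).1 hsub
    exact hnle r (hO.mem_toFinset.1 hr) hle
  have hc : F.norm (G.t.appTop.hom a) ∈ G.invariants :=
    (mem_invariants_iff G _).2 (AffData.t_norm_eq F a).symm
  have h1 : F.norm (G.t.appTop.hom a) ∈ p := by
    have h2 : (affData G).t a ∈ p.comap (affData G).e := by
      show (affData G).e ((affData G).t a) ∈ p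
      rwa [(affData G).e_t_apply]
    have h3 := AffData.norm_mem F _ a h2
    rwa [Ideal.comap_comap, (affData G).e_s, Ideal.comap_id] at h3
  have h4 : (⟨_, hc⟩ : G.invariants) ∈ q.comap G.invariants.subtype := h ▸ (show _ ∈ p.comap _ from h1)
  exact AffData.norm_notMem F q a (fun r hr hrq => ha r ⟨hr, hrq⟩) h4

end Geometry

end Groth.Agent.GrpdLib
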