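import Groth.Agent.GrpdLib.Frame

/-!
# Norms and primes in the fibres
-/

set_option backward.isDefEq.respectTransparency false
set_option backward.isDefEq.respectTransparency.types false

universe u

open CategoryTheory

namespace Groth.Agent.GrpdLib

variable {A B : Type u} [CommRing A] [CommRing B] [Algebra A B] {n : ℕ}

theorem Frame.exists_prime_iff_norm_mem (F : Frame (algebraMap A B) n) (q : Ideal A) [q.IsPrime] (a : B) :
    (∃ r : Ideal B, r.IsPrime ∧ r.comap (algebraMap A B) = q ∧ a ∈ r) ↔ F.norm a ∈ q := by
  constructor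
  · rintro ⟨r, hr, rfl, ha⟩
    have := F.norm_eq_zero (Ideal.Quotient.mk r) ((Ideal.Quotient.mk r).comp (algebraMap A B)) rfl
      (Ideal.Quotient.eq_zero_iff_mem.2 ha)
    exact (Ideal.Quotient.eq_zero_iff_mem (I := r)).1 this
  intro hmem
  by_contra hno
  let K := q.ResidueField
  let B' := TensorProduct A K B
  let g : B →+* B' := (Algebra.TensorProduct.includeRight : B →ₐ[A] B').toRingHom
  have hpo : IsPushout (CommRingCat.ofHom (algebraMap A K)) (CommRingCat.ofHom (algebraMap A B))
      (CommRingCat.ofHom (algebraMap K B')) (CommRingCat.ofHom g) := CommRingCat.isPushout_tensorProduct A K B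
  obtain ⟨F', H⟩ := F.exists_isMap _ g hpo
  have hunit : IsUnit (g a) := by
    by_contra hnu
    obtain ⟨M, hM, haM⟩ := exists_max_ideal_of_mem_nonunits hnu
    refine hno ⟨M.comap g, Ideal.comap_isPrime g M, ?_, haM⟩
    have hw : g.comp (algebraMap A B) = (algebraMap K B').comp (algebraMap A K) :=
      (congrArg CommRingCat.Hom.hom hpo.w).symm
    rw [Ideal.comap_comap, hw, ← Ideal.comap_comap,
      Ideal.eq_bot_of_prime (M.comap (algebraMap K B'))]
    exact Ideal.ker_algebraMap_residueField q
  have h1 := F'.isUnit_norm hunit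
  rw [H.norm, Ideal.algebraMap_residueField_eq_zero.2 hmem] at h1
  exact not_isUnit_zero h1

theorem norm_eq_algebraNorm (F : Frame (algebraMap A B) n) [Module.Free A B] [Module.Finite A B] (a : B) :
    F.norm a = Algebra.norm A a := by
  classical
  let b := Module.Free.chooseBasis A B
  let e := Fintype.equivFin (Module.Free.ChooseBasisIndex A B)
  let c := b.reindex e
  let G : Frame (algebraMap A B) (Fintype.card (Module.Free.ChooseBasisIndex A B)) :=
    { u := c
      v := fun i => (c.coord i).toAddMonoidHom
      v_smul := fun i x y => by simp [← Algebra.smul_def]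
      sum_v := fun x => by
        simp only [← Algebra.smul_def]
        exact c.sum_repr x }
  have h1 : G.mat 1 = 1 := by
    ext i j
    simp [G, Frame.mat_apply, Matrix.one_apply, Finsupp.single_apply, eq_comm]
  have h2 : G.mat a = Algebra.leftMulMatrix c a := by
    ext i j
    simp [G, Frame.mat_apply, Algebra.leftMulMatrix_eq_repr_mul]
  rw [F.norm_eq G, Frame.norm, Algebra.norm_eq_matrix_det c, ← h2]
  conv_lhs => rw [← h1, ← Frame.mat_add, add_sub_cancel]

end Groth.Agent.GrpdLib
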