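import Groth.Prelude.Def_Grpd
import Groth.Agent.GrpdLib.NormPrimes
import Groth.Agent.GrpdLib.Affine

/-!
# Invariant open subschemes of a groupoid
-/

set_option backward.isDefEq.respectTransparency false
set_option backward.isDefEq.respectTransparency.types false

universe u

open CategoryTheory CategoryTheory.Limits AlgebraicGeometry Grpd

namespace Groth.Agent.GrpdLib

theorem mem_basicOpen_iff_notMem {X : Scheme.{u}} {V : X.Opens} (hV : IsAffineOpen V) (f : Γ(X, V)) (x : V) :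
    x.1 ∈ X.basicOpen f ↔ f ∉ (hV.primeIdealOf x).asIdeal := by
  have h : x.1 ∈ X.basicOpen f ↔ hV.primeIdealOf x ∈ hV.fromSpec ⁻¹ᵁ X.basicOpen f := by
    show _ ↔ hV.fromSpec (hV.primeIdealOf x) ∈ X.basicOpen f
    rw [hV.fromSpec_primeIdealOf]
  rw [h, hV.fromSpec_preimage_basicOpen]
  rfl

/-- A finite set in an affine open and inside an open lies in a basic open inside it. -/
theorem exists_basicOpen_of_finite {X : Scheme.{u}} {V : X.Opens} (hV : IsAffineOpen V) {O : Set X} (hO : O.Finite)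
    (W : X.Opens) (hOV : O ⊆ V) (hOW : O ⊆ W) : ∃ f : Γ(X, V), O ⊆ X.basicOpen f ∧ X.basicOpen f ≤ W := by
  classical
  obtain ⟨I, hI⟩ := (PrimeSpectrum.isClosed_iff_zeroLocus_ideal _).1 (hV.fromSpec ⁻¹ᵁ W).isOpen.isClosed_compl
  let P : X → Ideal Γ(X, V) := fun x => if h : x ∈ V then (hV.primeIdealOf ⟨x, h⟩).asIdeal else ⊤
  have hP : ∀ x (h : x ∈ V), P x = (hV.primeIdealOf ⟨x, h⟩).asIdeal := fun x h => dif_pos h
  have hne : ∀ x ∈ O, ¬ I ≤ P x := fun x hx hle => by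
    rw [hP x (hOV hx)] at hle
    have hm : hV.primeIdealOf ⟨x, hOV hx⟩ ∈ PrimeSpectrum.zeroLocus (I : Set Γ(X, V)) := hle
    rw [← hI] at hm
    apply hm
    show hV.fromSpec _ ∈ W
    rw [hV.fromSpec_primeIdealOf]
    exact hOW hx
  obtain ⟨f, hfI, hf⟩ : ∃ f ∈ I, ∀ x ∈ O, f ∉ P x := by
    by_contra h
    push Not at h
    have hsub : (I : Set Γ(X, V)) ⊆ ⋃ x ∈ (↑hO.toFinset : Set X), (P x : Set Γ(X, V)) := fun f hf => by
      obtain ⟨x, hx, hfx⟩ := h f hf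
      exact Set.mem_biUnion (by simpa using hx) hfx
    rcases O.eq_empty_or_nonempty with rfl | ⟨a, ha⟩
    · simpa using h 0 I.zero_mem
    obtain ⟨x, hx, hle⟩ := (Ideal.subset_union_prime a a fun x hx _ _ => by
      rw [hP x (hOV (hO.mem_toFinset.1 hx))]
      exact PrimeSpectrum.isPrime _).1 hsub
    exact hne x (hO.mem_toFinset.1 hx) hle
  refine ⟨f, fun x hx => ?_, fun x hx => ?_⟩
  · have := hf x hx
    rw [hP x (hOV hx)] at this
    exact (mem_basicOpen_iff_notMem hV f ⟨x, hOV hx⟩).2 this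
  · have hxV : x ∈ V := X.basicOpen_le f hx
    by_contra hxW
    have hm : hV.primeIdealOf ⟨x, hxV⟩ ∈ ((hV.fromSpec ⁻¹ᵁ W : (Spec Γ(X, V)).Opens) : Set (Spec Γ(X, V)))ᶜ := by
      show ¬ hV.fromSpec _ ∈ W
      rwa [hV.fromSpec_primeIdealOf]
    rw [hI] at hm
    exact (mem_basicOpen_iff_notMem hV f ⟨x, hxV⟩).1 hx (hm hfI)

/-- Along a finite locally free morphism, the points whose fibre lies in a basic open form a basic open. -/
theorem exists_norm_basicOpen {R U : Scheme.{u}} (s : R ⟶ U) [IsFinite s] [Flat s] [LocallyOfFinitePresentation s]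
    {D : U.Opens} (hD : IsAffineOpen D) (g : Γ(R, s ⁻¹ᵁ D)) :
    ∃ N : Γ(U, D), ∀ w : U, w ∈ U.basicOpen N ↔ w ∈ D ∧ ∀ r, s r = w → r ∈ R.basicOpen g := by
  have hB : IsAffineOpen (s ⁻¹ᵁ D) := hD.preimage s
  have h1 : (s.appLE D (s ⁻¹ᵁ D) le_rfl).hom.Finite := by
    rw [← Scheme.Hom.app_eq_appLE]
    exact s.finite_app D hD
  have h2 : (s.appLE D (s ⁻¹ᵁ D) le_rfl).hom.Flat := s.flat_appLE hD hB le_rfl
  have h3 : (s.appLE D (s ⁻¹ᵁ D) le_rfl).hom.FinitePresentation := s.finitePresentation_appLE hD hB le_rfl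
  let φ : Γ(U, D) →+* Γ(R, s ⁻¹ᵁ D) := (s.appLE D (s ⁻¹ᵁ D) le_rfl).hom
  algebraize [φ]
  have : Module.Finite Γ(U, D) Γ(R, s ⁻¹ᵁ D) := h1
  have : Module.Flat Γ(U, D) Γ(R, s ⁻¹ᵁ D) := h2
  have : Algebra.FinitePresentation Γ(U, D) Γ(R, s ⁻¹ᵁ D) := h3
  have : Module.FinitePresentation Γ(U, D) Γ(R, s ⁻¹ᵁ D) :=
    Module.FinitePresentation.of_finite_of_finitePresentation _ _
  have : Module.Projective Γ(U, D) Γ(R, s ⁻¹ᵁ D) := Module.Flat.projective_of_finitePresentation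
  obtain ⟨n, ⟨F⟩⟩ := exists_frame (A := Γ(U, D)) (B := Γ(R, s ⁻¹ᵁ D))
  refine ⟨F.norm g, fun w => ⟨fun hw => ⟨U.basicOpen_le _ hw, fun r hr => ?_⟩, fun ⟨hwD, hw⟩ => ?_⟩⟩
  · have hrB : r ∈ s ⁻¹ᵁ D := by show s r ∈ D; rw [hr]; exact U.basicOpen_le _ hw
    by_contra hg
    rw [mem_basicOpen_iff_notMem hB g ⟨r, hrB⟩, not_not] at hg
    subst hr
    refine (mem_basicOpen_iff_notMem hD _ ⟨s r, hrB⟩).1 hw ?_
    rw [← F.exists_prime_iff_norm_mem]
    refine ⟨_, PrimeSpectrum.isPrime _, ?_, hg⟩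
    exact congrArg PrimeSpectrum.asIdeal (IsAffineOpen.comap_primeIdealOf_appLE D hD (s ⁻¹ᵁ D) hB le_rfl hrB)
  · refine (mem_basicOpen_iff_notMem hD _ ⟨w, hwD⟩).2 fun hN => ?_
    rw [← F.exists_prime_iff_norm_mem] at hN
    obtain ⟨p, hp, hpq, hgp⟩ := hN
    let r : R := hB.fromSpec ⟨p, hp⟩
    have hrB : r ∈ s ⁻¹ᵁ D := hB.range_fromSpec.le ⟨_, rfl⟩
    have hP : hB.primeIdealOf ⟨r, hrB⟩ = ⟨p, hp⟩ :=
      hB.fromSpec.isOpenEmbedding.injective (by rw [hB.fromSpec_primeIdealOf])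
    have hsr : s r = w := by
      have := IsAffineOpen.comap_primeIdealOf_appLE D hD (s ⁻¹ᵁ D) hB le_rfl hrB
      rw [hP] at this
      have e : hD.primeIdealOf ⟨w, hwD⟩ = hD.primeIdealOf ⟨s r, hrB⟩ := by
        rw [← this]
        exact PrimeSpectrum.ext hpq.symm
      have := congrArg hD.fromSpec e
      rw [hD.fromSpec_primeIdealOf, hD.fromSpec_primeIdealOf] at this
      exact this.symm
    have h := (mem_basicOpen_iff_notMem hB g ⟨r, hrB⟩).1 (hw r hsr)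
    rw [hP] at h
    exact h hgp

variable {S : Scheme.{u}} (G : GroupoidScheme S)

/-- An open set saturated for the groupoid. -/
def IsInv (W : G.U.Opens) : Prop := G.s ⁻¹ᵁ W = G.t ⁻¹ᵁ W

variable {G}

theorem IsInv.mem_iff {W : G.U.Opens} (h : IsInv G W) (r : G.R) : G.s r ∈ W ↔ G.t r ∈ W :=
  SetLike.ext_iff.1 h r

theorem isInv_of_mem {W : G.U.Opens} (h : ∀ r : G.R, G.s r ∈ W → G.t r ∈ W) : IsInv G W := by
  refine TopologicalSpace.Opens.ext (Set.ext fun r => ⟨h r, fun hr => ?_⟩)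
  have := h (G.i r) (by rw [← Scheme.Hom.comp_apply, G.i_s]; exact hr)
  rwa [← Scheme.Hom.comp_apply, G.i_t] at this

variable (G)

theorem exists_comp (a b : G.R) (h : G.s a = G.t b) : ∃ r : G.R, G.t r = G.t a ∧ G.s r = G.s b := by
  obtain ⟨z, hz₁, hz₂⟩ := Scheme.Pullback.exists_preimage_pullback a b h
  refine ⟨G.c z, ?_, ?_⟩
  · rw [← hz₁, ← Scheme.Hom.comp_apply, ← Scheme.Hom.comp_apply]
    rw [c_t]
  · rw [← hz₂, ← Scheme.Hom.comp_apply, ← Scheme.Hom.comp_apply]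
    rw [c_s]

variable [IsFinite G.s]

/-- The largest invariant open inside an open. -/
def invCore (V : G.U.Opens) : G.U.Opens :=
  ⟨(G.s '' (G.t ⁻¹' (V : Set G.U))ᶜ)ᶜ,
    (G.s.isClosedMap _ (V.isOpen.preimage G.t.continuous).isClosed_compl).isOpen_compl⟩

variable {G}

theorem mem_invCore {V : G.U.Opens} {w : G.U} : w ∈ invCore G V ↔ ∀ r, G.s r = w → G.t r ∈ V :=
  ⟨fun h r hr => of_not_not fun hn => h ⟨r, hn, hr⟩, fun h ⟨r, hn, hr⟩ => hn (h r hr)⟩

theorem isInv_invCore (V : G.U.Opens) : IsInv G (invCore G V) := by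
  refine isInv_of_mem fun r hr => mem_invCore.2 fun r' hr' => ?_
  obtain ⟨r'', h₁, h₂⟩ := exists_comp G r' r hr'
  rw [← h₁]
  exact mem_invCore.1 hr r'' h₂

theorem invCore_le (V : G.U.Opens) : invCore G V ≤ V := fun w hw => by
  have := mem_invCore.1 hw (G.e w) (by rw [← Scheme.Hom.comp_apply, G.e_s]; rfl)
  rwa [← Scheme.Hom.comp_apply, G.e_t] at this

theorem exists_invariant_affineOpen [Flat G.s] [LocallyOfFinitePresentation G.s] (u : G.U) (V : G.U.Opens)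
    (hV : IsAffineOpen V) (huV : ∀ r, G.s r = u → G.t r ∈ V) :
    ∃ W : G.U.Opens, IsAffineOpen W ∧ u ∈ W ∧ IsInv G W ∧ W ≤ V := by
  let O : Set G.U := G.t '' (G.s ⁻¹' {u})
  have hO : O.Finite := (G.s.finite_preimage_singleton u).image _
  have hOV : O ⊆ V := fun _ ⟨r, hr, e⟩ => e ▸ huV r hr
  have hu : u ∈ invCore G V := mem_invCore.2 huV
  have hOW : O ⊆ invCore G V := fun _ ⟨r, hr, e⟩ => by
    rw [← e]
    exact ((isInv_invCore V).mem_iff r).1 (by rw [show G.s r = u from hr]; exact hu)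
  obtain ⟨f, hOf, hfW⟩ := exists_basicOpen_of_finite hV hO (invCore G V) hOV hOW
  let D := G.U.basicOpen f
  have hD : IsAffineOpen D := hV.basicOpen f
  have hle : G.s ⁻¹ᵁ D ≤ G.t ⁻¹ᵁ V := fun r hr =>
    invCore_le V (((isInv_invCore V).mem_iff r).1 (hfW hr))
  obtain ⟨N, hN⟩ := exists_norm_basicOpen G.s hD (G.t.appLE V (G.s ⁻¹ᵁ D) hle f)
  refine ⟨invCore G D, ?_, mem_invCore.2 fun r hr => hOf ⟨r, hr, rfl⟩, isInv_invCore D,
    (invCore_le D).trans (G.U.basicOpen_le f)⟩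
  have hb : invCore G D = G.U.basicOpen N := by
    ext w
    simp only [SetLike.mem_coe, hN, mem_invCore, Scheme.basicOpen_appLE]
    constructor
    · exact fun h => ⟨invCore_le D (mem_invCore.2 h), fun r hr => ⟨by
        show G.s r ∈ D; rw [hr]; exact invCore_le D (mem_invCore.2 h), h r hr⟩⟩
    · exact fun ⟨_, h⟩ r hr => (h r hr).2
  rw [hb]
  exact hD.basicOpen N

end Groth.Agent.GrpdLib
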