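import Mathlib

/-!
# Descending morphisms along quotients of relations
-/

set_option backward.isDefEq.respectTransparency false
set_option backward.isDefEq.respectTransparency.types false

universe u

open CategoryTheory CategoryTheory.Limits AlgebraicGeometry TopologicalSpace

namespace Groth.Agent.GrpdLib

/-- Gluing morphisms defined on opens. -/
theorem exists_glue {X T : Scheme.{u}} {I : Type u} (V : I → X.Opens) (hV : ⨆ i, V i = ⊤)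
    (f : ∀ i, (V i).toScheme ⟶ T)
    (hf : ∀ i j, X.homOfLE (inf_le_left : V i ⊓ V j ≤ V i) ≫ f i =
      X.homOfLE (inf_le_right : V i ⊓ V j ≤ V j) ≫ f j) :
    ∃ g : X ⟶ T, ∀ i, (V i).ι ≫ g = f i := by
  let 𝒰 := X.openCoverOfIsOpenCover V (IsOpenCover.mk hV)
  refine ⟨𝒰.glueMorphisms f fun i j => ?_, fun i => 𝒰.ι_glueMorphisms f _ i⟩
  have hr : Set.range (pullback.fst (V i).ι (V j).ι ≫ (V i).ι) ⊆ Set.range (V i ⊓ V j).ι := by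
    rintro _ ⟨z, rfl⟩
    rw [Scheme.Opens.range_ι]
    refine ⟨(pullback.fst (V i).ι (V j).ι z).2, ?_⟩
    rw [pullback.condition]
    exact (pullback.snd (V i).ι (V j).ι z).2
  let h := IsOpenImmersion.lift (V i ⊓ V j).ι _ hr
  have h1 : h ≫ X.homOfLE inf_le_left = pullback.fst (V i).ι (V j).ι := by
    rw [← cancel_mono (V i).ι, Category.assoc, Scheme.homOfLE_ι, IsOpenImmersion.lift_fac]
  have h2 : h ≫ X.homOfLE inf_le_right = pullback.snd (V i).ι (V j).ι := by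
    rw [← cancel_mono (V j).ι, Category.assoc, Scheme.homOfLE_ι, IsOpenImmersion.lift_fac, pullback.condition]
  show pullback.fst (V i).ι (V j).ι ≫ f i = pullback.snd (V i).ι (V j).ι ≫ f j
  rw [← h1, ← h2, Category.assoc, Category.assoc, hf]

variable {R U Y : Scheme.{u}} (s t : R ⟶ U) (p : U ⟶ Y)

theorem exists_affineOpen_mem {T : Scheme.{u}} (z : T) : ∃ T₀ : T.Opens, IsAffineOpen T₀ ∧ z ∈ T₀ := by
  obtain ⟨_, ⟨T₀, hT₀, rfl⟩, hy, -⟩ := T.isBasis_affineOpens.exists_subset_of_mem_open (Set.mem_univ z) isOpen_univ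
  exact ⟨T₀, hT₀, hy⟩

/-- A morphism invariant under the relation. -/
def InvHom {U' Z : Scheme.{u}} (ι : U' ⟶ U) (f : U' ⟶ Z) : Prop :=
  ∀ ⦃T : Scheme.{u}⦄ (r : T ⟶ R) (a b : T ⟶ U'), a ≫ ι = r ≫ t → b ≫ ι = r ≫ s → a ≫ f = b ≫ f

theorem InvHom.homOfLE {Z : Scheme.{u}} {W W' : U.Opens} (h : W ≤ W') {f : W'.toScheme ⟶ Z}
    (hf : InvHom s t W'.ι f) : InvHom s t W.ι (U.homOfLE h ≫ f) := fun T r a b ha hb => by
  rw [← Category.assoc, ← Category.assoc]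
  exact hf r _ _ (by rw [Category.assoc, Scheme.homOfLE_ι, ha]) (by rw [Category.assoc, Scheme.homOfLE_ι, hb])

/-- A quotient of the relation which is locally universal for invariant maps to affine schemes. -/
structure IsLocQuot : Prop where
  w : t ≫ p = s ≫ p
  surj : Function.Surjective p
  closedMap : IsClosedMap p
  orbit : ∀ x y : U, p x = p y → ∃ r : R, t r = x ∧ s r = y
  basis : ∀ (O : Y.Opens), ∀ y ∈ O, ∃ O' ≤ O, y ∈ O' ∧ ∀ (Z : Scheme.{u}) [IsAffine Z]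
    (f : (p ⁻¹ᵁ O').toScheme ⟶ Z), InvHom s t (p ⁻¹ᵁ O').ι f → ∃! g : O'.toScheme ⟶ Z, (p ∣_ O') ≫ g = f

variable {s t p}

theorem homOfLE_morphismRestrict {O O' : Y.Opens} (h : O' ≤ O) :
    U.homOfLE (p.preimage_mono h : p ⁻¹ᵁ O' ≤ p ⁻¹ᵁ O) ≫ (p ∣_ O) = (p ∣_ O') ≫ Y.homOfLE h := by
  rw [← cancel_mono O.ι, Category.assoc, Category.assoc, morphismRestrict_ι, Scheme.homOfLE_ι_assoc,
    Scheme.homOfLE_ι, morphismRestrict_ι]

theorem IsLocQuot.invHom_comp (hp : IsLocQuot s t p) {O : Y.Opens} {Z : Scheme.{u}} (g : O.toScheme ⟶ Z) :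
    InvHom s t (p ⁻¹ᵁ O).ι ((p ∣_ O) ≫ g) := fun T r a b ha hb => by
  rw [← Category.assoc, ← Category.assoc]
  congr 1
  rw [← cancel_mono O.ι, Category.assoc, Category.assoc, morphismRestrict_ι, reassoc_of% ha, reassoc_of% hb, hp.w]

/-- An invariant morphism is constant on the fibres. -/
theorem InvHom.apply_eq (hp : IsLocQuot s t p) {O : Y.Opens} {Z : Scheme.{u}} {f : (p ⁻¹ᵁ O).toScheme ⟶ Z}
    (hf : InvHom s t (p ⁻¹ᵁ O).ι f) (x y : (p ⁻¹ᵁ O).toScheme) (h : p x.1 = p y.1) : f x = f y := by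
  obtain ⟨r, hrx, hry⟩ := hp.orbit _ _ h
  let R' : R.Opens := s ⁻¹ᵁ (p ⁻¹ᵁ O)
  have hr : r ∈ R' := by show s r ∈ p ⁻¹ᵁ O; rw [hry]; exact y.2
  have hle : R' ≤ t ⁻¹ᵁ (p ⁻¹ᵁ O) := fun z hz => by
    show p (t z) ∈ O
    rw [← Scheme.Hom.comp_apply, hp.w]
    exact hz
  have e := hf R'.ι (t.resLE _ R' hle) (s.resLE _ R' le_rfl) (Scheme.Hom.resLE_comp_ι ..)
    (Scheme.Hom.resLE_comp_ι ..)
  have := congrArg (fun φ => φ ⟨r, hr⟩) e
  simp only [Scheme.Hom.comp_apply] at this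
  convert this using 2
  · apply (p ⁻¹ᵁ O).ι.isOpenEmbedding.injective
    rw [← Scheme.Hom.comp_apply, Scheme.Hom.resLE_comp_ι]
    exact hrx.symm
  · apply (p ⁻¹ᵁ O).ι.isOpenEmbedding.injective
    rw [← Scheme.Hom.comp_apply, Scheme.Hom.resLE_comp_ι]
    exact hry.symm

theorem IsLocQuot.isOpen_of_preimage (hp : IsLocQuot s t p) {A : Set Y} (h : IsOpen (p ⁻¹' A)) : IsOpen A := by
  rw [← isClosed_compl_iff, ← Set.image_preimage_eq Aᶜ hp.surj]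
  exact hp.closedMap _ h.isClosed_compl

theorem IsLocQuot.hom_ext (hp : IsLocQuot s t p) {O : Y.Opens} {T : Scheme.{u}} (g₁ g₂ : O.toScheme ⟶ T)
    (h : (p ∣_ O) ≫ g₁ = (p ∣_ O) ≫ g₂) : g₁ = g₂ := by
  have hpt : ∀ y, g₁ y = g₂ y := fun y => by
    obtain ⟨x, hx⟩ := hp.surj y.1
    have e : (p ∣_ O) ⟨x, by show p x ∈ O; rw [hx]; exact y.2⟩ = y := by
      apply O.ι.isOpenEmbedding.injective
      rw [← Scheme.Hom.comp_apply, morphismRestrict_ι]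
      exact hx
    rw [← e, ← Scheme.Hom.comp_apply, h, Scheme.Hom.comp_apply]
  refine Scheme.hom_ext_of_forall _ _ fun y => ?_
  obtain ⟨T₀, hT₀, hy⟩ := exists_affineOpen_mem (g₁ y)
  obtain ⟨O', hO', hyO', hfac⟩ := hp.basis (O.ι ''ᵁ (g₁ ⁻¹ᵁ T₀)) y.1 ⟨y, hy, rfl⟩
  have hle : O' ≤ O := fun z hz => by obtain ⟨w, -, rfl⟩ := hO' hz; exact w.2
  refine ⟨O.ι ⁻¹ᵁ O', hyO', ?_⟩
  have : IsAffine T₀.toScheme := hT₀
  have hr : ∀ g : O.toScheme ⟶ T, (∀ y, g y = g₁ y) → Set.range (Y.homOfLE hle ≫ g) ⊆ Set.range T₀.ι := by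
    rintro g hg _ ⟨z, rfl⟩
    rw [Scheme.Opens.range_ι, Scheme.Hom.comp_apply, hg]
    obtain ⟨w, hw, he⟩ := hO' z.2
    have : Y.homOfLE hle z = w := by
      apply O.ι.isOpenEmbedding.injective
      rw [← Scheme.Hom.comp_apply, Scheme.homOfLE_ι]
      exact he.symm
    rw [this]
    exact hw
  have h₁ := hr g₁ fun _ => rfl
  have h₂ := hr g₂ fun y => (hpt y).symm
  have e : IsOpenImmersion.lift T₀.ι _ h₁ = IsOpenImmersion.lift T₀.ι _ h₂ := by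
    refine (hfac T₀.toScheme ((p ∣_ O') ≫ IsOpenImmersion.lift T₀.ι _ h₂) (hp.invHom_comp _)).unique ?_ rfl
    rw [← cancel_mono T₀.ι, Category.assoc, Category.assoc, IsOpenImmersion.lift_fac, IsOpenImmersion.lift_fac,
      ← Category.assoc, ← Category.assoc, ← homOfLE_morphismRestrict hle, Category.assoc, Category.assoc, h]
  have e' : Y.homOfLE hle ≫ g₁ = Y.homOfLE hle ≫ g₂ := by
    rw [← IsOpenImmersion.lift_fac T₀.ι _ h₁, e, IsOpenImmersion.lift_fac]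
  have hι : (O.ι ⁻¹ᵁ O').ι ≫ 𝟙 _ = IsOpenImmersion.lift O'.ι ((O.ι ⁻¹ᵁ O').ι ≫ O.ι) (by
      rintro _ ⟨z, rfl⟩
      rw [Scheme.Opens.range_ι]
      exact z.2) ≫ Y.homOfLE hle := by
    rw [← cancel_mono O.ι, Category.comp_id, Category.assoc, Scheme.homOfLE_ι, IsOpenImmersion.lift_fac]
  rw [Category.comp_id] at hι
  rw [hι, Category.assoc, Category.assoc, e']

/-- Invariant morphisms descend. -/
theorem IsLocQuot.exists_desc (hp : IsLocQuot s t p) {O : Y.Opens} {T : Scheme.{u}}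
    (f : (p ⁻¹ᵁ O).toScheme ⟶ T) (hf : InvHom s t (p ⁻¹ᵁ O).ι f) :
    ∃ g : O.toScheme ⟶ T, (p ∣_ O) ≫ g = f := by
  have key : ∀ y : O, ∃ (O' : Y.Opens) (h : O' ≤ O), y.1 ∈ O' ∧ ∃ g : O'.toScheme ⟶ T,
      (p ∣_ O') ≫ g = U.homOfLE (p.preimage_mono h : p ⁻¹ᵁ O' ≤ p ⁻¹ᵁ O) ≫ f := by
    intro y
    obtain ⟨x, hx⟩ := hp.surj y.1
    have hxO : x ∈ p ⁻¹ᵁ O := by show p x ∈ O; rw [hx]; exact y.2
    obtain ⟨T₀, hT₀, hy⟩ := exists_affineOpen_mem (f ⟨x, hxO⟩)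
    let A : U.Opens := (p ⁻¹ᵁ O).ι ''ᵁ (f ⁻¹ᵁ T₀)
    have hsat : p ⁻¹' (p '' (A : Set U)) = A := by
      refine Set.Subset.antisymm ?_ (Set.subset_preimage_image _ _)
      rintro z ⟨_, ⟨w, hw, rfl⟩, e⟩
      have hz : z ∈ p ⁻¹ᵁ O := by
        show p z ∈ O
        rw [← e]
        exact w.2
      refine ⟨⟨z, hz⟩, ?_, rfl⟩
      show f ⟨z, hz⟩ ∈ T₀
      rw [hf.apply_eq hp ⟨z, hz⟩ w e.symm]
      exact hw
    have hopen : IsOpen (p '' (A : Set U)) := hp.isOpen_of_preimage (by rw [hsat]; exact A.isOpen)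
    obtain ⟨O', hO', hyO', hfac⟩ := hp.basis ⟨_, hopen⟩ y.1 ⟨x, ⟨⟨x, hxO⟩, hy, rfl⟩, hx⟩
    have hle : O' ≤ O := fun z hz => by obtain ⟨_, ⟨w, -, rfl⟩, rfl⟩ := hO' hz; exact w.2
    have hpre : p ⁻¹ᵁ O' ≤ A := fun z hz => hsat.le (hO' hz)
    have : IsAffine T₀.toScheme := hT₀
    have hr : Set.range (U.homOfLE (p.preimage_mono hle : p ⁻¹ᵁ O' ≤ p ⁻¹ᵁ O) ≫ f) ⊆ Set.range T₀.ι := by
      rintro _ ⟨z, rfl⟩
      rw [Scheme.Opens.range_ι]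
      obtain ⟨w, hw, e⟩ := hpre z.2
      have : U.homOfLE (p.preimage_mono hle : p ⁻¹ᵁ O' ≤ p ⁻¹ᵁ O) z = w := by
        apply (p ⁻¹ᵁ O).ι.isOpenEmbedding.injective
        rw [← Scheme.Hom.comp_apply, Scheme.homOfLE_ι]
        exact e.symm
      rw [Scheme.Hom.comp_apply, this]
      exact hw
    obtain ⟨g, hg, -⟩ := hfac T₀.toScheme (IsOpenImmersion.lift T₀.ι _ hr) fun T' r a b ha hb => by
      rw [← cancel_mono T₀.ι, Category.assoc, Category.assoc, IsOpenImmersion.lift_fac]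
      exact InvHom.homOfLE s t _ hf r a b ha hb
    exact ⟨O', hle, hyO', g ≫ T₀.ι, by rw [← Category.assoc, hg, IsOpenImmersion.lift_fac]⟩
  choose O' hle hmem g hg using key
  have hV : ⨆ y, O.ι ⁻¹ᵁ O' y = ⊤ := eq_top_iff.2 fun y _ => Opens.mem_iSup.2 ⟨y, hmem y⟩
  let l : ∀ y, (O.ι ⁻¹ᵁ O' y).toScheme ⟶ (O' y).toScheme := fun y => O.ι ∣_ O' y
  have hl : ∀ y, l y ≫ Y.homOfLE (hle y) = (O.ι ⁻¹ᵁ O' y).ι := fun y => by
    rw [← cancel_mono O.ι, Category.assoc, Scheme.homOfLE_ι, morphismRestrict_ι]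
  obtain ⟨G, hG⟩ := exists_glue (fun y => O.ι ⁻¹ᵁ O' y) hV (fun y => l y ≫ g y) fun y y' => by
    let V := O' y ⊓ O' y'
    have hVO : V ≤ O := inf_le_left.trans (hle y)
    have e : Y.homOfLE (inf_le_left : V ≤ O' y) ≫ g y = Y.homOfLE (inf_le_right : V ≤ O' y') ≫ g y' := by
      refine hp.hom_ext _ _ ?_
      rw [← Category.assoc, ← Category.assoc, ← homOfLE_morphismRestrict, ← homOfLE_morphismRestrict, Category.assoc,
        Category.assoc, hg, hg, Scheme.homOfLE_homOfLE_assoc, Scheme.homOfLE_homOfLE_assoc]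
    let m : (O.ι ⁻¹ᵁ O' y ⊓ O.ι ⁻¹ᵁ O' y').toScheme ⟶ V.toScheme :=
      IsOpenImmersion.lift V.ι ((O.ι ⁻¹ᵁ O' y ⊓ O.ι ⁻¹ᵁ O' y').ι ≫ O.ι) (by
        rintro _ ⟨z, rfl⟩
        rw [Scheme.Opens.range_ι]
        exact z.2)
    have m1 : O.toScheme.homOfLE inf_le_left ≫ l y = m ≫ Y.homOfLE (inf_le_left : V ≤ O' y) := by
      rw [← cancel_mono (O' y).ι, Category.assoc, Category.assoc, Scheme.homOfLE_ι, IsOpenImmersion.lift_fac,
        morphismRestrict_ι, Scheme.homOfLE_ι_assoc]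
    have m2 : O.toScheme.homOfLE inf_le_right ≫ l y' = m ≫ Y.homOfLE (inf_le_right : V ≤ O' y') := by
      rw [← cancel_mono (O' y').ι, Category.assoc, Category.assoc, Scheme.homOfLE_ι, IsOpenImmersion.lift_fac,
        morphismRestrict_ι, Scheme.homOfLE_ι_assoc]
    rw [reassoc_of% m1, reassoc_of% m2, e]
  refine ⟨G, Scheme.hom_ext_of_forall _ _ fun x => ?_⟩
  let y : O := (p ∣_ O) x
  refine ⟨(p ∣_ O) ⁻¹ᵁ (O.ι ⁻¹ᵁ O' y), hmem y, ?_⟩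
  let k : ((p ∣_ O) ⁻¹ᵁ (O.ι ⁻¹ᵁ O' y)).toScheme ⟶ (p ⁻¹ᵁ O' y).toScheme :=
    IsOpenImmersion.lift (p ⁻¹ᵁ O' y).ι (((p ∣_ O) ⁻¹ᵁ (O.ι ⁻¹ᵁ O' y)).ι ≫ (p ⁻¹ᵁ O).ι) (by
      rintro _ ⟨z, rfl⟩
      rw [Scheme.Opens.range_ι]
      have h2 : O.ι ((p ∣_ O) z.1) ∈ O' y := z.2
      rw [← Scheme.Hom.comp_apply, morphismRestrict_ι] at h2
      exact h2)
  have k1 : k ≫ U.homOfLE (p.preimage_mono (hle y) : p ⁻¹ᵁ O' y ≤ p ⁻¹ᵁ O) =
      ((p ∣_ O) ⁻¹ᵁ (O.ι ⁻¹ᵁ O' y)).ι := by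
    rw [← cancel_mono (p ⁻¹ᵁ O).ι, Category.assoc, Scheme.homOfLE_ι, IsOpenImmersion.lift_fac]
  have k2 : ((p ∣_ O) ∣_ (O.ι ⁻¹ᵁ O' y)) ≫ l y = k ≫ (p ∣_ O' y) := by
    rw [← cancel_mono (O' y).ι, Category.assoc, Category.assoc, morphismRestrict_ι, morphismRestrict_ι,
      morphismRestrict_ι_assoc, morphismRestrict_ι, IsOpenImmersion.lift_fac_assoc, Category.assoc]
  rw [← morphismRestrict_ι_assoc, hG, reassoc_of% k2, hg, reassoc_of% k1]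

theorem IsLocQuot.existsUnique_desc_top (hp : IsLocQuot s t p) {T : Scheme.{u}} (f : U ⟶ T)
    (hf : t ≫ f = s ≫ f) : ∃! g : Y ⟶ T, p ≫ g = f := by
  have hr : (p ∣_ (⊤ : Y.Opens)) ≫ (⊤ : Y.Opens).ι = (p ⁻¹ᵁ (⊤ : Y.Opens)).ι ≫ p := morphismRestrict_ι _ _
  obtain ⟨g, hg⟩ := hp.exists_desc (O := ⊤) ((p ⁻¹ᵁ (⊤ : Y.Opens)).ι ≫ f) fun T' r a b ha hb => by
    rw [reassoc_of% ha, reassoc_of% hb, hf]
  refine ⟨Y.topIso.inv ≫ g, ?_, fun g' hg' => ?_⟩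
  · have : Epi (p ⁻¹ᵁ (⊤ : Y.Opens)).ι := inferInstanceAs (Epi U.topIso.hom)
    show p ≫ _ = f
    rw [← cancel_epi (p ⁻¹ᵁ (⊤ : Y.Opens)).ι]
    rw [← reassoc_of% hr, ← Scheme.topIso_hom, Iso.hom_inv_id_assoc, hg]
  · rw [← cancel_epi Y.topIso.hom, Iso.hom_inv_id_assoc, Scheme.topIso_hom]
    refine hp.hom_ext _ _ ?_
    rw [reassoc_of% hr, hg', hg]

end Groth.Agent.GrpdLib
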