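import Groth.Prelude.Def_QuotSh
import Mathlib.CategoryTheory.Sites.RegularEpi

/-!
# A covering morphism presents its target as the quotient of its kernel pair
-/

set_option backward.isDefEq.respectTransparency false
set_option backward.isDefEq.respectTransparency.types false

universe u

open CategoryTheory CategoryTheory.Limits AlgebraicGeometry Opposite

namespace Groth.Agent.GrpdLib

variable (K : Precoverage Scheme.{u}) {S : Scheme.{u}} {R U M : Over S}

/-- The sheaves attached to schemes over `S`, as a functor. -/
noncomputable abbrev repFunctor (S : Scheme.{u}) : Over S ⥤ QuotSh.Sh K S :=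
  (yoneda ⋙ (Functor.whiskeringRight _ _ _).obj uliftFunctor.{u + 1, u}) ⋙
    presheafToSheaf (QuotSh.J K S) (Type (u + 1))

theorem isLocallySurjective_of_cover (q : U ⟶ M)
    (hq : Sieve.generate (Presieve.singleton q.left) ∈ K.toGrothendieck M.left) :
    Presheaf.IsLocallySurjective (QuotSh.J K S) (Functor.whiskerRight (yoneda.map q) uliftFunctor.{u + 1, u}) := by
  refine ⟨fun {V} x => ?_⟩
  obtain ⟨x⟩ := x
  refine GrothendieckTopology.superset_covering _ ?_ ((QuotSh.J K S).pullback_stable x
    (S := Sieve.generate (Presieve.singleton q)) ?_)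
  · rintro W g ⟨_, a, _, hb, h⟩
    cases hb
    exact ⟨⟨a⟩, congrArg ULift.up h⟩
  · rw [GrothendieckTopology.mem_over_iff]
    refine GrothendieckTopology.superset_covering _ ?_ hq
    rintro Z f ⟨_, a, _, hb, rfl⟩
    cases hb
    rw [Sieve.overEquiv_iff]
    exact ⟨U, Over.homMk a (by simp [Over.w]), q, .mk, Over.OverMorphism.ext rfl⟩

theorem isQuotient_of_isKernelPair (s t : R ⟶ U) (q : U ⟶ M) (h : IsPullback s t q q)
    (hq : Sieve.generate (Presieve.singleton q.left) ∈ K.toGrothendieck M.left) :
    QuotSh.IsQuotient K s t q := by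
  refine ⟨h.w, ?_⟩
  have hls := isLocallySurjective_of_cover K q hq
  have hepi : Epi ((repFunctor K S).map q) := by
    rw [← Sheaf.isLocallySurjective_iff_epi]
    exact (Presheaf.isLocallySurjective_presheafToSheaf_map_iff _ _).2 hls
  have hk : IsPullback ((repFunctor K S).map s) ((repFunctor K S).map t) ((repFunctor K S).map q)
      ((repFunctor K S).map q) := h.map (repFunctor K S)
  have : IsRegularEpi ((repFunctor K S).map q) := IsRegularEpiCategory.regularEpiOfEpi _
  have : EffectiveEpi ((repFunctor K S).map q) := inferInstance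
  have hc := isColimitCoforkOfEffectiveEpi ((repFunctor K S).map q) hk.cone hk.isLimit
  exact inferInstanceAs (IsIso ((colimit.isColimit _).coconePointUniqueUpToIso hc).hom)

end Groth.Agent.GrpdLib
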