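import Groth.Agent.GrpdLib.GlueQuot
import Groth.Agent.GrpdLib.EquivRel
import Mathlib.AlgebraicGeometry.Morphisms.UniversallyOpen

/-!
# Properties of the glued quotient
-/

set_option backward.isDefEq.respectTransparency false
set_option backward.isDefEq.respectTransparency.types false

universe u

open CategoryTheory CategoryTheory.Limits AlgebraicGeometry Grpd TopologicalSpace

noncomputable section

namespace Groth.Agent.GrpdLib

variable {S : Scheme.{u}} {G : GroupoidScheme S} [IsFinite G.s] [Flat G.s] [LocallyOfFinitePresentation G.s]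

theorem exists_invAff (hb : ∀ x : G.U, ∃ V : G.U.Opens, IsAffineOpen V ∧ G.t.base '' (G.s.base ⁻¹' {x}) ⊆ (V : Set G.U))
    (x : G.U) : ∃ j : InvAff G, x ∈ j.1 := by
  obtain ⟨V, hV, h⟩ := hb x
  obtain ⟨W, hW, hx, hinv, -⟩ := exists_invariant_affineOpen x V hV fun r hr => h ⟨r, hr, rfl⟩
  exact ⟨⟨W, hW, hinv⟩, hx⟩

variable {p : G.U ⟶ quotScheme G} (hp : ∀ j : InvAff G, j.1.ι ≫ p = j.π ≫ InvAff.inc G j)
  (hc : ∀ x : G.U, ∃ j : InvAff G, x ∈ j.1)
include hp hc

theorem isPullback_inc (j : InvAff G) : IsPullback j.π j.1.ι (InvAff.inc G j) p := by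
  refine IsOpenImmersion.isPullback _ _ _ _ (hp j) (Opens.ext (Set.ext fun x => ?_))
  show p x ∈ Set.range (InvAff.inc G j) ↔ x ∈ Set.range j.1.ι
  rw [quotMap_mem_range_iff hp hc, Scheme.Opens.range_ι]
  rfl

theorem quotMap_w : G.t ≫ p = G.s ≫ p := by
  refine Scheme.hom_ext_of_forall _ _ fun r => ?_
  obtain ⟨j, hj⟩ := hc (G.s r)
  refine ⟨G.s ⁻¹ᵁ j.1, hj, ?_⟩
  rw [← reassoc_of% (resT_ι G j.1 j.2.2), hp, ← reassoc_of% (resS_ι G j.1), hp,
    reassoc_of% (InvAff.isLocQuot j).w]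

/-- A property local on the target holds for the quotient map if it holds for the affine ones. -/
theorem quotMap_property (P : MorphismProperty Scheme.{u}) [IsZariskiLocalAtTarget P]
    (h : ∀ j : InvAff G, P j.π) : P p := by
  refine IsZariskiLocalAtTarget.of_openCover (Scheme.IsLocallyDirected.openCover (quotDiagram G)) fun j => ?_
  have hj : IsPullback j.1.ι j.π p (InvAff.inc G j) := (isPullback_inc hp hc j).flip
  show P (pullback.snd p (InvAff.inc G j))
  rw [← hj.isoPullback_inv_snd, MorphismProperty.cancel_left_of_respectsIso P]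
  exact h j

theorem isIntegralHom_quotMap : IsIntegralHom p :=
  quotMap_property hp hc @IsIntegralHom fun j => InvAff.isIntegralHom_π j

theorem surjective_quotMap : Function.Surjective p := fun y => by
  obtain ⟨j, m, rfl⟩ := Scheme.IsLocallyDirected.ι_jointly_surjective (quotDiagram G) y
  obtain ⟨x, rfl⟩ := (InvAff.isLocQuot j).surj m
  exact ⟨x.1, quotMap_apply hp j x⟩

theorem quotMap_eq_iff (x y : G.U) : p x = p y ↔ ∃ r : G.R, G.t r = x ∧ G.s r = y := by
  refine ⟨fun h => ?_, fun ⟨r, h₁, h₂⟩ => by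
    rw [← h₁, ← h₂, ← Scheme.Hom.comp_apply, quotMap_w hp hc, Scheme.Hom.comp_apply]⟩
  obtain ⟨j, hj⟩ := hc x
  have hy : y ∈ j.1 := by
    rw [← quotMap_mem_range_iff hp hc j, ← h, quotMap_mem_range_iff hp hc j]
    exact hj
  rw [show p x = _ from quotMap_apply hp j ⟨x, hj⟩, show p y = _ from quotMap_apply hp j ⟨y, hy⟩] at h
  obtain ⟨r, hrx, hry⟩ := (InvAff.isLocQuot j).orbit _ _ ((InvAff.inc G j).isOpenEmbedding.injective h)
  refine ⟨r.1, ?_, ?_⟩
  · exact (congrArg (fun φ => φ r) (resT_ι G j.1 j.2.2)).symm.trans (congrArg j.1.ι hrx)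
  · exact (congrArg (fun φ => φ r) (resS_ι G j.1)).symm.trans (congrArg j.1.ι hry)

theorem isOpenMap_quotMap : IsOpenMap p := by
  intro A hA
  have := isIntegralHom_quotMap hp hc
  have hpre : p ⁻¹' (p '' A) = G.s '' (G.t ⁻¹' A) := by
    ext x
    constructor
    · rintro ⟨a, ha, e⟩
      obtain ⟨r, hr₁, hr₂⟩ := (quotMap_eq_iff hp hc a x).1 e
      exact ⟨r, by rw [Set.mem_preimage, hr₁]; exact ha, hr₂⟩
    · rintro ⟨r, hr, rfl⟩
      exact ⟨G.t r, hr, (quotMap_eq_iff hp hc _ _).2 ⟨r, rfl, rfl⟩⟩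
  have ho : IsOpen (p ⁻¹' (p '' A)) := by
    rw [hpre]
    exact G.s.isOpenMap _ (hA.preimage G.t.continuous)
  rw [← isClosed_compl_iff, ← Set.image_preimage_eq (p '' A)ᶜ (surjective_quotMap hp hc), Set.preimage_compl]
  exact p.isClosedMap _ ho.isClosed_compl

theorem surjective_lift_quotMap (w : G.t ≫ p = G.s ≫ p) : Function.Surjective (pullback.lift G.t G.s w) := by
  intro z
  let K : Type u := AlgebraicClosure ((pullback p p).residueField z)
  let σ : Spec (CommRingCat.of K) ⟶ pullback p p :=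
    Spec.map (CommRingCat.ofHom (algebraMap ((pullback p p).residueField z) K)) ≫ (pullback p p).fromSpecResidueField z
  obtain ⟨x₀⟩ : Nonempty (Spec (CommRingCat.of K)) := inferInstance
  have hσ : ∀ q, σ q = z := fun q => by
    show (pullback p p).fromSpecResidueField z _ = z
    exact Scheme.fromSpecResidueField_apply _ _
  let a := σ ≫ pullback.fst p p
  let b := σ ≫ pullback.snd p p
  have hab : a ≫ p = b ≫ p := by simp only [a, b, Category.assoc, pullback.condition]
  obtain ⟨j, hj⟩ := hc (a x₀)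
  have hra : Set.range a ⊆ Set.range j.1.ι := by
    rintro _ ⟨q, rfl⟩
    rw [Scheme.Opens.range_ι, Subsingleton.elim q x₀]
    exact hj
  have hrb : Set.range b ⊆ Set.range j.1.ι := by
    rintro _ ⟨q, rfl⟩
    rw [Scheme.Opens.range_ι, Subsingleton.elim q x₀]
    refine (quotMap_mem_range_iff hp hc j _).1 ?_
    rw [← Scheme.Hom.comp_apply, ← hab, Scheme.Hom.comp_apply]
    exact (quotMap_mem_range_iff hp hc j _).2 hj
  let a' := IsOpenImmersion.lift j.1.ι a hra
  let b' := IsOpenImmersion.lift j.1.ι b hrb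
  have hab' : a' ≫ j.π = b' ≫ j.π := by
    rw [← cancel_mono (InvAff.inc G j), Category.assoc, Category.assoc, ← hp, IsOpenImmersion.lift_fac_assoc,
      IsOpenImmersion.lift_fac_assoc, hab]
  obtain ⟨ρ, hρt, hρs⟩ := (point_eq_iff j.grp K a' b').1 hab'
  refine ⟨(ρ ≫ (G.s ⁻¹ᵁ j.1).ι) x₀, ?_⟩
  rw [← Scheme.Hom.comp_apply]
  have e : (ρ ≫ (G.s ⁻¹ᵁ j.1).ι) ≫ pullback.lift G.t G.s w = σ := by
    apply pullback.hom_ext
    · simp only [Category.assoc, pullback.lift_fst]
      show ρ ≫ (G.s ⁻¹ᵁ j.1).ι ≫ G.t = a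
      rw [← resT_ι G j.1 j.2.2, ← IsOpenImmersion.lift_fac j.1.ι a hra, ← Category.assoc]
      exact congrArg (· ≫ j.1.ι) hρt
    · simp only [Category.assoc, pullback.lift_snd]
      show ρ ≫ (G.s ⁻¹ᵁ j.1).ι ≫ G.s = b
      rw [← resS_ι G j.1, ← IsOpenImmersion.lift_fac j.1.ι b hrb, ← Category.assoc]
      exact congrArg (· ≫ j.1.ι) hρs
  rw [e, hσ]

theorem exists_isColimit_quotMap (w : G.t ≫ p = G.s ≫ p) : Nonempty (IsColimit (Cofork.ofπ p w)) := by
  have key : ∀ (T : Scheme.{u}) (f : G.U ⟶ T), G.t ≫ f = G.s ≫ f → ∃! g : quotScheme G ⟶ T, p ≫ g = f := by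
    intro T f hf
    have hloc : ∀ j : InvAff G, ∃! g : j.M ⟶ T, j.π ≫ g = j.1.ι ≫ f := fun j =>
      (InvAff.isLocQuot j).existsUnique_desc_top _ (by
        rw [reassoc_of% (resT_ι G j.1 j.2.2), reassoc_of% (resS_ι G j.1), hf])
    choose g hg hu using hloc
    let co : Cocone (quotDiagram G) :=
      { pt := T
        ι := { app := g, naturality := fun i j f' => InvAff.hom_ext i (by
                change i.π ≫ InvAff.trans (leOfHom f') ≫ g j = i.π ≫ g i ≫ 𝟙 T
                rw [Category.comp_id, hg i, reassoc_of% (InvAff.π_trans (leOfHom f')), hg j, Scheme.homOfLE_ι_assoc]) } }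
    refine ⟨colimit.desc (quotDiagram G) co, Scheme.hom_ext_of_forall _ _ fun x => ?_, fun g' hg' => ?_⟩
    · obtain ⟨j, hj⟩ := hc x
      refine ⟨j.1, hj, ?_⟩
      rw [reassoc_of% (hp j)]
      exact (congrArg (j.π ≫ ·) (colimit.ι_desc co j)).trans (hg j)
    · refine colimit.hom_ext fun j => ?_
      rw [colimit.ι_desc]
      refine hu j _ ?_
      show j.π ≫ InvAff.inc G j ≫ g' = _
      rw [← reassoc_of% (hp j), hg']
  choose d hd hdu using key
  exact ⟨Cofork.IsColimit.mk _ (fun c => d c.pt c.π c.condition) (fun c => hd c.pt c.π c.condition)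
    fun c m hm => hdu c.pt c.π c.condition m hm⟩

theorem isAffine_quotScheme [IsAffine G.U] : IsAffine (quotScheme G) := by
  let j : InvAff G := ⟨⊤, isAffineOpen_top G.U, isInv_of_mem fun _ _ => trivial⟩
  have hs : Function.Surjective (InvAff.inc G j) := fun y => by
    obtain ⟨x, rfl⟩ := surjective_quotMap hp hc y
    exact (quotMap_mem_range_iff hp hc j x).2 trivial
  have : Epi (InvAff.inc G j).base := (TopCat.epi_iff_surjective _).2 hs
  have : IsIso (InvAff.inc G j) := IsOpenImmersion.isIso _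
  exact IsAffine.of_isIso (inv (InvAff.inc G j))

variable [Mono G.j]

theorem isPullback_quotMap (w : G.t ≫ p = G.s ≫ p) : IsPullback G.t G.s p p := by
  have huniq : ∀ {T : Scheme.{u}} (r r' : T ⟶ G.R), r ≫ G.t = r' ≫ G.t → r ≫ G.s = r' ≫ G.s → r = r' :=
    fun r r' h₁ h₂ => (cancel_mono G.j).1 (pullback.hom_ext (by simpa [GroupoidScheme.j] using h₁)
      (by simpa [GroupoidScheme.j] using h₂))
  have hex : ∀ {T : Scheme.{u}} (a b : T ⟶ G.U), a ≫ p = b ≫ p → ∃ r : T ⟶ G.R, r ≫ G.t = a ∧ r ≫ G.s = b := by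
    intro T a b hab
    have hV : ∀ j : InvAff G, ∃ r : (a ⁻¹ᵁ j.1).toScheme ⟶ G.R,
        r ≫ G.t = (a ⁻¹ᵁ j.1).ι ≫ a ∧ r ≫ G.s = (a ⁻¹ᵁ j.1).ι ≫ b := by
      intro j
      let b' := IsOpenImmersion.lift j.1.ι ((a ⁻¹ᵁ j.1).ι ≫ b) (by
        rintro _ ⟨z, rfl⟩
        rw [Scheme.Opens.range_ι]
        refine (quotMap_mem_range_iff hp hc j _).1 ?_
        rw [← Scheme.Hom.comp_apply, Category.assoc, ← hab, ← Category.assoc, Scheme.Hom.comp_apply]
        exact (quotMap_mem_range_iff hp hc j _).2 z.2)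
      have : Mono j.grp.j := mono_j_restrict G j.1 j.2.2
      have hab' : (a ∣_ j.1) ≫ j.π = b' ≫ j.π := by
        rw [← cancel_mono (InvAff.inc G j), Category.assoc, Category.assoc, ← hp, morphismRestrict_ι_assoc,
          IsOpenImmersion.lift_fac_assoc, hab, Category.assoc]
      obtain ⟨r, hrt, hrs⟩ := (isPullback_toQuot j.grp).exists_lift (a ∣_ j.1) b' hab'
      refine ⟨r ≫ (G.s ⁻¹ᵁ j.1).ι, ?_, ?_⟩
      · rw [Category.assoc, ← resT_ι G j.1 j.2.2, ← morphismRestrict_ι, ← Category.assoc]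
        exact congrArg (· ≫ j.1.ι) hrt
      · rw [Category.assoc, ← resS_ι G j.1, ← Category.assoc]
        exact (congrArg (· ≫ j.1.ι) hrs).trans (IsOpenImmersion.lift_fac _ _ _)
    choose r hrt hrs using hV
    have hcov : ⨆ j : InvAff G, a ⁻¹ᵁ j.1 = ⊤ := eq_top_iff.2 fun z _ => Opens.mem_iSup.2 (hc (a z))
    obtain ⟨g, hg⟩ := exists_glue _ hcov r fun i j => huniq _ _
      (by simp only [Category.assoc, hrt, Scheme.homOfLE_ι_assoc])
      (by simp only [Category.assoc, hrs, Scheme.homOfLE_ι_assoc])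
    refine ⟨g, ?_, ?_⟩ <;>
    · refine Scheme.hom_ext_of_forall _ _ fun z => ?_
      obtain ⟨j, hj⟩ := hc (a z)
      refine ⟨a ⁻¹ᵁ j.1, hj, ?_⟩
      rw [reassoc_of% (hg j)]
      first | exact hrt j | exact hrs j
  choose l hl₁ hl₂ using fun c : PullbackCone p p => hex c.fst c.snd c.condition
  exact ⟨⟨w⟩, ⟨PullbackCone.IsLimit.mk _ l hl₁ hl₂ fun c m h₁ h₂ => huniq _ _ (h₁.trans (hl₁ c).symm)
    (h₂.trans (hl₂ c).symm)⟩⟩

theorem isFinLocFree_quotMap : IsFinite p ∧ Flat p ∧ LocallyOfFinitePresentation p := by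
  have h : ∀ j : InvAff G, IsFinite j.π ∧ Flat j.π ∧ LocallyOfFinitePresentation j.π := fun j => by
    have : Mono j.grp.j := mono_j_restrict G j.1 j.2.2
    exact toQuot_finLocFree j.grp
  exact ⟨quotMap_property hp hc @IsFinite fun j => (h j).1, quotMap_property hp hc @Flat fun j => (h j).2.1,
    quotMap_property hp hc @LocallyOfFinitePresentation fun j => (h j).2.2⟩

end Groth.Agent.GrpdLib
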