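import Groth.Agent.GrpdLib.Affine

/-!
# Affine groupoids with a basis pulled back along the target
-/

set_option backward.isDefEq.respectTransparency false
set_option backward.isDefEq.respectTransparency.types false

universe u

open CategoryTheory CategoryTheory.Limits AlgebraicGeometry Grpd
open scoped TensorProduct

namespace Groth.Agent.GrpdLib

/-- The image of a basis in a base change is linearly independent. -/
theorem coeff_eq_of_isPushout {A A' B B' : Type u} {I : Type*} [CommRing A] [CommRing A'] [CommRing B] [CommRing B']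
    {h : A →+* A'} {α : A →+* B} {α' : A' →+* B'} {g : B →+* B'}
    (hpo : IsPushout (CommRingCat.ofHom h) (CommRingCat.ofHom α) (CommRingCat.ofHom α') (CommRingCat.ofHom g))
    (x : I → B) (hb : letI := α.toAlgebra; ∃ b : Module.Basis I A B, ∀ i, b i = x i) (c d : I →₀ A')
    (hcd : (c.sum fun i ci => α' ci * g (x i)) = d.sum fun i di => α' di * g (x i)) : c = d := by
  algebraize [h, α, α', g, α'.comp h]
  have htow : IsScalarTower A B B' := IsScalarTower.of_algebraMap_eq' (congrArg CommRingCat.Hom.hom hpo.w)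
  have hpush : Algebra.IsPushout A A' B B' := CommRingCat.isPushout_iff_isPushout.1 hpo
  obtain ⟨b, hb⟩ := hb
  let bC := hpush.out.basis b
  refine bC.repr.symm.injective ?_
  rw [Module.Basis.repr_symm_apply, Module.Basis.repr_symm_apply, Finsupp.linearCombination_apply,
    Finsupp.linearCombination_apply]
  have hv : ∀ (e : A') i, e • bC i = α' e * g (x i) := fun e i => by
    rw [Algebra.smul_def, show bC i = g (x i) from (hpush.out.basis_apply b i).trans (congrArg g (hb i))]
    rfl
  simp only [hv]
  exact hcd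

namespace AffData

variable (D : AffData.{u}) {I : Type*} (x : I → D.A)

/-- The coordinates, along `s` with respect to `t ∘ x`, of `t a` are invariant. -/
theorem repr_invariant (hb : letI := D.s.toAlgebra; ∃ b : Module.Basis I D.A D.B, ∀ i, b i = D.t (x i))
    (a : D.A) :
    ∃ c : I →₀ D.A, (c.sum fun i ci => D.s ci * D.t (x i)) = D.t a ∧ ∀ i, D.s (c i) = D.t (c i) := by
  obtain ⟨b, hb⟩ := hb
  let h1 : Algebra D.A D.B := D.s.toAlgebra
  let h2 : Algebra D.B D.C := D.p₂.toAlgebra
  let c := b.repr (D.t a)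
  have hc : (c.sum fun i ci => D.s ci * D.t (x i)) = D.t a := by
    have := b.linearCombination_repr (D.t a)
    rw [Finsupp.linearCombination_apply] at this
    refine Eq.trans ?_ this
    refine Finsupp.sum_congr fun i _ => ?_
    rw [Algebra.smul_def, hb]
    rfl
  refine ⟨c, hc, fun i => ?_⟩
  have e1 : (c.sum fun j cj => D.p₂ (D.s cj) * D.m (D.t (x j))) = D.p₁ (D.t a) := by
    rw [← D.m_t_apply a, ← hc, map_finsuppSum]
    refine Finsupp.sum_congr fun j _ => ?_
    rw [map_mul]
    congr 1
    exact congrArg (fun ψ => ψ.hom (c j)) D.sq₂.w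
  have e2 : (c.sum fun j cj => D.p₂ (D.t cj) * D.m (D.t (x j))) = D.p₁ (D.t a) := by
    rw [← hc, map_finsuppSum]
    refine Finsupp.sum_congr fun j _ => ?_
    rw [map_mul, D.m_t_apply]
    congr 1
    exact congrArg (fun ψ => ψ.hom (c j)) D.sq₁.w
  have h : c.mapRange D.s (map_zero _) = c.mapRange D.t (map_zero _) := by
    refine coeff_eq_of_isPushout D.sq₂ (fun j => D.t (x j)) ⟨b, hb⟩ _ _ ?_
    rw [Finsupp.sum_mapRange_index (by simp), Finsupp.sum_mapRange_index (by simp)]
    exact e1.trans e2.symm
  simpa using congrArg (fun z => z i) h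

theorem exists_basis (K : Subring D.A) (hK : ∀ a, a ∈ K ↔ D.s a = D.t a)
    (hb : letI := D.s.toAlgebra; ∃ b : Module.Basis I D.A D.B, ∀ i, b i = D.t (x i)) :
    ∃ b : Module.Basis I K D.A, ∀ i, b i = x i := by
  have hst : ∀ k : K, D.s k = D.t k := fun k => (hK _).1 k.2
  have hli : LinearIndependent K x := by
    rw [linearIndependent_iff]
    intro l hl
    obtain ⟨b, hb⟩ := hb
    let h1 : Algebra D.A D.B := D.s.toAlgebra
    have h0 : Finsupp.linearCombination D.A b (l.mapRange Subtype.val rfl) = 0 := by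
      rw [Finsupp.linearCombination_apply, Finsupp.sum_mapRange_index (by simp)]
      have := congrArg D.t hl
      rw [Finsupp.linearCombination_apply, map_finsuppSum, map_zero] at this
      refine Eq.trans (Finsupp.sum_congr fun i _ => ?_) this
      rw [Algebra.smul_def, hb, Subring.smul_def, smul_eq_mul, map_mul, ← hst]
      rfl
    have h2 : l.mapRange Subtype.val rfl = 0 := linearIndependent_iff.1 b.linearIndependent _ h0
    ext i
    exact congrArg (fun z => z i) h2
  refine ⟨Module.Basis.mk hli fun a _ => ?_, fun i => Module.Basis.mk_apply _ _ i⟩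
  obtain ⟨c, hc, hinv⟩ := D.repr_invariant x hb a
  have ha : a = c.sum fun i ci => ci * x i := by
    rw [← D.e_t_apply a, ← hc, map_finsuppSum]
    exact Finsupp.sum_congr fun i _ => by rw [map_mul, D.e_s_apply, D.e_t_apply]
  rw [ha]
  refine Submodule.sum_mem _ fun i _ => ?_
  show c i * x i ∈ _
  exact Submodule.smul_mem _ (⟨c i, (hK _).2 (hinv i)⟩ : K) (Submodule.subset_span ⟨i, rfl⟩)

theorem bijective_of_basis (K : Subring D.A) (hK : ∀ a, a ∈ K ↔ D.s a = D.t a)
    (hb : letI := D.s.toAlgebra; ∃ b : Module.Basis I D.A D.B, ∀ i, b i = D.t (x i)) :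
    letI := (D.s.comp K.subtype).toAlgebra
    ∀ φ : D.A ⊗[K] D.A →ₗ[K] D.B, (∀ a a', φ (a ⊗ₜ[K] a') = D.t a * D.s a') → Function.Bijective φ := by
  obtain ⟨bA, hbA⟩ := D.exists_basis x K hK hb
  obtain ⟨b, hb⟩ := hb
  classical
  intro φ hφ
  let h1 : Algebra D.A D.B := D.s.toAlgebra
  let ψ : (I →₀ D.A) → D.B := fun c => b.repr.symm c
  let θ : D.A ⊗[K] D.A ≃ₗ[K] (I →₀ D.A) := TensorProduct.equivFinsuppOfBasisLeft bA
  have hθ : ∀ z, φ z = ψ (θ z) := fun z => by
    induction z using TensorProduct.induction_on with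
    | zero => simp [ψ]
    | add z w hz hw => simp [ψ, hz, hw]
    | tmul a a' =>
      rw [hφ]
      simp only [ψ, θ, TensorProduct.equivFinsuppOfBasisLeft_apply_tmul, Module.Basis.repr_symm_apply,
        Finsupp.linearCombination_apply]
      rw [Finsupp.sum_mapRange_index (by simp)]
      conv_lhs => rw [← bA.linearCombination_repr a, Finsupp.linearCombination_apply, map_finsuppSum]
      rw [Finsupp.sum, Finsupp.sum, Finset.sum_mul]
      refine Finset.sum_congr rfl fun i _ => ?_
      show D.t (_ • bA i) * D.s a' = (_ • a' : D.A) • b i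
      rw [hbA, Subring.smul_def, Subring.smul_def, smul_eq_mul, smul_eq_mul, Algebra.smul_def, hb, map_mul,
        ← (hK _).1 (bA.repr a i).2]
      show _ = D.s (_ * a') * _
      rw [map_mul]
      ring
  have : (φ : D.A ⊗[K] D.A → D.B) = ψ ∘ θ := funext hθ
  rw [this]
  exact b.repr.symm.bijective.comp θ.bijective

end AffData

end Groth.Agent.GrpdLib
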