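import Groth.Agent.GrpdLib.Pullback
import Groth.Agent.GrpdLib.GlueProps
import Groth.Agent.FDescent.FlatCancel

/-!
# Quotient by a groupoid with a quasi-section
-/

set_option backward.isDefEq.respectTransparency false
set_option backward.isDefEq.respectTransparency.types false

universe u

open CategoryTheory CategoryTheory.Limits AlgebraicGeometry Grpd

noncomputable section

namespace Groth.Agent.GrpdLib

theorem flat_of_flat_comp {X Y Z : Scheme.{u}} (f : X ⟶ Y) (g : Y ⟶ Z) [Flat f] [Surjective f] (h : Flat (f ≫ g)) :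
    Flat g := by
  refine (Flat.iff_flat_stalkMap g).2 fun y => ?_
  obtain ⟨x, rfl⟩ := f.surjective y
  have h1 : (f.stalkMap x).hom.Flat := Flat.stalkMap f x
  have h2 := Flat.stalkMap (f ≫ g) x
  rw [Scheme.Hom.stalkMap_comp, CommRingCat.hom_comp] at h2
  let A : Type u := Z.presheaf.stalk ((f ≫ g) x)
  let B : Type u := Y.presheaf.stalk (f x)
  let C : Type u := X.presheaf.stalk x
  let φ : A →+* B := (g.stalkMap (f x)).hom
  let ψ : B →+* C := (f.stalkMap x).hom
  algebraize [φ, ψ, ψ.comp φ]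
  have : Module.Flat B C := h1
  have : Module.Flat A C := h2
  have : IsLocalHom (algebraMap B C) := f.toLRSHom.prop x
  have : Module.FaithfullyFlat B C := Module.FaithfullyFlat.of_flat_of_isLocalHom
  exact FDescent.flat_cancel A B C

theorem pullbackMap_surjective {V U' Y : Scheme.{u}} (τ : V ⟶ U') (q : U' ⟶ Y) [Surjective τ] :
    Surjective (pullback.map (τ ≫ q) (τ ≫ q) q q τ τ (𝟙 Y) (by simp) (by simp)) :=
  MorphismProperty.pullbackMap (P := @Surjective) ‹_› ‹_› (e₁ := rfl) (e₂ := rfl)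

variable {S : Scheme.{u}} {G : GroupoidScheme S} {U' : Scheme.{u}} {g : U' ⟶ G.U}

/-- The composite of one arrow with the inverse of another with the same source. -/
theorem exists_div {T : Scheme.{u}} (α β : T ⟶ G.R) (h : α ≫ G.s = β ≫ G.s) :
    ∃ γ : T ⟶ G.R, γ ≫ G.t = α ≫ G.t ∧ γ ≫ G.s = β ≫ G.t := by
  refine ⟨pullback.lift α (β ≫ G.i) (by rw [Category.assoc, G.i_t, h]) ≫ G.c, G.comp_t _ _ _, ?_⟩
  rw [G.comp_s, Category.assoc, G.i_s]

theorem exists_mul {T : Scheme.{u}} (α β : T ⟶ G.R) (h : α ≫ G.s = β ≫ G.t) :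
    ∃ γ : T ⟶ G.R, γ ≫ G.t = α ≫ G.t ∧ γ ≫ G.s = β ≫ G.s :=
  ⟨pullback.lift α β h ≫ G.c, G.comp_t _ _ _, G.comp_s _ _ _⟩

/-- Two points over the same object give an arrow in the pulled-back groupoid. -/
theorem exists_arrow {T : Scheme.{u}} (a b : T ⟶ pullback G.t g) (h : a ≫ srcMap G g = b ≫ srcMap G g) :
    ∃ ρ : T ⟶ pbR G g, ρ ≫ pbT G g = a ≫ pullback.snd G.t g ∧ ρ ≫ pbS G g = b ≫ pullback.snd G.t g := by
  obtain ⟨γ, hγt, hγs⟩ := exists_div (a ≫ pullback.fst G.t g) (b ≫ pullback.fst G.t g)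
    (by simpa only [srcMap, Category.assoc] using h)
  exact ⟨pbMk G g γ (a ≫ pullback.snd G.t g) (b ≫ pullback.snd G.t g)
    (by rw [hγt, Category.assoc, pullback.condition, Category.assoc])
    (by rw [hγs, Category.assoc, pullback.condition, Category.assoc]), pbMk_t .., pbMk_s ..⟩

/-- The section over `U'`. -/
def unitV (G : GroupoidScheme S) (g : U' ⟶ G.U) : U' ⟶ pullback G.t g :=
  pullback.lift (g ≫ G.e) (𝟙 U') (by rw [Category.assoc, G.e_t, Category.comp_id, Category.id_comp])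

theorem unitV_src : unitV G g ≫ srcMap G g = g := by simp [unitV, srcMap, G.e_s]

theorem unitV_snd : unitV G g ≫ pullback.snd G.t g = 𝟙 U' := pullback.lift_snd ..

instance : Surjective (pullback.snd G.t g) :=
  ⟨fun x => ⟨unitV G g x, by rw [← Scheme.Hom.comp_apply, unitV_snd]; rfl⟩⟩

variable [IsFinite (srcMap G g)] [Flat (srcMap G g)] [LocallyOfFinitePresentation (srcMap G g)]
  [Surjective (srcMap G g)]
  {Y : Scheme.{u}} {q : U' ⟶ Y} (w : pbT G g ≫ q = pbS G g ≫ q)

include w in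
theorem exists_descend : ∃ p : G.U ⟶ Y, srcMap G g ≫ p = pullback.snd G.t g ≫ q ∧ g ≫ p = q := by
  have hdesc : ∀ {T : Scheme.{u}} (a b : T ⟶ pullback G.t g), a ≫ srcMap G g = b ≫ srcMap G g →
      a ≫ pullback.snd G.t g ≫ q = b ≫ pullback.snd G.t g ≫ q := by
    intro T a b h
    obtain ⟨ρ, hρt, hρs⟩ := exists_arrow a b h
    rw [← reassoc_of% hρt, ← reassoc_of% hρs, w]
  let p := EffectiveEpi.desc (srcMap G g) (pullback.snd G.t g ≫ q) hdesc
  have hp : srcMap G g ≫ p = pullback.snd G.t g ≫ q := EffectiveEpi.fac _ _ _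
  refine ⟨p, hp, ?_⟩
  conv_lhs => rw [← unitV_src (G := G) (g := g)]
  rw [Category.assoc, hp, reassoc_of% (unitV_snd (G := G) (g := g))]

variable {p : G.U ⟶ Y} (hp : srcMap G g ≫ p = pullback.snd G.t g ≫ q) (hgp : g ≫ p = q)

include hp in
theorem desc_w : G.t ≫ p = G.s ≫ p := by
  have : Surjective (pullback.fst G.s (srcMap G g)) := inferInstance
  rw [← cancel_epi (pullback.fst G.s (srcMap G g))]
  let r := pullback.fst G.s (srcMap G g)
  let v := pullback.snd G.s (srcMap G g)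
  have hr : r ≫ G.s = v ≫ srcMap G g := pullback.condition
  obtain ⟨γ, hγt, hγs⟩ := exists_div (v ≫ pullback.fst G.t g) r (by
    rw [hr]; simp only [srcMap, Category.assoc])
  let v' : pullback G.s (srcMap G g) ⟶ pullback G.t g :=
    pullback.lift γ (v ≫ pullback.snd G.t g) (by rw [hγt, Category.assoc, pullback.condition, Category.assoc])
  have hv' : v' ≫ srcMap G g = r ≫ G.t := by simp [v', srcMap, hγs]
  show r ≫ G.t ≫ p = r ≫ G.s ≫ p
  rw [← reassoc_of% hv', hp, reassoc_of% hr, hp]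
  simp [v']

include hp hgp in
theorem isColimit_desc (hq : IsColimit (Cofork.ofπ q w)) (wp : G.t ≫ p = G.s ≫ p) :
    Nonempty (IsColimit (Cofork.ofπ p wp)) := by
  have key : ∀ (T : Scheme.{u}) (f : G.U ⟶ T), G.t ≫ f = G.s ≫ f → ∃! h : Y ⟶ T, p ≫ h = f := by
    intro T f hf
    have hw : pbT G g ≫ g ≫ f = pbS G g ≫ g ≫ f := by
      rw [← reassoc_of% (pbMid_t G g), ← reassoc_of% (pbMid_s G g), hf]
    obtain ⟨h, hh⟩ := Cofork.IsColimit.desc' hq (g ≫ f) hw
    replace hh : q ≫ h = g ≫ f := hh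
    refine ⟨h, ?_, fun h' hh' => Cofork.IsColimit.hom_ext hq ?_⟩
    · show p ≫ h = f
      rw [← cancel_epi (srcMap G g), reassoc_of% hp, hh]
      rw [← pullback.condition_assoc, hf, srcMap, Category.assoc]
    · show q ≫ h' = q ≫ h
      rw [hh, ← hgp, Category.assoc, hh']
  choose d hd hdu using key
  exact ⟨Cofork.IsColimit.mk _ (fun c => d c.pt c.π c.condition) (fun c => hd c.pt c.π c.condition)
    fun c m hm => hdu c.pt c.π c.condition m hm⟩

include hp in
theorem surjective_lift_desc (hsurj : Function.Surjective (pullback.lift (pbT G g) (pbS G g) w))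
    (wp : G.t ≫ p = G.s ≫ p) : Function.Surjective (pullback.lift G.t G.s wp) := by
  intro z
  let V := pullback G.t g
  let τ := pullback.snd G.t g
  let σ := srcMap G g
  let Φ : pullback (τ ≫ q) (τ ≫ q) ⟶ pullback p p :=
    pullback.map _ _ _ _ σ σ (𝟙 Y) (by rw [hp, Category.comp_id]) (by rw [hp, Category.comp_id])
  let Ψ : pullback (τ ≫ q) (τ ≫ q) ⟶ pullback q q := pullback.map _ _ _ _ τ τ (𝟙 Y) (by simp) (by simp)
  have hΦ : Surjective Φ := by
    have e : σ ≫ p = τ ≫ q := hp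
    have : Φ = (pullback.congrHom e e).inv ≫ pullback.map (σ ≫ p) (σ ≫ p) p p σ σ (𝟙 Y) (by simp) (by simp) := by
      apply pullback.hom_ext <;> simp [Φ]
    rw [this, MorphismProperty.cancel_left_of_respectsIso (P := @Surjective)]
    exact pullbackMap_surjective σ p
  obtain ⟨x, rfl⟩ := hΦ.surj z
  have : Surjective (pullback.lift (pbT G g) (pbS G g) w) := ⟨hsurj⟩
  obtain ⟨m, rfl⟩ := (pullback.snd (pullback.lift (pbT G g) (pbS G g) w) Ψ).surjective x
  let ρ := pullback.fst (pullback.lift (pbT G g) (pbS G g) w) Ψ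
  let ab := pullback.snd (pullback.lift (pbT G g) (pbS G g) w) Ψ
  let a := ab ≫ pullback.fst (τ ≫ q) (τ ≫ q)
  let b := ab ≫ pullback.snd (τ ≫ q) (τ ≫ q)
  have hρ : ρ ≫ pullback.lift (pbT G g) (pbS G g) w = ab ≫ Ψ := pullback.condition
  have hρt : ρ ≫ pbT G g = a ≫ τ := by simpa [Ψ, a] using congrArg (· ≫ pullback.fst q q) hρ
  have hρs : ρ ≫ pbS G g = b ≫ τ := by simpa [Ψ, b] using congrArg (· ≫ pullback.snd q q) hρ
  -- the arrow `α⁻¹ ∘ ρ ∘ β`
  let α := a ≫ pullback.fst G.t g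
  let β := b ≫ pullback.fst G.t g
  have hα : (α ≫ G.i) ≫ G.s = (ρ ≫ pbMid G g) ≫ G.t := by
    rw [Category.assoc, G.i_s, Category.assoc ρ, pbMid_t, reassoc_of% hρt]
    simp only [α, τ, Category.assoc, pullback.condition]
  obtain ⟨γ, hγt, hγs⟩ := exists_mul _ _ hα
  have hβ : γ ≫ G.s = β ≫ G.t := by
    rw [hγs, Category.assoc ρ, pbMid_s, reassoc_of% hρs]
    simp only [β, τ, Category.assoc, pullback.condition]
  obtain ⟨δ, hδt, hδs⟩ := exists_mul _ _ hβ
  refine ⟨δ m, ?_⟩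
  rw [← Scheme.Hom.comp_apply, ← Scheme.Hom.comp_apply]
  congr 1
  have h1 : δ ≫ G.t = a ≫ σ := by rw [hδt, hγt, Category.assoc, G.i_t]; simp [α, σ, srcMap]
  have h2 : δ ≫ G.s = b ≫ σ := by rw [hδs]; simp [β, σ, srcMap]
  have e : δ ≫ pullback.lift G.t G.s wp = ab ≫ Φ := by
    apply pullback.hom_ext
    · simp only [Category.assoc, pullback.lift_fst, h1]
      simp [Φ, a]
    · simp only [Category.assoc, pullback.lift_snd, h2]
      simp [Φ, b]
  rw [e]

include hp in
theorem isPullback_desc [Mono G.j] (hpb : IsPullback (pbT G g) (pbS G g) q q) (wp : G.t ≫ p = G.s ≫ p) :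
    IsPullback G.t G.s p p := by
  have huniq : ∀ {T : Scheme.{u}} (r r' : T ⟶ G.R), r ≫ G.t = r' ≫ G.t → r ≫ G.s = r' ≫ G.s → r = r' :=
    fun r r' h₁ h₂ => (cancel_mono G.j).1 (pullback.hom_ext (by simpa [GroupoidScheme.j] using h₁)
      (by simpa [GroupoidScheme.j] using h₂))
  let σ := srcMap G g
  let τ := pullback.snd G.t g
  have hex : ∀ {T : Scheme.{u}} (a b : T ⟶ G.U), a ≫ p = b ≫ p → ∃ r : T ⟶ G.R, r ≫ G.t = a ∧ r ≫ G.s = b := by
    intro T a b hab
    let π₁ := pullback.fst a σ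
    let π₂ := pullback.fst (π₁ ≫ b) σ
    let π := π₂ ≫ π₁
    let va := π₂ ≫ pullback.snd a σ
    let vb := pullback.snd (π₁ ≫ b) σ
    have hva : va ≫ σ = π ≫ a := by simp only [va, π, π₁, Category.assoc, pullback.condition]
    have hvb : vb ≫ σ = π ≫ b := by
      simp only [vb, π, Category.assoc]
      exact pullback.condition.symm
    obtain ⟨ρ, hρt, hρs⟩ := hpb.exists_lift (va ≫ τ) (vb ≫ τ) (by
      rw [Category.assoc va, Category.assoc vb, ← hp, reassoc_of% hva, reassoc_of% hvb, hab])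
    have hα : ((va ≫ pullback.fst G.t g) ≫ G.i) ≫ G.s = (ρ ≫ pbMid G g) ≫ G.t := by
      rw [Category.assoc, G.i_s, Category.assoc ρ, pbMid_t, reassoc_of% hρt]
      simp only [τ, Category.assoc, pullback.condition]
    obtain ⟨γ, hγt, hγs⟩ := exists_mul _ _ hα
    have hβ : γ ≫ G.s = (vb ≫ pullback.fst G.t g) ≫ G.t := by
      rw [hγs, Category.assoc ρ, pbMid_s, reassoc_of% hρs]
      simp only [τ, Category.assoc, pullback.condition]
    obtain ⟨δ, hδt, hδs⟩ := exists_mul _ _ hβ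
    have h1 : δ ≫ G.t = π ≫ a := by rw [hδt, hγt, Category.assoc _ G.i, G.i_t, ← hva]; simp [σ, srcMap]
    have h2 : δ ≫ G.s = π ≫ b := by rw [hδs, ← hvb]; simp [σ, srcMap]
    have : IsFinite π := inferInstance
    have : Flat π := inferInstance
    have : LocallyOfFinitePresentation π := inferInstance
    have : Surjective π := inferInstance
    have hd : ∀ {Z : Scheme.{u}} (x y : Z ⟶ pullback (π₁ ≫ b) σ), x ≫ π = y ≫ π → x ≫ δ = y ≫ δ :=
      fun x y h => huniq _ _ (by rw [Category.assoc, Category.assoc, h1, reassoc_of% h])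
        (by rw [Category.assoc, Category.assoc, h2, reassoc_of% h])
    refine ⟨EffectiveEpi.desc π δ hd, ?_, ?_⟩
    · rw [← cancel_epi π, EffectiveEpi.fac_assoc, h1]
    · rw [← cancel_epi π, EffectiveEpi.fac_assoc, h2]
  choose l hl₁ hl₂ using fun c : PullbackCone p p => hex c.fst c.snd c.condition
  exact ⟨⟨wp⟩, ⟨PullbackCone.IsLimit.mk _ l hl₁ hl₂ fun c m h₁ h₂ => huniq _ _ (h₁.trans (hl₁ c).symm)
    (h₂.trans (hl₂ c).symm)⟩⟩

end Groth.Agent.GrpdLib
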