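import Groth.Agent.GrpdLib.InvOpen
import Groth.Agent.GrpdLib.LocQuot
import Groth.Agent.ProConsLib.Image
import Mathlib.AlgebraicGeometry.Morphisms.Flat

/-!
# Topology of orbits
-/

set_option backward.isDefEq.respectTransparency false
set_option backward.isDefEq.respectTransparency.types false

universe u

open CategoryTheory CategoryTheory.Limits AlgebraicGeometry Grpd Topology

namespace Groth.Agent.GrpdLib

variable {S : Scheme.{u}} (G : GroupoidScheme S)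

theorem exists_inv (r : G.R) : ∃ r', G.t r' = G.s r ∧ G.s r' = G.t r :=
  ⟨G.i r, by rw [← Scheme.Hom.comp_apply, G.i_t], by rw [← Scheme.Hom.comp_apply, G.i_s]⟩

/-- The saturation of a set. -/
def sat (W : Set G.U) : Set G.U := G.t '' (G.s ⁻¹' W)

theorem mem_sat_iff (W : Set G.U) (r : G.R) : G.s r ∈ sat G W ↔ G.t r ∈ sat G W := by
  constructor
  · rintro ⟨a, ha, e⟩
    obtain ⟨b, hb₁, hb₂⟩ := exists_comp G r a e.symm
    exact ⟨b, by show G.s b ∈ W; rw [hb₂]; exact ha, hb₁⟩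
  · rintro ⟨a, ha, e⟩
    obtain ⟨r', hr₁, hr₂⟩ := exists_inv G r
    obtain ⟨b, hb₁, hb₂⟩ := exists_comp G r' a (by rw [hr₂, e])
    exact ⟨b, by show G.s b ∈ W; rw [hb₂]; exact ha, by rw [hb₁, hr₁]⟩

theorem subset_sat (W : Set G.U) : W ⊆ sat G W := fun x hx => by
  refine ⟨G.e x, ?_, ?_⟩
  · show G.s (G.e x) ∈ W
    rw [← Scheme.Hom.comp_apply, G.e_s]
    exact hx
  · rw [← Scheme.Hom.comp_apply, G.e_t]
    rfl

theorem preimage_sat (W : Set G.U) : G.s ⁻¹' sat G W = G.t ⁻¹' sat G W := Set.ext (mem_sat_iff G W)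

theorem exists_invariant_qcOpen (hs : IsOpenMap G.s) (ht : IsOpenMap G.t) (hsq : QuasiCompact G.s) (u : G.U) :
    ∃ W : G.U.Opens, IsCompact (W : Set G.U) ∧ u ∈ W ∧ G.s ⁻¹ᵁ W = G.t ⁻¹ᵁ W := by
  obtain ⟨V, hV, hu⟩ := exists_affineOpen_mem u
  refine ⟨⟨sat G V, ht _ (V.isOpen.preimage G.s.continuous)⟩,
    (G.s.isCompact_preimage hV.isCompact).image G.t.continuous, subset_sat G _ hu, ?_⟩
  exact TopologicalSpace.Opens.ext (preimage_sat G V)

theorem isProConstructible_of_isClosed {X : Scheme.{u}} {Z : Set X} (hZ : IsClosed Z) :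
    ProCons.IsProConstructible Z :=
  ProConsLib.isProConstructible_of_isLocallyClosed hZ.isLocallyClosed fun _V hV => hV.isCompact.inter_left hZ

theorem exists_qcOpens_iInter [QuasiCompact G.s] [Flat G.t] (W : G.U.Opens) (hW : IsCompact (W : Set G.U)) :
    ∃ (ι : Type u) (_ : Nonempty ι) (V : ι → G.U.Opens), (∀ i, IsCompact (V i : Set G.U)) ∧
      sat G W = ⋂ i, (V i : Set G.U) := by
  have hE : IsCompact (sat G W) := (G.s.isCompact_preimage hW).image G.t.continuous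
  have hgen : ∀ x y, y ∈ sat G W → x ⤳ y → x ∈ sat G W := by
    rintro x _ ⟨r, hr, rfl⟩ hxy
    obtain ⟨r', hr', e⟩ := Flat.generalizingMap G.t hxy
    exact ⟨r', hr'.mem_open (W.isOpen.preimage G.s.continuous) hr, e⟩
  have key : ∀ (p : G.U → Prop), (∀ e ∈ sat G W, ∃ O : G.U.Opens, e ∈ O ∧ ∀ z ∈ O, p z) →
      ∃ V : G.U.Opens, IsCompact (V : Set G.U) ∧ sat G W ⊆ V ∧ ∀ z ∈ V, p z := by
    intro p hp
    choose O hO hpO using hp
    have : ∀ e : sat G W, ∃ A : G.U.Opens, IsAffineOpen A ∧ e.1 ∈ A ∧ A ≤ O e.1 e.2 := fun e => by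
      obtain ⟨_, ⟨A, hA, rfl⟩, hy, hle⟩ :=
        G.U.isBasis_affineOpens.exists_subset_of_mem_open (hO e.1 e.2) (O e.1 e.2).isOpen
      exact ⟨A, hA, hy, hle⟩
    choose A hA hmem hle using this
    obtain ⟨T, hT⟩ := hE.elim_finite_subcover (fun e => (A e : Set G.U)) (fun e => (A e).isOpen)
      fun e he => Set.mem_iUnion.2 ⟨⟨e, he⟩, hmem ⟨e, he⟩⟩
    refine ⟨⟨⋃ e ∈ T, (A e : Set G.U), isOpen_biUnion fun e _ => (A e).isOpen⟩,
      T.finite_toSet.isCompact_biUnion fun e _ => (hA e).isCompact, hT, fun z hz => ?_⟩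
    obtain ⟨e, -, hz⟩ := Set.mem_iUnion₂.1 hz
    exact hpO e.1 e.2 z (hle e hz)
  let ι := {V : G.U.Opens // IsCompact (V : Set G.U) ∧ sat G W ⊆ V}
  obtain ⟨V₀, hV₀, hsub, -⟩ := key (fun _ => True) fun e _ => ⟨⊤, trivial, fun _ _ => trivial⟩
  refine ⟨ι, ⟨⟨V₀, hV₀, hsub⟩⟩, fun V => V.1, fun V => V.2.1, Set.Subset.antisymm
    (Set.subset_iInter fun V => V.2.2) fun x hx => ?_⟩
  by_contra hxE
  obtain ⟨V, hVc, hVsub, hV⟩ := key (fun z => z ≠ x) fun e he => by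
    have : ¬ x ⤳ e := fun h => hxE (hgen x e he h)
    rw [specializes_iff_forall_open] at this
    push Not at this
    obtain ⟨O, hO, heO, hxO⟩ := this
    exact ⟨⟨O, hO⟩, heO, fun z hz e' => hxO (e' ▸ hz)⟩
  exact hV x (Set.mem_iInter.1 hx ⟨V, hVc, hVsub⟩) rfl

theorem exists_invariant_open_between [QuasiCompact G.s] [Flat G.s] [QuasiCompact G.t] [Flat G.t] (W : G.U.Opens)
    (hW : IsCompact (W : Set G.U)) :
    ∃ V W' : G.U.Opens, G.s ⁻¹ᵁ V = G.t ⁻¹ᵁ V ∧ IsCompact (W' : Set G.U) ∧ W ≤ V ∧ V ≤ W' := by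
  obtain ⟨ι, ⟨i⟩, Vs, hVc, hVe⟩ := exists_qcOpens_iInter G W hW
  let Z : Set G.U := (Vs i : Set G.U)ᶜ
  let E := sat G Z
  have hF : ProCons.IsProConstructible (G.s ⁻¹' Z) :=
    isProConstructible_of_isClosed ((Vs i).isOpen.isClosed_compl.preimage G.s.continuous)
  have hclE : ∀ x ∈ closure E, ∃ e ∈ E, e ⤳ x := fun x hx => by
    obtain ⟨r, hr, h⟩ := ProConsLib.exists_specializes_of_mem_closure_image_scheme hF G.t hx
    exact ⟨_, ⟨r, hr, rfl⟩, h⟩
  have hcl : ∀ r, G.s r ∈ closure E → G.t r ∈ closure E := fun r hr => by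
    obtain ⟨e, he, hes⟩ := hclE _ hr
    obtain ⟨r', hr', rfl⟩ := Flat.generalizingMap G.s hes
    exact (hr'.map G.t.continuous).mem_closed isClosed_closure (subset_closure ((mem_sat_iff G Z r').1 he))
  have hcl' : ∀ r, G.t r ∈ closure E → G.s r ∈ closure E := fun r hr => by
    obtain ⟨r', h₁, h₂⟩ := exists_inv G r
    have := hcl r' (by rw [h₂]; exact hr)
    rwa [h₁] at this
  refine ⟨⟨(closure E)ᶜ, isClosed_closure.isOpen_compl⟩, Vs i, ?_, hVc i, ?_, ?_⟩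
  · refine TopologicalSpace.Opens.ext (Set.ext fun r => ⟨fun h h' => h (hcl' r h'), fun h h' => h (hcl r h')⟩)
  · intro w hw hwE
    obtain ⟨e, ⟨r, hr, rfl⟩, he⟩ := hclE w hwE
    have hT : G.t r ∈ sat G W := subset_sat G _ (he.mem_open W.isOpen hw)
    rw [← mem_sat_iff, hVe] at hT
    exact hr (Set.mem_iInter.1 hT i)
  · intro x hx
    by_contra h
    exact hx (subset_closure (subset_sat G Z h))

end Groth.Agent.GrpdLib
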