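import Groth.Agent.GrpdLib.LocQuot

/-!
# Affine quotients are locally universal
-/

set_option backward.isDefEq.respectTransparency false
set_option backward.isDefEq.respectTransparency.types false

universe u

open CategoryTheory CategoryTheory.Limits AlgebraicGeometry TopologicalSpace

namespace Groth.Agent.GrpdLib

theorem morphismRestrict_appTop' {X Y : Scheme.{u}} (p : X ⟶ Y) (O : Y.Opens) :
    (p ∣_ O).appTop = O.topIso.hom ≫ p.app O ≫ (p ⁻¹ᵁ O).topIso.inv := by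
  have h : (p ∣_ O) = p.resLE O (p ⁻¹ᵁ O) le_rfl := (p.resLE_eq_morphismRestrict (U := O)).symm
  rw [h, Scheme.Hom.appTop, Scheme.Hom.app_eq_appLE, Scheme.Hom.resLE_appLE]
  simp [Scheme.Hom.app_eq_appLE, Scheme.Opens.topIso, Scheme.Hom.appLE_map, Scheme.Hom.map_appLE]

theorem resLE_appTop' {X Y : Scheme.{u}} (f : X ⟶ Y) (U : Y.Opens) (V : X.Opens) (e : V ≤ f ⁻¹ᵁ U) :
    (f.resLE U V e).appTop = U.topIso.hom ≫ f.appLE U V e ≫ V.topIso.inv := by
  rw [Scheme.Hom.appTop, Scheme.Hom.app_eq_appLE, Scheme.Hom.resLE_appLE]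
  simp [Scheme.Opens.topIso, Scheme.Hom.appLE_map, Scheme.Hom.map_appLE]

theorem existsUnique_lift {U Y Z : Scheme.{u}} [IsAffine Z] (q : U ⟶ Y) (f : U ⟶ Z)
    (hinj : Function.Injective q.appTop) (hrange : ∀ z, f.appTop z ∈ Set.range q.appTop) :
    ∃! g : Y ⟶ Z, q ≫ g = f := by
  choose φ hφ using hrange
  let Φ : Γ(Z, ⊤) →+* Γ(Y, ⊤) :=
    { toFun := φ
      map_one' := hinj (by rw [hφ, map_one, map_one])
      map_mul' := fun a b => hinj (by rw [map_mul, hφ, hφ, hφ, map_mul])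
      map_zero' := hinj (by rw [hφ, map_zero, map_zero])
      map_add' := fun a b => hinj (by rw [map_add, hφ, hφ, hφ, map_add]) }
  have h : ∀ g : Y ⟶ Z, q ≫ g = f ↔ g.appTop = CommRingCat.ofHom Φ := fun g => by
    constructor
    · intro e
      ext z
      apply hinj
      show (g.appTop ≫ q.appTop) z = q.appTop (φ z)
      rw [← Scheme.Hom.comp_appTop, e, hφ]
    · intro e
      refine ext_of_isAffine ?_
      rw [Scheme.Hom.comp_appTop, e]
      ext z
      exact hφ z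
  have hinv : Z.isoSpec.inv.appTop ≫ (Scheme.ΓSpecIso Γ(Z, ⊤)).hom = 𝟙 _ := by
    rw [← Scheme.toSpecΓ_appTop, ← Scheme.Hom.comp_appTop, ← Scheme.isoSpec_hom, Iso.hom_inv_id, Scheme.Hom.id_appTop]
  refine ⟨Y.toSpecΓ ≫ Spec.map (CommRingCat.ofHom Φ) ≫ Z.isoSpec.inv, (h _).2 ?_,
    fun g hg => ext_of_isAffine ?_⟩
  · simp
    exact (reassoc_of% hinv) _
  · rw [(h g).1 hg]
    simp
    exact ((reassoc_of% hinv) _).symm

variable {R U Y : Scheme.{u}} [IsAffine R] [IsAffine U] [IsAffine Y] {s t : R ⟶ U} {p : U ⟶ Y}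

theorem injective_app_basicOpen (hinj : Function.Injective p.appTop) (c : Γ(Y, ⊤)) :
    Function.Injective (p.app (Y.basicOpen c)) := by
  rw [injective_iff_map_eq_zero]
  intro x hx
  have := isLocalization_away_of_isAffine c
  have := isLocalization_away_of_isAffine (p.appTop c)
  obtain ⟨⟨a, ⟨_, k, rfl⟩⟩, hxa⟩ := IsLocalization.surj (Submonoid.powers c) x
  dsimp only at hxa
  have hle : U.basicOpen (p.appTop c) ≤ p ⁻¹ᵁ Y.basicOpen c := (p.preimage_basicOpen_top c).ge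
  have h0 : (U.presheaf.map (homOfLE (U.basicOpen_le (p.appTop c))).op) (p.appTop a) = 0 := by
    have h1 : p.app (Y.basicOpen c) (algebraMap Γ(Y, ⊤) Γ(Y, Y.basicOpen c) a) = 0 := by
      rw [← hxa, map_mul, hx, zero_mul]
    have h2 := congrArg (U.presheaf.map (homOfLE hle).op) h1
    rw [map_zero, RingHom.algebraMap_toAlgebra, ← CommRingCat.comp_apply, ← CommRingCat.comp_apply,
      ← Scheme.Hom.appLE, Scheme.Hom.map_appLE] at h2
    rw [← h2, ← CommRingCat.comp_apply]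
    rfl
  obtain ⟨⟨_, m, rfl⟩, hm⟩ := (IsLocalization.map_eq_zero_iff (Submonoid.powers (p.appTop c))
    Γ(U, U.basicOpen (p.appTop c)) _).1 h0
  dsimp only at hm
  rw [← map_pow, ← map_mul] at hm
  have h3 : c ^ m * a = 0 := hinj (by rw [hm, map_zero])
  have h4 : x * algebraMap Γ(Y, ⊤) Γ(Y, Y.basicOpen c) (c ^ (k + m)) = 0 := by
    rw [pow_add, map_mul, ← mul_assoc, hxa, ← map_mul, mul_comm, h3, map_zero]
  exact (IsLocalization.map_units _ (⟨_, k + m, rfl⟩ : Submonoid.powers c)).mul_left_eq_zero.1 h4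

theorem mem_range_app_basicOpen (w : t ≫ p = s ≫ p) (hinj : Function.Injective p.appTop)
    (heq : ∀ a, s.appTop a = t.appTop a → a ∈ Set.range p.appTop) (c : Γ(Y, ⊤))
    (R' : R.Opens) (hR' : R' = (s ≫ p) ⁻¹ᵁ Y.basicOpen c) (hs : R' ≤ s ⁻¹ᵁ (p ⁻¹ᵁ Y.basicOpen c))
    (ht : R' ≤ t ⁻¹ᵁ (p ⁻¹ᵁ Y.basicOpen c)) (x : Γ(U, p ⁻¹ᵁ Y.basicOpen c))
    (hx : s.appLE _ R' hs x = t.appLE _ R' ht x) : x ∈ Set.range (p.app (Y.basicOpen c)) := by
  have hU : p ⁻¹ᵁ Y.basicOpen c = U.basicOpen (p.appTop c) := p.preimage_basicOpen_top c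
  let d : Γ(R, ⊤) := s.appTop (p.appTop c)
  have hd : t.appTop (p.appTop c) = d := by
    show (p.appTop ≫ t.appTop) c = (p.appTop ≫ s.appTop) c
    rw [← Scheme.Hom.comp_appTop, ← Scheme.Hom.comp_appTop, w]
  have hRd : R' = R.basicOpen d := by
    rw [hR', Scheme.Hom.comp_preimage, hU, s.preimage_basicOpen_top]
  subst hRd
  let ρY := Y.presheaf.map (homOfLE (Y.basicOpen_le c)).op
  let ρU := U.presheaf.map (homOfLE (le_top : p ⁻¹ᵁ Y.basicOpen c ≤ ⊤)).op
  have : IsLocalization.Away (p.appTop c) Γ(U, U.basicOpen (p.appTop c)) := isLocalization_away_of_isAffine _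
  obtain ⟨⟨a, ⟨_, k, rfl⟩⟩, hxa⟩ := IsLocalization.surj (Submonoid.powers (p.appTop c))
    (U.presheaf.map (homOfLE hU.ge).op x)
  dsimp only at hxa
  have hiso : Function.Injective (U.presheaf.map (homOfLE hU.ge).op) := by
    have : homOfLE hU.ge = eqToHom hU.symm := Subsingleton.elim _ _
    rw [this]
    exact (ConcreteCategory.bijective_of_isIso _).1
  have hxa' : x * ρU (p.appTop c ^ k) = ρU a := hiso (by
    rw [map_mul, ← CommRingCat.comp_apply, ← CommRingCat.comp_apply, ← Functor.map_comp]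
    exact hxa)
  have hρ : ∀ (f : R ⟶ U) (hf : R.basicOpen d ≤ f ⁻¹ᵁ (p ⁻¹ᵁ Y.basicOpen c)) (b : Γ(U, ⊤)),
      f.appLE _ _ hf (ρU b) = R.presheaf.map (homOfLE (R.basicOpen_le d)).op (f.appTop b) := fun f hf b => by
    rw [← CommRingCat.comp_apply, Scheme.Hom.map_appLE]
    rfl
  have h1 : R.presheaf.map (homOfLE (R.basicOpen_le d)).op (s.appTop a) =
      R.presheaf.map (homOfLE (R.basicOpen_le d)).op (t.appTop a) := by
    rw [← hρ s hs, ← hρ t ht, ← hxa', map_mul, map_mul, hx, hρ s hs, hρ t ht]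
    simp only [map_pow, hd, d]
  have := isLocalization_away_of_isAffine d
  obtain ⟨⟨_, m, rfl⟩, hm⟩ := (IsLocalization.eq_iff_exists (Submonoid.powers d) Γ(R, R.basicOpen d)).1 h1
  dsimp only at hm
  obtain ⟨b, hb⟩ := heq (p.appTop c ^ m * a) (by
    rw [map_mul, map_mul, map_pow, map_pow, hd]
    exact hm)
  have := isLocalization_away_of_isAffine c
  obtain ⟨v, hv⟩ := (IsLocalization.map_units Γ(Y, Y.basicOpen c) (⟨_, k + m, rfl⟩ : Submonoid.powers c))
  change (v : Γ(Y, Y.basicOpen c)) = ρY (c ^ (k + m)) at hv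
  refine ⟨ρY b * ↑v⁻¹, ?_⟩
  have hn : ∀ z, p.app (Y.basicOpen c) (ρY z) = ρU (p.appTop z) := fun z => by
    rw [← CommRingCat.comp_apply, ← CommRingCat.comp_apply]
    refine ConcreteCategory.congr_hom ?_ z
    exact p.naturality (homOfLE (Y.basicOpen_le c)).op
  refine (Units.map (p.app (Y.basicOpen c)).hom.toMonoidHom v).isUnit.mul_left_inj.1 ?_
  show p.app (Y.basicOpen c) (ρY b * ↑v⁻¹) * p.app (Y.basicOpen c) v = x * p.app (Y.basicOpen c) v
  rw [← map_mul, Units.inv_mul_cancel_right, hn, hb, hv, hn, map_pow, pow_add, map_mul, map_mul, ← mul_assoc, hxa']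
  ring

theorem isLocQuot_of_affine (w : t ≫ p = s ≫ p) (hsurj : Function.Surjective p) (hclosed : IsClosedMap p)
    (horb : ∀ x y : U, p x = p y → ∃ r : R, t r = x ∧ s r = y) (hinj : Function.Injective p.appTop)
    (heq : ∀ a, s.appTop a = t.appTop a → a ∈ Set.range p.appTop) : IsLocQuot s t p := by
  refine ⟨w, hsurj, hclosed, horb, fun O y hy => ?_⟩
  obtain ⟨c, hc, hyc⟩ := (isAffineOpen_top Y).exists_basicOpen_le ⟨y, hy⟩ (Opens.mem_top y)
  refine ⟨Y.basicOpen c, hc, hyc, fun Z _ f hf => existsUnique_lift _ f ?_ fun z => ?_⟩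
  · rw [morphismRestrict_appTop']
    simp only [CommRingCat.hom_comp, RingHom.coe_comp]
    exact ((ConcreteCategory.bijective_of_isIso _).1.comp (injective_app_basicOpen hinj c)).comp
      (ConcreteCategory.bijective_of_isIso _).1
  let P : U.Opens := p ⁻¹ᵁ Y.basicOpen c
  let R' : R.Opens := (s ≫ p) ⁻¹ᵁ Y.basicOpen c
  have hs : R' ≤ s ⁻¹ᵁ P := le_rfl
  have ht : R' ≤ t ⁻¹ᵁ P := (congrArg (fun φ => φ ⁻¹ᵁ Y.basicOpen c) w).ge
  have e := congrArg Scheme.Hom.appTop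
    (hf R'.ι (t.resLE P R' ht) (s.resLE P R' hs) (Scheme.Hom.resLE_comp_ι ..) (Scheme.Hom.resLE_comp_ι ..))
  rw [Scheme.Hom.comp_appTop, Scheme.Hom.comp_appTop, resLE_appTop', resLE_appTop'] at e
  have e' := congrArg (fun φ => R'.topIso.hom (φ z)) e
  simp only [CommRingCat.comp_apply, CategoryTheory.Iso.inv_hom_id_apply] at e'
  obtain ⟨b, hb⟩ := mem_range_app_basicOpen w hinj heq c R' rfl hs ht (P.topIso.hom (f.appTop z)) e'.symm
  refine ⟨(Y.basicOpen c).topIso.inv b, ?_⟩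
  rw [morphismRestrict_appTop']
  simp only [CommRingCat.comp_apply, CategoryTheory.Iso.inv_hom_id_apply]
  rw [hb]
  exact CategoryTheory.Iso.hom_inv_id_apply P.topIso _

end Groth.Agent.GrpdLib
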