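import Groth.Agent.VarDim.IrredFibres
import Mathlib.RingTheory.Spectrum.Prime.Chevalley
import Mathlib.FieldTheory.AlgebraicClosure
import Mathlib.FieldTheory.IsAlgClosed.AlgebraicClosure
import Mathlib.RingTheory.FinitePresentation

/-!
# Functions on affine varieties avoiding the roots of many polynomials are constant
-/

universe u

open Polynomial

namespace Groth.Agent.GrpdLib

/-- A function all of whose values `P(f)` are units, for `P` over a subfield not vanishing at a given `a`,
is algebraic. -/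
theorem isAlgebraic_of_forall_isUnit {k A : Type u} [Field k] [CommRing A] [IsDomain A] [Algebra k A]
    [Algebra.FiniteType k A] (F : Subfield k) (a : k) (f : A)
    (h : ∀ P : Polynomial F, (P.map F.subtype).eval a ≠ 0 → IsUnit (aeval f (P.map F.subtype))) :
    IsAlgebraic k f := by
  by_contra hf
  let φ : k[X] →+* A := (aeval f).toRingHom
  have hinj : Function.Injective φ := transcendental_iff_injective.1 hf
  have hft : φ.FiniteType := by
    refine RingHom.FiniteType.of_comp_finiteType (f := C) ?_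
    have : φ.comp C = algebraMap k A := RingHom.ext fun c => aeval_C f c
    rw [this, RingHom.finiteType_algebraMap]
    infer_instance
  have hfp : φ.FinitePresentation := RingHom.FinitePresentation.of_finiteType.1 hft
  let η : PrimeSpectrum k[X] := ⟨⊥, Ideal.isPrime_bot⟩
  have hη : η ∈ Set.range (PrimeSpectrum.comap φ) := by
    refine ⟨⟨⊥, Ideal.isPrime_bot⟩, PrimeSpectrum.ext ?_⟩
    exact (RingHom.ker_eq_comap_bot φ).symm.trans ((RingHom.injective_iff_ker_eq_bot φ).1 hinj)
  have hnhd := (VarDim.mem_nhds_of_isConstructible (η := η)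
    (fun x => (PrimeSpectrum.le_iff_specializes η x).1 bot_le) (PrimeSpectrum.isConstructible_range_comap hfp)).1 hη
  obtain ⟨_, ⟨g, rfl⟩, hgη, hg⟩ := PrimeSpectrum.isTopologicalBasis_basic_opens.mem_nhds_iff.1 hnhd
  have hg0 : g ≠ 0 := fun h0 => hgη (by simp [h0, η])
  let Ω := AlgebraicClosure k
  let g' : Ω[X] := (g * (X - C a)).map (algebraMap k Ω)
  have hg' : g' ≠ 0 := Polynomial.map_ne_zero (mul_ne_zero hg0 (X_sub_C_ne_zero a))
  let B : Set (Polynomial F) := minpoly F '' {ρ : Ω | g'.IsRoot ρ}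
  have hB : B.Finite := (Polynomial.finite_setOf_isRoot hg').image _
  have : IsAlgClosure F (algebraicClosure F Ω) := inferInstance
  have : IsAlgClosed (algebraicClosure F Ω) := IsAlgClosure.isAlgClosed F
  obtain ⟨γ, hγi, hγ⟩ : ∃ γ : Ω, IsIntegral F γ ∧ minpoly F γ ∉ B := by
    by_contra hall
    push Not at hall
    refine (Set.infinite_univ (α := algebraicClosure F Ω)).image Subtype.coe_injective.injOn ?_
    refine Set.Finite.subset (Set.Finite.biUnion hB fun P _ => P.rootSet_finite Ω) ?_
    rintro _ ⟨⟨γ, hγ⟩, -, rfl⟩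
    have hi : IsIntegral F γ := mem_algebraicClosure_iff'.1 hγ
    exact Set.mem_biUnion (hall γ hi)
      ((mem_rootSet_of_ne (minpoly.ne_zero hi)).2 (minpoly.aeval F γ))
  have hbad : ∀ ρ : Ω, aeval ρ (minpoly F γ) = 0 → aeval ρ (g * (X - C a)) ≠ 0 := by
    intro ρ hρ hρ'
    refine hγ ⟨ρ, ?_, ?_⟩
    · show g'.IsRoot ρ
      rw [IsRoot, eval_map_algebraMap]
      exact hρ'
    · exact (minpoly.eq_of_irreducible_of_monic (minpoly.irreducible hγi) hρ (minpoly.monic hγi)).symm
  let P := (minpoly F γ).map F.subtype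
  have hP : ∀ ρ : Ω, aeval ρ P = aeval ρ (minpoly F γ) := fun ρ => by
    simp only [P, aeval_def, eval₂_map]
    rfl
  have hγP : aeval γ P = 0 := (hP γ).trans (minpoly.aeval F γ)
  have hu : IsUnit (φ P) := by
    refine h _ fun ha => hbad (algebraMap k Ω a) ?_ (by simp)
    rw [← hP, aeval_algebraMap_apply_eq_algebraMap_eval, ha, map_zero]
  let Q : PrimeSpectrum k[X] := ⟨RingHom.ker (aeval γ).toRingHom, RingHom.ker_isPrime _⟩
  obtain ⟨p, hp⟩ := hg (show g ∉ Q.asIdeal from fun hgQ => hbad γ (minpoly.aeval F γ) (by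
    rw [map_mul, show aeval γ g = 0 from hgQ, zero_mul]))
  have : P ∈ (PrimeSpectrum.comap φ p).asIdeal := hp.symm ▸ (show P ∈ Q.asIdeal from hγP)
  exact p.2.ne_top (Ideal.eq_top_of_isUnit_mem _ this hu)

end Groth.Agent.GrpdLib
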