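import Groth.Agent.GrpdLib.Affine

/-!
# Base change of an affine groupoid along an algebra over the invariants
-/

set_option backward.isDefEq.respectTransparency false
set_option backward.isDefEq.respectTransparency.types false

universe u

open CategoryTheory CategoryTheory.Limits
open scoped TensorProduct

noncomputable section

namespace Groth.Agent.GrpdLib.AffData

section Tensor

variable {K : Type u} [CommRing K] (R : Type u) [CommRing R] [Algebra K R]

/-- The map on tensor products. -/
abbrev tmap {M N : Type u} [CommRing M] [CommRing N] [Algebra K M] [Algebra K N] (f : M →ₐ[K] N) :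
    M ⊗[K] R →+* N ⊗[K] R :=
  (Algebra.TensorProduct.map f (AlgHom.id K R)).toRingHom

theorem isPushout_tmap {M N : Type u} [CommRing M] [CommRing N] [Algebra K M] [Algebra K N] (f : M →ₐ[K] N) :
    IsPushout (CommRingCat.ofHom f.toRingHom)
      (CommRingCat.ofHom (Algebra.TensorProduct.includeLeft : M →ₐ[K] M ⊗[K] R).toRingHom)
      (CommRingCat.ofHom (Algebra.TensorProduct.includeLeft : N →ₐ[K] N ⊗[K] R).toRingHom)
      (CommRingCat.ofHom (tmap R f)) := by
  have hM := CommRingCat.isPushout_tensorProduct K M R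
  have hN := CommRingCat.isPushout_tensorProduct K N R
  refine IsPushout.of_left ?_ ?_ hM
  · have e1 : CommRingCat.ofHom (algebraMap K M) ≫ CommRingCat.ofHom f.toRingHom = CommRingCat.ofHom (algebraMap K N) :=
      CommRingCat.hom_ext f.comp_algebraMap
    have e2 : CommRingCat.ofHom (Algebra.TensorProduct.includeRight : R →ₐ[K] M ⊗[K] R).toRingHom ≫
        CommRingCat.ofHom (tmap R f) =
        CommRingCat.ofHom (Algebra.TensorProduct.includeRight : R →ₐ[K] N ⊗[K] R).toRingHom := by
      refine CommRingCat.hom_ext (RingHom.ext fun r => ?_)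
      change (Algebra.TensorProduct.map f (AlgHom.id K R)) (1 ⊗ₜ[K] r) = (1 : N) ⊗ₜ[K] r
      simp
    rw [e1, e2]
    exact hN
  · refine CommRingCat.hom_ext (RingHom.ext fun m => ?_)
    change f m ⊗ₜ[K] (1 : R) = (Algebra.TensorProduct.map f (AlgHom.id K R)) (m ⊗ₜ[K] 1)
    simp

theorem isPushout_tmap_sq {M₁ M₂ M₃ M₄ : Type u} [CommRing M₁] [CommRing M₂] [CommRing M₃] [CommRing M₄]
    [Algebra K M₁] [Algebra K M₂] [Algebra K M₃] [Algebra K M₄] (f : M₁ →ₐ[K] M₂) (g : M₁ →ₐ[K] M₃)
    (h : M₂ →ₐ[K] M₄) (k : M₃ →ₐ[K] M₄)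
    (sq : IsPushout (CommRingCat.ofHom f.toRingHom) (CommRingCat.ofHom g.toRingHom)
      (CommRingCat.ofHom h.toRingHom) (CommRingCat.ofHom k.toRingHom)) :
    IsPushout (CommRingCat.ofHom (tmap R f)) (CommRingCat.ofHom (tmap R g)) (CommRingCat.ofHom (tmap R h))
      (CommRingCat.ofHom (tmap R k)) := by
  have h1 := sq.paste_vert (isPushout_tmap R k)
  rw [(isPushout_tmap R h).w, (isPushout_tmap R g).w] at h1
  refine IsPushout.of_top h1 ?_
    (isPushout_tmap R f)
  have e : h.comp f = k.comp g :=
    AlgHom.ext fun x => congrArg (fun φ => φ.hom x) sq.w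
  have h2 : (Algebra.TensorProduct.map h (AlgHom.id K R)).comp (Algebra.TensorProduct.map f (AlgHom.id K R)) =
      (Algebra.TensorProduct.map k (AlgHom.id K R)).comp (Algebra.TensorProduct.map g (AlgHom.id K R)) :=
    Algebra.TensorProduct.ext' fun x r => by simp [show h (f x) = k (g x) from congrArg (fun φ => φ x) e]
  exact CommRingCat.hom_ext (congrArg AlgHom.toRingHom h2)

end Tensor

variable (D : AffData.{u}) (K : Subring D.A) (hK : ∀ a, a ∈ K ↔ D.s a = D.t a)
  (R : Type u) [CommRing R] [Algebra K R]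

/-- `B` over the invariants. -/
abbrev algB : Algebra K D.B := (D.s.comp K.subtype).toAlgebra

/-- `C` over the invariants. -/
abbrev algC : Algebra K D.C := (D.p₂.comp (D.s.comp K.subtype)).toAlgebra

attribute [local instance] algB algC

/-- `s` as an algebra map. -/
def sK : D.A →ₐ[K] D.B := { D.s with commutes' := fun _ => rfl }

include hK in
theorem t_eq (k : K) : D.t k = D.s k := ((hK _).1 k.2).symm

/-- `t` as an algebra map. -/
def tK : D.A →ₐ[K] D.B := { D.t with commutes' := fun k => t_eq D K hK k }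

/-- `e` as an algebra map. -/
def eK : D.B →ₐ[K] D.A := { D.e with commutes' := fun k => D.e_s_apply k }

/-- `p₂` as an algebra map. -/
def p₂K : D.B →ₐ[K] D.C := { D.p₂ with commutes' := fun _ => rfl }

/-- `m` as an algebra map. -/
def mK : D.B →ₐ[K] D.C :=
  { D.m with commutes' := fun k => (congrArg (fun φ => φ.hom (k : D.A)) D.sq₂.w).symm }

include hK in
theorem p₁_commutes (k : K) : D.p₁ (D.s k) = D.p₂ (D.s k) := by
  have h := congrArg (fun φ => φ.hom (k : D.A)) D.sq₁.w
  simp only [CommRingCat.hom_comp, CommRingCat.hom_ofHom, RingHom.comp_apply, t_eq D K hK k] at h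
  exact h.symm

/-- `p₁` as an algebra map. -/
def p₁K : D.B →ₐ[K] D.C := { D.p₁ with commutes' := fun k => p₁_commutes D K hK k }

/-- The base change of the data. -/
def baseChange : AffData.{u} where
  A := D.A ⊗[K] R
  B := D.B ⊗[K] R
  C := D.C ⊗[K] R
  s := tmap R (sK D K)
  t := tmap R (tK D K hK)
  e := tmap R (eK D K)
  p₁ := tmap R (p₁K D K hK)
  p₂ := tmap R (p₂K D K)
  m := tmap R (mK D K)
  e_s := by
    have h : (Algebra.TensorProduct.map (eK D K) (AlgHom.id K R)).comp
        (Algebra.TensorProduct.map (sK D K) (AlgHom.id K R)) = AlgHom.id K (D.A ⊗[K] R) :=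
      Algebra.TensorProduct.ext' fun a r => by simp [eK, sK, D.e_s_apply]
    exact congrArg AlgHom.toRingHom h
  e_t := by
    have h : (Algebra.TensorProduct.map (eK D K) (AlgHom.id K R)).comp
        (Algebra.TensorProduct.map (tK D K hK) (AlgHom.id K R)) = AlgHom.id K (D.A ⊗[K] R) :=
      Algebra.TensorProduct.ext' fun a r => by simp [eK, tK, D.e_t_apply]
    exact congrArg AlgHom.toRingHom h
  m_t := by
    have h : (Algebra.TensorProduct.map (mK D K) (AlgHom.id K R)).comp
        (Algebra.TensorProduct.map (tK D K hK) (AlgHom.id K R)) =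
        (Algebra.TensorProduct.map (p₁K D K hK) (AlgHom.id K R)).comp
        (Algebra.TensorProduct.map (tK D K hK) (AlgHom.id K R)) :=
      Algebra.TensorProduct.ext' fun a r => by simp [mK, tK, p₁K, D.m_t_apply]
    exact congrArg AlgHom.toRingHom h
  sq₁ := isPushout_tmap_sq R (tK D K hK) (sK D K) (p₂K D K) (p₁K D K hK) D.sq₁
  sq₂ := isPushout_tmap_sq R (sK D K) (sK D K) (p₂K D K) (mK D K) D.sq₂

include hK in
/-- The invariants of a flat base change. -/
theorem mem_range_includeRight [Module.Flat K R] (z : D.A ⊗[K] R)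
    (hz : (D.baseChange K hK R).s z = (D.baseChange K hK R).t z) :
    ∃ r : R, (1 : D.A) ⊗ₜ[K] r = z := by
  let f : D.A →ₗ[K] D.B := (sK D K).toLinearMap - (tK D K hK).toLinearMap
  have hex : Function.Exact (Algebra.linearMap K D.A) f := by
    intro a
    simp only [f, LinearMap.sub_apply, sub_eq_zero, Set.mem_range]
    exact ⟨fun h => ⟨⟨a, (hK a).2 h⟩, rfl⟩, fun ⟨k, hk⟩ => hk ▸ (hK _).1 k.2⟩
  have h2 := Module.Flat.rTensor_exact R hex
  have hz' : f.rTensor R z = 0 := by
    rw [LinearMap.rTensor_sub, LinearMap.sub_apply, sub_eq_zero]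
    exact hz
  obtain ⟨w, hw⟩ := (h2 z).1 hz'
  refine ⟨TensorProduct.lid K R w, ?_⟩
  rw [← hw]
  clear hw
  induction w using TensorProduct.induction_on with
  | zero => simp
  | add a b ha hb => simp only [map_add, TensorProduct.tmul_add, ha, hb]
  | tmul k r =>
    rw [TensorProduct.lid_tmul, LinearMap.rTensor_tmul, ← TensorProduct.smul_tmul]
    rw [Algebra.linearMap_apply, Algebra.algebraMap_eq_smul_one]

end Groth.Agent.GrpdLib.AffData
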