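import Groth.Agent.GrpdLib.DegDecomp
import Groth.Agent.S1342
import Groth.Agent.S4961
import Groth.Agent.GrpSchLib.FieldTop

/-!
# The Cohen-Macaulay locus of a flat groupoid
-/

set_option backward.isDefEq.respectTransparency false
set_option backward.isDefEq.respectTransparency.types false

universe u

open CategoryTheory CategoryTheory.Limits AlgebraicGeometry Grpd
open Groth.Agent.GrpSchLib (IsMaxPt exists_isMaxPt)

namespace Groth.Agent.GrpdLib

theorem grpd_isCMAt_iff {X Y : Scheme.{u}} (f : X ⟶ Y) (x : X) : Grpd.IsCMAt f x ↔ MoreMor.IsCMAt f x :=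
  (Triage.CMMor.isCMAt_iff f x).symm

theorem flat_sm {X Y : Scheme.{u}} (f : X ⟶ Y) [Flat f] (x : X) (y : Y) (h : f x = y) :
    (FibFlat.sm f x y h).Flat := by
  subst h
  rw [FibFlat.sm_self]
  exact Flat.stalkMap f x

/-- Every nonempty fibre of a flat morphism of finite type has a Cohen-Macaulay point. -/
theorem exists_isCMAt_over {X Y : Scheme.{u}} (f : X ⟶ Y) [Flat f] [LocallyOfFiniteType f] {y : Y}
    (hy : y ∈ Set.range f) : ∃ x, f x = y ∧ MoreMor.IsCMAt f x := by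
  obtain ⟨x₀, rfl⟩ := hy
  obtain ⟨w, hw, -⟩ := exists_isMaxPt (f.asFiber x₀)
  have hfw : f (f.fiberι (f x₀) w) = f x₀ := by
    have : f.fiberι (f x₀) w ∈ Set.range (f.fiberι (f x₀)) := ⟨w, rfl⟩
    rw [Scheme.Hom.range_fiberι] at this
    exact this
  refine ⟨_, hfw, ?_⟩
  rw [Triage.CMMor.isCMAt_iff_sm f _ (f x₀) hfw]
  refine ⟨?_, ?_⟩
  · exact flat_sm f _ _ hfw
  · refine Triage.CMMor.isCM_of_equiv
      (Triage.CMMor.exists_equiv_fibre_stalk_aux f _ (f x₀) hfw w rfl).some.symm ?_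
    haveI : IsLocallyNoetherian (f.fiber (f x₀)) :=
      LocallyOfFiniteType.isLocallyNoetherian (f.fiberToSpecResidueField (f x₀))
    let j := (f.fiber (f x₀)).fromSpecStalk w
    have hsub : Subsingleton (PrimeSpectrum ((f.fiber (f x₀)).presheaf.stalk w)) := by
      refine ⟨fun a b => j.isEmbedding.injective ?_⟩
      have key : ∀ a, j a = w := fun a => hw _ (by
        have := Set.mem_range_self (f := j) a
        rwa [Scheme.range_fromSpecStalk] at this)
      exact (key a).trans (key b).symm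
    exact LC.Canon.isCMLocal_of_dim_zero
      (le_antisymm Order.krullDim_nonpos_of_subsingleton ringKrullDim_nonneg_of_nontrivial)

variable {S : Scheme.{u}} (G : GroupoidScheme S)

theorem exists_open_CM_locus [Flat G.s] [LocallyOfFinitePresentation G.s] [Flat G.t]
    [LocallyOfFinitePresentation G.t] :
    ∃ U' : G.U.Opens, (G.t ⁻¹ᵁ U' : Set G.R) = {r | Grpd.IsCMAt G.s r} ∧
      (G.s ⁻¹ᵁ U' : Set G.R) = {r | Grpd.IsCMAt G.t r} ∧
      ⇑G.t '' (G.s ⁻¹ᵁ U' : Set G.R) = Set.univ ∧ ⇑G.s '' (G.t ⁻¹ᵁ U' : Set G.R) = Set.univ := by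
  simp only [grpd_isCMAt_iff]
  let W : Set G.R := {r | MoreMor.IsCMAt G.t r}
  let U' : G.U.Opens := ⟨G.e ⁻¹' W, (S4961.result G.t).preimage G.e.continuous⟩
  have key : ∀ r : G.R, r ∈ W ↔ G.e (G.s r) ∈ W := by
    intro r
    have h1 := S1342.result G.t (pullback.fst G.s G.t) (pullback.snd G.s G.t) G.s
      (IsPullback.of_hasPullback G.s G.t).flip
    have h2 := S1342.result G.t (pullback.fst G.s G.t) G.c G.t (isPullback_fst_c G).flip
    let d := pullback.lift (f := G.s) (g := G.t) (𝟙 G.R) (G.s ≫ G.e)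
      (by rw [Category.id_comp, Category.assoc, G.e_t, Category.comp_id])
    have hc : d ≫ G.c = 𝟙 G.R := by
      refine Eq.trans ?_ (G.comp_e (𝟙 G.R))
      exact c_congr G _ rfl (Category.id_comp _).symm
    have hsnd : d ≫ pullback.snd G.s G.t = G.s ≫ G.e := pullback.lift_snd _ _ _
    have := Set.ext_iff.1 (h1.symm.trans h2) (d r)
    simp only [Set.mem_preimage] at this
    rw [← Scheme.Hom.comp_apply, ← Scheme.Hom.comp_apply, hsnd, hc] at this
    exact this.symm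
  have hs : (G.s ⁻¹ᵁ U' : Set G.R) = W := Set.ext fun r => (key r).symm
  have : IsIso G.i := ⟨G.i, i_i G, i_i G⟩
  have hi := S1342.result G.t G.s G.i (𝟙 G.U) (IsPullback.of_horiz_isIso ⟨by rw [G.i_t, Category.comp_id]⟩)
  have ht : (G.t ⁻¹ᵁ U' : Set G.R) = {r | MoreMor.IsCMAt G.s r} := by
    rw [hi]
    ext r
    show G.e (G.t r) ∈ W ↔ G.i r ∈ W
    rw [key (G.i r), ← Scheme.Hom.comp_apply G.i, G.i_s]
  refine ⟨U', ht, hs, ?_, ?_⟩
  · rw [hs, Set.eq_univ_iff_forall]
    intro u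
    obtain ⟨x, hx, h⟩ := exists_isCMAt_over G.t (y := u) ⟨G.e u, by rw [← Scheme.Hom.comp_apply, G.e_t]; rfl⟩
    exact ⟨x, h, hx⟩
  · rw [ht, Set.eq_univ_iff_forall]
    intro u
    obtain ⟨x, hx, h⟩ := exists_isCMAt_over G.s (y := u) ⟨G.e u, by rw [← Scheme.Hom.comp_apply, G.e_s]; rfl⟩
    exact ⟨x, h, hx⟩

end Groth.Agent.GrpdLib
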