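import Groth.Agent.GrpdLib.HomField
import Groth.Agent.H23.RedSub
import Mathlib.AlgebraicGeometry.IdealSheaf.Subscheme
import Mathlib.AlgebraicGeometry.Morphisms.UniversallyOpen

/-!
# Closures of images of groupoid morphisms over a field
-/

set_option backward.isDefEq.respectTransparency false
set_option backward.isDefEq.respectTransparency.types false

universe u

open CategoryTheory CategoryTheory.Limits AlgebraicGeometry Grpd

namespace Groth.Agent.GrpdLib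

variable {S : Scheme.{u}}

/-- `(α ∘ β) ∘ β⁻¹ = α`. -/
theorem mul_inv_cancel_pt (G : GroupoidScheme S) {T : Scheme.{u}} (α β : T ⟶ G.R) (h : α ≫ G.s = β ≫ G.t) :
    pullback.lift (pullback.lift α β h ≫ G.c) (β ≫ G.i)
      (by rw [G.comp_s, Category.assoc, G.i_t]) ≫ G.c = α := by
  refine (G.assoc α β (β ≫ G.i) h (by rw [Category.assoc, G.i_t])).trans ?_
  refine (c_congr G _ rfl (G.comp_i β)).trans ((c_congr G _ rfl ?_).trans (G.comp_e α))
  rw [← Category.assoc, ← h, Category.assoc]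

/-- `α⁻¹ ∘ (α ∘ β) = β`. -/
theorem inv_mul_cancel_pt (G : GroupoidScheme S) {T : Scheme.{u}} (α β : T ⟶ G.R) (h : α ≫ G.s = β ≫ G.t) :
    pullback.lift (α ≫ G.i) (pullback.lift α β h ≫ G.c)
      (by rw [G.comp_t, Category.assoc, G.i_s]) ≫ G.c = β := by
  refine (G.assoc (α ≫ G.i) α β (by rw [Category.assoc, G.i_s]) h).symm.trans ?_
  refine (c_congr G _ (G.i_comp α) rfl).trans ((c_congr G _ ?_ rfl).trans (G.e_comp β))
  rw [← Category.assoc, h, Category.assoc]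

theorem mem_of_eq {X Y : Scheme.{u}} (f : X ⟶ Y) {z x : ↥X} (e : z = x) {A : Set ↥Y} (h : f x ∈ A) : f z ∈ A := e ▸ h

theorem hom_comm_i {G₁ G₂ : GroupoidScheme S} (a : GroupoidScheme.Hom G₁ G₂) :
    G₁.i ≫ a.fR = a.fR ≫ G₂.i := by
  have h₁ : 𝟙 G₁.R ≫ G₁.s = G₁.i ≫ G₁.t := by rw [Category.id_comp, G₁.i_t]
  have h₂ : a.fR ≫ G₂.s = (G₁.i ≫ a.fR) ≫ G₂.t := by rw [Category.assoc, a.comm_t, a.comm_s, reassoc_of% G₁.i_t]
  have hc : pullback.lift a.fR (G₁.i ≫ a.fR) h₂ ≫ G₂.c = a.fR ≫ G₂.t ≫ G₂.e := by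
    have hm := a.comm_c (𝟙 G₁.R) G₁.i h₁
    have he : pullback.lift (𝟙 G₁.R) G₁.i h₁ ≫ G₁.c = 𝟙 G₁.R ≫ G₁.t ≫ G₁.e :=
      (c_congr G₁ h₁ rfl (Category.id_comp _).symm).trans (G₁.comp_i (𝟙 _))
    rw [he, Category.id_comp, Category.assoc, hom_comm_e] at hm
    refine ((c_congr G₂ _ (Category.id_comp _) rfl).symm.trans hm.symm).trans ?_
    rw [← Category.assoc, ← a.comm_t, Category.assoc]
  have h := (isPullback_fst_c G₂).hom_ext (k := pullback.lift a.fR (G₁.i ≫ a.fR) h₂)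
    (l := pullback.lift a.fR (a.fR ≫ G₂.i) (by rw [Category.assoc, G₂.i_t]))
    (by rw [pullback.lift_fst, pullback.lift_fst]) (by rw [hc, G₂.comp_i])
  simpa using congrArg (· ≫ pullback.snd G₂.s G₂.t) h

/-- Pairs from two sets are dense among pairs from their closures, over a point. -/
theorem mem_closure_pairs {X Y U : Scheme.{u}} [Subsingleton ↥U] [IsIntegral U] (s : X ⟶ U) (t : Y ⟶ U)
    {A : Set ↥X} {B : Set ↥Y} (p : ↥(pullback s t)) (hA : pullback.fst s t p ∈ closure A)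
    (hB : pullback.snd s t p ∈ closure B) :
    p ∈ closure {z | pullback.fst s t z ∈ A ∧ pullback.snd s t z ∈ B} := by
  let I := Scheme.IdealSheafData.vanishingIdeal (X := Y) ⟨closure B, isClosed_closure⟩
  let ι := I.subschemeι
  have hι : Set.range ι = closure B := H23.RedSub.range_vanishingIdeal _
  have hdense : Dense (ι ⁻¹' B) := fun z => by
    rw [ι.isEmbedding.closure_eq_preimage_closure_image, Set.mem_preimage,
      Set.image_preimage_eq_of_subset (hι ▸ subset_closure)]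
    exact hι ▸ ⟨z, rfl⟩
  rw [mem_closure_iff]
  intro O hO hpO
  obtain ⟨z, hz⟩ := hι.symm ▸ hB
  let m : pullback s (ι ≫ t) ⟶ pullback s t := pullback.map _ _ _ _ (𝟙 X) ι (𝟙 U) (by simp) (by simp)
  have hm₁ : m ≫ pullback.fst s t = pullback.fst s (ι ≫ t) := by simp [m]
  have hm₂ : m ≫ pullback.snd s t = pullback.snd s (ι ≫ t) ≫ ι := by simp [m]
  have sq : IsPullback (pullback.snd s (ι ≫ t)) m ι (pullback.snd s t) := by
    refine IsPullback.of_bot ?_ hm₂.symm (IsPullback.of_hasPullback s t).flip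
    rw [hm₁]
    exact (IsPullback.of_hasPullback s (ι ≫ t)).flip
  obtain ⟨p', -, hp'⟩ := Scheme.exists_preimage_of_isPullback sq z p hz
  have hopen : IsOpenMap (pullback.fst s (ι ≫ t)) := (pullback.fst s (ι ≫ t)).isOpenMap
  obtain ⟨_, ⟨z', hz'O, rfl⟩, hz'A⟩ := mem_closure_iff.1 hA _ (hopen _ (hO.preimage m.continuous))
    ⟨p', show m p' ∈ O from hp'.symm ▸ hpO, by rw [← hp', ← Scheme.Hom.comp_apply, hm₁]⟩
  let x := pullback.fst s (ι ≫ t) z'
  let ξ := X.fromSpecResidueField x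
  let n : pullback (ξ ≫ s) (ι ≫ t) ⟶ pullback s (ι ≫ t) :=
    pullback.map _ _ _ _ ξ (𝟙 _) (𝟙 U) (by simp) (by simp)
  have hn₁ : n ≫ pullback.fst s (ι ≫ t) = pullback.fst (ξ ≫ s) (ι ≫ t) ≫ ξ := by simp [n]
  have hn₂ : n ≫ pullback.snd s (ι ≫ t) = pullback.snd (ξ ≫ s) (ι ≫ t) := by simp [n]
  have sq' : IsPullback (pullback.fst (ξ ≫ s) (ι ≫ t)) n ξ (pullback.fst s (ι ≫ t)) := by
    refine IsPullback.of_bot ?_ hn₁.symm (IsPullback.of_hasPullback s (ι ≫ t))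
    rw [hn₂]
    exact IsPullback.of_hasPullback _ _
  obtain ⟨q, -, hq⟩ := Scheme.exists_preimage_of_isPullback sq' (IsLocalRing.closedPoint (X.residueField x)) z'
    (Scheme.fromSpecResidueField_apply x _)
  have hopen' : IsOpenMap (pullback.snd (ξ ≫ s) (ι ≫ t)) := (pullback.snd (ξ ≫ s) (ι ≫ t)).isOpenMap
  obtain ⟨_, ⟨w, hwO, rfl⟩, hwB⟩ := hdense.inter_open_nonempty _
    (hopen' _ ((hO.preimage m.continuous).preimage n.continuous))
    ⟨_, q, show m (n q) ∈ O from hq.symm ▸ hz'O, rfl⟩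
  refine ⟨m (n w), hwO, ?_, ?_⟩
  · rw [← Scheme.Hom.comp_apply, ← Scheme.Hom.comp_apply, hm₁, hn₁, Scheme.Hom.comp_apply]
    exact (Scheme.fromSpecResidueField_apply x _).symm ▸ hz'A
  · rw [← Scheme.Hom.comp_apply, ← Scheme.Hom.comp_apply, hm₂, reassoc_of% hn₂, Scheme.Hom.comp_apply]
    exact hwB

variable {G₁ G₂ : GroupoidScheme S} (k : Type u) [Field k] (eU : G₂.U ≅ Spec (CommRingCat.of k))
  (a : GroupoidScheme.Hom G₁ G₂) [IsIso a.fU]

include k eU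

theorem comp_mem_closure (p : ↥(pullback G₂.s G₂.t)) (h₁ : pullback.fst G₂.s G₂.t p ∈ closure (Set.range ⇑a.fR))
    (h₂ : pullback.snd G₂.s G₂.t p ∈ closure (Set.range ⇑a.fR)) : G₂.c p ∈ closure (Set.range ⇑a.fR) := by
  have : Nonempty G₂.U := ⟨eU.inv (IsLocalRing.closedPoint k)⟩
  have : IsIntegral G₂.U := isIntegral_of_isOpenImmersion eU.hom
  have : Subsingleton G₂.U := eU.hom.homeomorph.subsingleton
  refine map_mem_closure G₂.c.continuous (mem_closure_pairs G₂.s G₂.t p h₁ h₂) ?_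
  rintro z ⟨hz₁, hz₂⟩
  let ζ := (pullback G₂.s G₂.t).fromSpecResidueField z
  have hζ : ∀ y, ζ y = z := fun y => Scheme.fromSpecResidueField_apply _ _
  obtain ⟨L₁, _, g₁, β₁, hβ₁⟩ := exists_field_lift a.fR _ (ζ ≫ pullback.snd G₂.s G₂.t)
    (by rw [Scheme.Hom.comp_apply]; exact mem_of_eq _ (hζ _) hz₂)
  obtain ⟨L, _, g₂, α₁, hα₁⟩ := exists_field_lift a.fR L₁ (g₁ ≫ ζ ≫ pullback.fst G₂.s G₂.t)
    (by rw [Scheme.Hom.comp_apply, Scheme.Hom.comp_apply]; exact mem_of_eq _ (hζ _) hz₁)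
  have h : α₁ ≫ G₁.s = (g₂ ≫ β₁) ≫ G₁.t := by
    rw [← cancel_mono a.fU]
    simp only [Category.assoc, ← a.comm_s, ← a.comm_t, reassoc_of% hα₁, reassoc_of% hβ₁, pullback.condition]
  have hc := a.comm_c α₁ (g₂ ≫ β₁) h
  have e : pullback.lift (α₁ ≫ a.fR) ((g₂ ≫ β₁) ≫ a.fR)
      (by rw [Category.assoc, a.comm_s, reassoc_of% h, Category.assoc (g₂ ≫ β₁) a.fR, a.comm_t]; simp only [Category.assoc]) =
      g₂ ≫ g₁ ≫ ζ := by
    apply pullback.hom_ext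
    · rw [pullback.lift_fst, hα₁]; simp only [Category.assoc]
    · rw [pullback.lift_snd, Category.assoc g₂, hβ₁]; simp only [Category.assoc]
  rw [e] at hc
  refine ⟨(pullback.lift α₁ (g₂ ≫ β₁) h ≫ G₁.c) (IsLocalRing.closedPoint L), ?_⟩
  rw [← Scheme.Hom.comp_apply, hc]
  simp only [Scheme.Hom.comp_apply]
  exact congrArg _ (hζ _)

omit k eU [IsIso a.fU] in
theorem inv_mem_closure {x : ↥G₂.R} (hx : x ∈ closure (Set.range ⇑a.fR)) :
    G₂.i x ∈ closure (Set.range ⇑a.fR) := by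
  refine map_mem_closure G₂.i.continuous hx ?_
  rintro _ ⟨y, rfl⟩
  exact ⟨G₁.i y, by rw [← Scheme.Hom.comp_apply, hom_comm_i]; rfl⟩

theorem isClosed_range_of_isLocallyClosed (hlc : IsLocallyClosed (Set.range ⇑a.fR)) :
    IsClosed (Set.range ⇑a.fR) := by
  have : Nonempty G₂.U := ⟨eU.inv (IsLocalRing.closedPoint k)⟩
  have : IsIntegral G₂.U := isIntegral_of_isOpenImmersion eU.hom
  have : Subsingleton G₂.U := eU.hom.homeomorph.subsingleton
  obtain ⟨O, C', hO, hC', hOC⟩ := hlc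
  have hsub : closure (Set.range ⇑a.fR) ⊆ C' :=
    closure_minimal (hOC ▸ Set.inter_subset_right) hC'
  have hmem : ∀ y, y ∈ O → y ∈ closure (Set.range ⇑a.fR) → y ∈ Set.range ⇑a.fR := fun y hy hy' => by
    rw [hOC]; exact ⟨hy, hsub hy'⟩
  refine isClosed_of_closure_subset fun r hr => ?_
  let ρ := G₂.R.fromSpecResidueField r
  have hρ : ∀ y, ρ y = r := fun y => Scheme.fromSpecResidueField_apply _ _
  let pr := pullback.snd (ρ ≫ G₂.s) G₂.t
  let Λ : pullback (ρ ≫ G₂.s) G₂.t ⟶ pullback G₂.s G₂.t :=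
    pullback.lift (pullback.fst (ρ ≫ G₂.s) G₂.t ≫ ρ) pr (by rw [Category.assoc, pullback.condition])
  let M := Λ ≫ G₂.c
  have : UniversallyOpen M := universallyOpen_translate G₂ k eU ρ
  have hback : ∀ q, M q ∈ closure (Set.range ⇑a.fR) → pr q ∈ closure (Set.range ⇑a.fR) := by
    intro q hq
    let N : pullback (ρ ≫ G₂.s) G₂.t ⟶ pullback G₂.s G₂.t :=
      pullback.lift ((pullback.fst (ρ ≫ G₂.s) G₂.t ≫ ρ) ≫ G₂.i) M (by
        show _ = (Λ ≫ G₂.c) ≫ G₂.t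
        rw [G₂.comp_t, Category.assoc _ G₂.i, G₂.i_s])
    have hN : N ≫ G₂.c = pr := inv_mul_cancel_pt G₂ _ _ _
    rw [← hN, Scheme.Hom.comp_apply]
    refine comp_mem_closure k eU a _ ?_ ?_
    · rw [← Scheme.Hom.comp_apply, pullback.lift_fst, Scheme.Hom.comp_apply, Scheme.Hom.comp_apply, hρ]
      exact inv_mem_closure a hr
    · rw [← Scheme.Hom.comp_apply, pullback.lift_snd]
      exact hq
  let z₀ : Spec (G₂.R.residueField r) ⟶ pullback (ρ ≫ G₂.s) G₂.t :=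
    pullback.lift (𝟙 _) (ρ ≫ G₂.s ≫ G₂.e)
      (by rw [Category.id_comp, Category.assoc, Category.assoc, G₂.e_t, Category.comp_id])
  let pt := IsLocalRing.closedPoint (G₂.R.residueField r)
  have hz₁ : M (z₀ pt) = r := by
    rw [← Scheme.Hom.comp_apply]
    have : z₀ ≫ M = ρ := by
      refine Eq.trans ?_ (G₂.comp_e ρ)
      rw [← Category.assoc]
      refine congrArg (· ≫ G₂.c) ?_
      apply pullback.hom_ext <;> simp [z₀, Λ, pr]
      exact Category.id_comp _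
    rw [this, hρ]
  have hz₂ : pr (z₀ pt) ∈ Set.range ⇑a.fR := by
    rw [← Scheme.Hom.comp_apply, pullback.lift_snd]
    refine ⟨G₁.e (inv a.fU ((ρ ≫ G₂.s) pt)), ?_⟩
    rw [← Scheme.Hom.comp_apply G₁.e, hom_comm_e, ← Scheme.Hom.comp_apply, IsIso.inv_hom_id_assoc]
    rfl
  have h0 : z₀ pt ∈ closure (M ⁻¹' Set.range ⇑a.fR) :=
    M.isOpenMap.preimage_closure_subset_closure_preimage (show M (z₀ pt) ∈ _ from hz₁.symm ▸ hr)
  obtain ⟨q, hqO, hqM⟩ := mem_closure_iff.1 h0 _ (hO.preimage pr.continuous)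
    (show pr (z₀ pt) ∈ O from (hOC ▸ hz₂ : _ ∈ O ∩ C').1)
  have hqp : pr q ∈ Set.range ⇑a.fR := hmem _ hqO (hback q (subset_closure hqM))
  let ζ := (pullback (ρ ≫ G₂.s) G₂.t).fromSpecResidueField q
  have hζ : ∀ y, ζ y = q := fun y => Scheme.fromSpecResidueField_apply _ _
  obtain ⟨L₁, _, g₁, ω₁, hω₁⟩ := exists_field_lift a.fR _ (ζ ≫ pr)
    (by rw [Scheme.Hom.comp_apply]; exact mem_of_eq _ (hζ _) hqp)
  obtain ⟨L, _, g₂, χ₁, hχ₁⟩ := exists_field_lift a.fR L₁ (g₁ ≫ ζ ≫ M)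
    (by rw [Scheme.Hom.comp_apply, Scheme.Hom.comp_apply]; exact mem_of_eq _ (hζ _) hqM)
  let g := g₂ ≫ g₁ ≫ ζ
  have hω : (g₂ ≫ ω₁) ≫ a.fR = g ≫ pr := by simp only [g, Category.assoc, hω₁]
  have hχ : χ₁ ≫ a.fR = g ≫ M := by rw [hχ₁]; simp only [g, Category.assoc]
  have hρω : (g ≫ pullback.fst (ρ ≫ G₂.s) G₂.t ≫ ρ) ≫ G₂.s = (g ≫ pr) ≫ G₂.t := by
    simp only [pr, Category.assoc, pullback.condition]
  have hgM : g ≫ M = pullback.lift _ _ hρω ≫ G₂.c := by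
    rw [← Category.assoc]
    refine congrArg (· ≫ G₂.c) ?_
    apply pullback.hom_ext <;> simp [Λ, pr]
  have hst : χ₁ ≫ G₁.s = ((g₂ ≫ ω₁) ≫ G₁.i) ≫ G₁.t := by
    rw [Category.assoc _ G₁.i, G₁.i_t, ← cancel_mono a.fU]
    have h := G₂.comp_s _ _ hρω
    rw [← hgM] at h
    simp only [Category.assoc, ← a.comm_s, reassoc_of% hχ, reassoc_of% hω₁] at h ⊢
    simpa only [g, pr, Category.assoc] using h
  have hc := a.comm_c χ₁ ((g₂ ≫ ω₁) ≫ G₁.i) hst
  refine ⟨(pullback.lift χ₁ ((g₂ ≫ ω₁) ≫ G₁.i) hst ≫ G₁.c) (IsLocalRing.closedPoint L), ?_⟩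
  rw [← Scheme.Hom.comp_apply, hc]
  have hfin := (c_congr G₂ (β' := (g ≫ pr) ≫ G₂.i)
      (by rw [Category.assoc χ₁, a.comm_s, reassoc_of% hst, Category.assoc ((g₂ ≫ ω₁) ≫ G₁.i) a.fR, a.comm_t]; simp only [Category.assoc])
      (hχ.trans hgM) (by rw [Category.assoc (g₂ ≫ ω₁), hom_comm_i, ← Category.assoc (g₂ ≫ ω₁), hω])).trans
    (mul_inv_cancel_pt G₂ _ _ hρω)
  rw [hfin]
  simp only [Scheme.Hom.comp_apply, hρ]

end Groth.Agent.GrpdLib
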