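import Groth.Agent.GrpdLib.StabTorsor
import Groth.Prelude.Def_Mor2

/-!
# Decomposition of a finite locally free groupoid by degree
-/

set_option backward.isDefEq.respectTransparency false
set_option backward.isDefEq.respectTransparency.types false

universe u

open CategoryTheory CategoryTheory.Limits AlgebraicGeometry Grpd

namespace Groth.Agent.GrpdLib

variable {S : Scheme.{u}} (G : GroupoidScheme S)

theorem i_i : G.i ≫ G.i = 𝟙 G.R := by
  have h : pullback.lift (f := G.s) (g := G.t) G.i (G.i ≫ G.i) (by rw [Category.assoc, G.i_t]) =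
      pullback.lift (f := G.s) (g := G.t) G.i (𝟙 G.R) (by rw [G.i_s, Category.id_comp]) := by
    refine (isPullback_fst_c G).hom_ext ?_ ?_
    · rw [pullback.lift_fst, pullback.lift_fst]
    · rw [G.comp_i, reassoc_of% G.i_t]
      have hh : (𝟙 G.R ≫ G.i) ≫ G.s = 𝟙 G.R ≫ G.t := by simp [G.i_s]
      exact ((Category.id_comp _).symm.trans (G.i_comp (𝟙 G.R)).symm).trans
        (c_congr G hh (Category.id_comp _) rfl)
  simpa using congrArg (· ≫ pullback.snd G.s G.t) h

theorem finrank_s_eq [IsFinite G.t] [Flat G.t] (u : G.U) : G.s.finrank u = G.t.finrank u := by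
  have : IsIso G.i := ⟨G.i, i_i G, i_i G⟩
  rw [← G.i_t, Scheme.Hom.finrank_comp_left_of_isIso]

theorem finrank_t_inv [IsFinite G.t] [Flat G.t] (r : G.R) :
    G.t.finrank (G.s r) = G.t.finrank (G.t r) := by
  rw [← Scheme.Hom.finrank_pullback_fst G.t G.s r,
    Scheme.Hom.finrank_of_isPullback _ _ _ _ (isPullback_fst_c G).flip r]

theorem exists_deg_decomposition [IsFinite G.s] [Flat G.s] [LocallyOfFinitePresentation G.s] [IsFinite G.t]
    [Flat G.t] [LocallyOfFinitePresentation G.t] :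
    ∃ V : ℕ → G.U.Opens, V 0 = ⊥ ∧ (∀ r r', r ≠ r' → Disjoint (V r) (V r')) ∧ (⨆ r, V r) = ⊤ ∧
      ∀ r, G.s ⁻¹ᵁ V r = G.t ⁻¹ᵁ V r ∧ Mor2.IsFinLocFreeOfDeg r (G.s ∣_ V r) ∧
        Mor2.IsFinLocFreeOfDeg r (G.t ∣_ V r) := by
  let V : ℕ → G.U.Opens := fun r =>
    ⟨G.t.finrank ⁻¹' {r}, (Scheme.Hom.isLocallyConstant_finrank (f := G.t)).isOpen_fiber r⟩
  refine ⟨V, ?_, fun r r' hr => ?_, ?_, fun r => ⟨?_, ?_, ?_⟩⟩
  · rw [eq_bot_iff]
    intro u (hu : G.t.finrank u = 0)
    have : 1 ≤ G.t.finrank (G.t (G.e u)) := Scheme.Hom.one_le_finrank_map G.t (G.e u)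
    rw [← Scheme.Hom.comp_apply, G.e_t] at this
    simp at this
    omega
  · rw [disjoint_iff_inf_le]
    intro u ⟨(h : G.t.finrank u = r), (h' : G.t.finrank u = r')⟩
    exact (hr (h.symm.trans h')).elim
  · rw [eq_top_iff]
    intro u _
    exact TopologicalSpace.Opens.mem_iSup.2 ⟨G.t.finrank u, rfl⟩
  · ext x
    show G.t.finrank (G.s x) = r ↔ G.t.finrank (G.t x) = r
    rw [finrank_t_inv]
  · refine ⟨⟨IsZariskiLocalAtTarget.restrict ‹_› _, IsZariskiLocalAtTarget.restrict ‹_› _,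
      IsZariskiLocalAtTarget.restrict ‹_› _⟩, fun y => ?_⟩
    rw [Scheme.Hom.finrank_of_isPullback _ _ _ _ (isPullback_morphismRestrict G.s (V r)).flip y, finrank_s_eq]
    exact y.2
  · refine ⟨⟨IsZariskiLocalAtTarget.restrict ‹_› _, IsZariskiLocalAtTarget.restrict ‹_› _,
      IsZariskiLocalAtTarget.restrict ‹_› _⟩, fun y => ?_⟩
    rw [Scheme.Hom.finrank_of_isPullback _ _ _ _ (isPullback_morphismRestrict G.t (V r)).flip y]
    exact y.2

end Groth.Agent.GrpdLib
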