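import Groth.Agent.GrpdLib.StabTorsor

/-!
# Arrows with a common target identify the source fibres at their sources
-/

set_option backward.isDefEq.respectTransparency false
set_option backward.isDefEq.respectTransparency.types false

universe u

open CategoryTheory CategoryTheory.Limits AlgebraicGeometry Grpd

namespace Groth.Agent.GrpdLib

variable {S : Scheme.{u}} (G : GroupoidScheme S) {T : Scheme.{u}}

theorem comp_inv_cancel (g y : T ⟶ G.R) (h : g ≫ G.s = y ≫ G.s) :
    pullback.lift (pullback.lift g (y ≫ G.i) (by rw [Category.assoc, G.i_t, h]) ≫ G.c) y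
      (by rw [G.comp_s, Category.assoc, G.i_s]) ≫ G.c = g := by
  rw [G.assoc g (y ≫ G.i) y (by rw [Category.assoc, G.i_t, h]) (by rw [Category.assoc, G.i_s])]
  refine (c_congr G _ rfl (G.i_comp y)).trans ((c_congr G _ rfl ?_).trans (G.comp_e g))
  rw [reassoc_of% h]

theorem comp_inv_cancel' (g y : T ⟶ G.R) (h : g ≫ G.s = y ≫ G.t) :
    pullback.lift (pullback.lift g y h ≫ G.c) (y ≫ G.i)
      (by rw [G.comp_s, Category.assoc, G.i_t]) ≫ G.c = g := by
  rw [G.assoc g y (y ≫ G.i) h (by rw [Category.assoc, G.i_t])]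
  refine (c_congr G _ rfl (G.comp_i y)).trans ((c_congr G _ rfl ?_).trans (G.comp_e g))
  rw [reassoc_of% h]

variable (ρ ρ' : T ⟶ G.R)

/-- `g ↦ g ∘ ρ⁻¹ ∘ ρ'`. -/
noncomputable def moveArrow (h : ρ ≫ G.t = ρ' ≫ G.t) :
    pullback G.s (ρ ≫ G.s) ⟶ pullback G.s (ρ' ≫ G.s) :=
  pullback.lift
    (pullback.lift
      (pullback.lift (pullback.fst G.s (ρ ≫ G.s)) (pullback.snd G.s (ρ ≫ G.s) ≫ ρ ≫ G.i)
        (by rw [Category.assoc, Category.assoc, G.i_t, pullback.condition]) ≫ G.c)
      (pullback.snd G.s (ρ ≫ G.s) ≫ ρ')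
      (by rw [G.comp_s, Category.assoc, Category.assoc, G.i_s, h, Category.assoc]) ≫ G.c)
    (pullback.snd G.s (ρ ≫ G.s))
    (by rw [G.comp_s, Category.assoc])

theorem moveArrow_moveArrow (h : ρ ≫ G.t = ρ' ≫ G.t) :
    moveArrow G ρ ρ' h ≫ moveArrow G ρ' ρ h.symm = 𝟙 _ := by
  apply pullback.hom_ext
  · rw [Category.assoc, Category.id_comp]
    conv_lhs => arg 2; rw [moveArrow, pullback.lift_fst]
    rw [← Category.assoc]
    set A := pullback.lift (pullback.fst G.s (ρ ≫ G.s)) (pullback.snd G.s (ρ ≫ G.s) ≫ ρ ≫ G.i)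
      (by rw [Category.assoc, Category.assoc, G.i_t, pullback.condition]) ≫ G.c with hA
    have hA' : A ≫ G.s = (pullback.snd G.s (ρ ≫ G.s) ≫ ρ') ≫ G.t := by
      simp only [hA]; rw [G.comp_s, Category.assoc, Category.assoc, G.i_s, h, Category.assoc]
    have e1 : moveArrow G ρ ρ' h ≫
        pullback.lift (pullback.fst G.s (ρ' ≫ G.s)) (pullback.snd G.s (ρ' ≫ G.s) ≫ ρ' ≫ G.i)
          (by rw [Category.assoc, Category.assoc, G.i_t, pullback.condition]) =
        pullback.lift (pullback.lift A (pullback.snd G.s (ρ ≫ G.s) ≫ ρ') hA' ≫ G.c)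
          ((pullback.snd G.s (ρ ≫ G.s) ≫ ρ') ≫ G.i)
          (by rw [G.comp_s, Category.assoc (pullback.snd G.s (ρ ≫ G.s) ≫ ρ') G.i, G.i_t]) := by
      apply pullback.hom_ext <;> simp [moveArrow, hA]
    have e2 : moveArrow G ρ ρ' h ≫ pullback.snd G.s (ρ' ≫ G.s) ≫ ρ = pullback.snd G.s (ρ ≫ G.s) ≫ ρ := by
      simp [moveArrow]
    refine Eq.trans ?_ (comp_inv_cancel G (pullback.fst G.s (ρ ≫ G.s)) (pullback.snd G.s (ρ ≫ G.s) ≫ ρ)
      (by rw [Category.assoc]; exact pullback.condition))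
    refine congrArg (· ≫ G.c) ?_
    apply pullback.hom_ext
    · rw [Category.assoc, pullback.lift_fst, pullback.lift_fst, ← Category.assoc, e1,
        comp_inv_cancel' G A _ hA']
      simp only [hA, Category.assoc]
    · rw [Category.assoc, pullback.lift_snd, pullback.lift_snd, e2]
  · simp [moveArrow]

/-- The isomorphism of source fibres given by two arrows with the same target. -/
@[simps]
noncomputable def moveArrowIso (h : ρ ≫ G.t = ρ' ≫ G.t) :
    pullback G.s (ρ ≫ G.s) ≅ pullback G.s (ρ' ≫ G.s) where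
  hom := moveArrow G ρ ρ' h
  inv := moveArrow G ρ' ρ h.symm
  hom_inv_id := moveArrow_moveArrow G ρ ρ' h
  inv_hom_id := moveArrow_moveArrow G ρ' ρ h.symm

theorem exists_fibre_iso (r r' : G.R) (h : G.t r = G.t r') :
    ∃ (k : Type u) (_ : Field k) (a b : Spec (CommRingCat.of k) ⟶ G.U) (φ : pullback G.s a ≅ pullback G.s b)
      (p : ↑(pullback G.s a)), a (IsLocalRing.closedPoint k) = G.s r ∧ b (IsLocalRing.closedPoint k) = G.s r' ∧
      φ.hom ≫ pullback.snd G.s b = pullback.snd G.s a ∧ pullback.fst G.s a p = r ∧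
      pullback.fst G.s b (φ.hom p) = r' := by
  obtain ⟨z, hz₁, hz₂⟩ := Scheme.Pullback.exists_preimage_pullback (f := G.t) (g := G.t) r r' h
  let ρ := (pullback G.t G.t).fromSpecResidueField z ≫ pullback.fst G.t G.t
  let ρ' := (pullback G.t G.t).fromSpecResidueField z ≫ pullback.snd G.t G.t
  have hρ : ρ ≫ G.t = ρ' ≫ G.t := by simp [ρ, ρ', pullback.condition]
  let x := pullback.lift ρ (𝟙 _) (show ρ ≫ G.s = 𝟙 _ ≫ (ρ ≫ G.s) by rw [Category.id_comp])
  have hr : ∀ y, ρ y = r := fun y => by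
    rw [← hz₁]; exact congrArg (pullback.fst G.t G.t) (Scheme.fromSpecResidueField_apply z y)
  have hr' : ∀ y, ρ' y = r' := fun y => by
    rw [← hz₂]; exact congrArg (pullback.snd G.t G.t) (Scheme.fromSpecResidueField_apply z y)
  refine ⟨_, inferInstance, ρ ≫ G.s, ρ' ≫ G.s, moveArrowIso G ρ ρ' hρ, x (IsLocalRing.closedPoint _),
    congrArg G.s (hr _), congrArg G.s (hr' _), pullback.lift_snd .., ?_, ?_⟩
  · rw [← Scheme.Hom.comp_apply, pullback.lift_fst]
    exact hr _
  · rw [← Scheme.Hom.comp_apply, ← Scheme.Hom.comp_apply]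
    have e : x ≫ (moveArrowIso G ρ ρ' hρ).hom ≫ pullback.fst G.s (ρ' ≫ G.s) = ρ' := by
      rw [moveArrowIso_hom, moveArrow, pullback.lift_fst]
      refine ((Category.assoc _ _ _).symm.trans (congrArg (· ≫ G.c) ?_)).trans (G.e_comp ρ')
      apply pullback.hom_ext
      · rw [Category.assoc, pullback.lift_fst, pullback.lift_fst, ← reassoc_of% hρ, ← G.comp_i ρ]
        refine (Category.assoc _ _ _).symm.trans (congrArg (· ≫ G.c) ?_)
        apply pullback.hom_ext <;> simp [x] <;> exact Category.id_comp _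
      · simp [x]; exact Category.id_comp _
    rw [show x ≫ (moveArrowIso G ρ ρ' hρ).hom ≫ pullback.fst G.s (ρ' ≫ G.s) = ρ' from e]
    exact hr' _

end Groth.Agent.GrpdLib
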