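import Groth.Agent.GrpdLib.FieldUniComp

/-!
# The component of the identity in a groupoid over a field
-/

set_option backward.isDefEq.respectTransparency false
set_option backward.isDefEq.respectTransparency.types false

universe u

open CategoryTheory CategoryTheory.Limits AlgebraicGeometry Grpd
open Groth.Agent.GrpSchLib (IsMaxPt UniComp exists_isMaxPt)

namespace Groth.Agent.GrpdLib

variable {S : Scheme.{u}} (G : GroupoidScheme S) {k : Type u} [Field k]

theorem minimalPrimes_stalk_subsingleton {X : Scheme.{u}} (h : UniComp ↥X) (r : X) :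
    (minimalPrimes (X.presheaf.stalk r)).Subsingleton := by
  intro p hp q hq
  let f := X.fromSpecStalk r
  have hp' : p.IsPrime := hp.1.1
  have hq' : q.IsPrime := hq.1.1
  let P : Spec (X.presheaf.stalk r) := ⟨p, hp'⟩
  let Q : Spec (X.presheaf.stalk r) := ⟨q, hq'⟩
  have hmem : ∀ P, f P ⤳ r := fun P => Scheme.range_fromSpecStalk.subset ⟨P, rfl⟩
  obtain ⟨c, hca, hcb⟩ := h r (f P) (f Q) (hmem P) (hmem Q)
  obtain ⟨C, rfl⟩ : c ∈ Set.range f := Scheme.range_fromSpecStalk.symm.subset (hca.trans (hmem P))
  have e := f.isEmbedding.isInducing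
  have h1 : C.asIdeal ≤ p := (PrimeSpectrum.le_iff_specializes C P).2 (e.specializes_iff.1 hca)
  have h2 : C.asIdeal ≤ q := (PrimeSpectrum.le_iff_specializes C Q).2 (e.specializes_iff.1 hcb)
  exact (le_antisymm h1 (hp.2 ⟨C.isPrime, bot_le⟩ h1)).symm.trans
    (le_antisymm h2 (hq.2 ⟨C.isPrime, bot_le⟩ h2))

/-- In a space where every point lies on a single component, components are closures of maximal points. -/
theorem eq_closure_of_mem_irreducibleComponents {X : Type*} [TopologicalSpace X] [T0Space X] [QuasiSober X]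
    (h : UniComp X) {g a : X} (hg : IsMaxPt g) (hga : g ⤳ a) {Z : Set X} (hZ : Z ∈ irreducibleComponents X)
    (ha : a ∈ Z) : Z = closure {g} := by
  have hgen := hZ.1.isGenericPoint_genericPoint (isClosed_of_mem_irreducibleComponents Z hZ)
  have h' := hg.specializes h hga (hgen.specializes ha)
  refine subset_antisymm (fun z hz => (h'.trans (hgen.specializes hz)).mem_closure)
    (hZ.2 isIrreducible_singleton.closure fun z hz => (h'.trans (hgen.specializes hz)).mem_closure)

theorem closure_mem_irreducibleComponents {X : Type*} [TopologicalSpace X] [T0Space X] [QuasiSober X]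
    {g : X} (hg : IsMaxPt g) : closure {g} ∈ irreducibleComponents X := by
  refine ⟨isIrreducible_singleton.closure, fun Z hZ hgZ => ?_⟩
  have hgen := hZ.closure.isGenericPoint_genericPoint isClosed_closure
  have h' : hZ.closure.genericPoint = g := hg _ (hgen.specializes (subset_closure (hgZ (subset_closure rfl))))
  intro z hz
  rw [← h']
  exact (hgen.specializes (subset_closure hz)).mem_closure

theorem existsUnique_component {X : Type*} [TopologicalSpace X] [T0Space X] [QuasiSober X]
    (h : UniComp X) (a : X) : ∃! Z : Set X, Z ∈ irreducibleComponents X ∧ a ∈ Z := by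
  obtain ⟨g, hg, hga⟩ := exists_isMaxPt a
  exact ⟨closure {g}, ⟨closure_mem_irreducibleComponents hg, hga.mem_closure⟩,
    fun Z hZ => eq_closure_of_mem_irreducibleComponents h hg hga hZ.1 hZ.2⟩

theorem e_i : G.e ≫ G.i = G.e := by
  have h1 := G.i_comp G.e
  rw [reassoc_of% G.e_s] at h1
  have h2 := G.comp_e (G.e ≫ G.i)
  refine h2.symm.trans (Eq.trans ?_ h1)
  refine c_congr G _ rfl ?_
  rw [Category.assoc, reassoc_of% G.i_s, reassoc_of% G.e_t]

theorem subsingleton_preimage_e (eU : G.U ≅ Spec (CommRingCat.of k)) :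
    ((pullback.fst G.s (barPt G k eU)) ⁻¹' Set.range G.e).Subsingleton := by
  have sq : IsPullback (ePt G (barPt G k eU)) (barPt G k eU) (pullback.fst G.s (barPt G k eU)) G.e := by
    refine IsPullback.of_right (h₁₂ := pullback.snd G.s (barPt G k eU)) (v₁₃ := barPt G k eU) (h₂₂ := G.s) ?_ ?_
      (IsPullback.of_hasPullback G.s (barPt G k eU)).flip
    · rw [ePt, pullback.lift_snd, G.e_s]
      exact IsPullback.of_horiz_isIso ⟨by simp⟩
    · rw [ePt, pullback.lift_fst]
  rintro a ⟨u, hu⟩ b ⟨v, hv⟩
  obtain ⟨a', rfl, -⟩ := Scheme.exists_preimage_of_isPullback sq a u hu.symm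
  obtain ⟨b', rfl, -⟩ := Scheme.exists_preimage_of_isPullback sq b v hv.symm
  exact congrArg _ (Subsingleton.elim (α := PrimeSpectrum (AlgebraicClosure k)) _ _)

theorem geometricallyIrreducible_s (eU : G.U ≅ Spec (CommRingCat.of k)) (Z : Scheme.{u}) (ι : Z ⟶ G.R)
    [IsClosedImmersion ι] (hZ : Set.range ι ∈ irreducibleComponents ↥G.R)
    (he : G.e (eU.inv (IsLocalRing.closedPoint k)) ∈ Set.range ι) :
    GeometricallyIrreducible (ι ≫ G.s ≫ eU.hom) := by
  refine GrpSchLib.geometricallyIrreducible_of_algClosure _ ?_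
  obtain ⟨g, hg, hge⟩ := exists_isMaxPt (G.e (eU.inv (IsLocalRing.closedPoint k)))
  have hr := eq_closure_of_mem_irreducibleComponents (uniComp G k eU) hg hge hZ he
  let a := Spec.map (CommRingCat.ofHom (algebraMap k (AlgebraicClosure k)))
  let b := barPt G k eU
  let p := pullback.fst G.s b
  have hb : b ≫ eU.hom = a := by simp [a, b, barPt]
  let m : pullback (ι ≫ G.s) b ⟶ pullback G.s b :=
    pullback.map _ _ _ _ ι (𝟙 _) (𝟙 _) (by simp) (by simp)
  have hm : Set.range m = p ⁻¹' closure {g} := by
    simp only [m, p]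
    rw [Scheme.Pullback.range_map, hr]
    simp
  have : IsIntegralHom b := by
    have : IsIntegralHom a := (IsIntegralHom.SpecMap_iff).mpr (algebraMap_isIntegral_iff.mpr inferInstance)
    exact MorphismProperty.comp_mem (W := @IsIntegralHom) _ _ this inferInstance
  have hcl : IsClosedMap p := p.isClosedMap
  have hgm : GeneralizingMap p := by
    have : Flat b := by
      have : Flat a := GrpSchLib.flat_spec_map_field _
      exact MorphismProperty.comp_mem (W := @Flat) _ _ this inferInstance
    exact Flat.generalizingMap p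
  let pt := ePt G b (IsLocalRing.closedPoint (AlgebraicClosure k))
  have hmax : ∀ c, IsMaxPt c → p c = g → c ⤳ pt := by
    intro c hc hcg
    obtain ⟨c', hcc', hc'⟩ := hcl.specializingMap (hcg.symm ▸ hge : p c ⤳ _)
    have hpt : p pt ∈ Set.range G.e := by
      refine ⟨b (IsLocalRing.closedPoint (AlgebraicClosure k)), ?_⟩
      simp only [pt, p]
      rw [← Scheme.Hom.comp_apply, ← Scheme.Hom.comp_apply, ePt, pullback.lift_fst]
    rwa [subsingleton_preimage_e G eU (show p c' ∈ Set.range G.e from ⟨_, hc'.symm⟩) hpt] at hcc'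
  have hirr : IrreducibleSpace ↥(pullback (ι ≫ G.s) b) := by
    obtain ⟨c₀, hc₀⟩ : g ∈ Set.range p := by
      have : Surjective b := ⟨fun y => ⟨IsLocalRing.closedPoint (AlgebraicClosure k),
        eU.hom.homeomorph.subsingleton.elim _ _⟩⟩
      exact p.surjective g
    obtain ⟨c, hc, hcc₀⟩ := exists_isMaxPt c₀
    have hcg : p c = g := hg _ (hc₀ ▸ hcc₀.map p.continuous)
    have hset : Set.range m = closure {c} := by
      rw [hm]
      refine subset_antisymm (fun x hx => ?_)
        (closure_minimal (Set.singleton_subset_iff.2 (Set.mem_preimage.2 (hcg.symm ▸ subset_closure rfl)))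
          (isClosed_closure.preimage p.continuous))
      obtain ⟨d, hd, hdx⟩ := exists_isMaxPt x
      have hdg : p d = g := ((hd.map hgm).eq (uniComp G k eU) hg (hdx.map p.continuous)
        (specializes_iff_mem_closure.2 hx))
      rw [← hd.eq (uniComp_bar G k eU) hc (hmax d hd hdg) (hmax c hc hcg)]
      exact hdx.mem_closure
    have sqm : IsPullback m (pullback.fst (ι ≫ G.s) b) p ι :=
      IsPullback.of_right (h₁₂ := pullback.snd G.s b) (v₁₃ := b) (h₂₂ := G.s)
        (by simpa [m] using (IsPullback.of_hasPullback (ι ≫ G.s) b).flip) (by simp [m, p])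
        (IsPullback.of_hasPullback G.s b).flip
    have : IsClosedImmersion m := MorphismProperty.of_isPullback (P := @IsClosedImmersion) sqm.flip inferInstance
    obtain ⟨t₀, ht₀⟩ : c ∈ Set.range m := hset ▸ subset_closure rfl
    have huniv : closure ({t₀} : Set ↥(pullback (ι ≫ G.s) b)) = Set.univ :=
      Set.eq_univ_of_forall fun t => ((Scheme.Hom.isEmbedding m).isInducing.specializes_iff.mp
        (ht₀ ▸ specializes_iff_mem_closure.2 (hset ▸ ⟨t, rfl⟩))).mem_closure
    rw [irreducibleSpace_def, Set.top_eq_univ, ← huniv]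
    exact isIrreducible_singleton.closure
  have e : pullback (ι ≫ G.s ≫ eU.hom) a ≅ pullback (ι ≫ G.s) b :=
    pullback.congrHom (Category.assoc _ _ _).symm hb.symm ≪≫
      (asIso (pullback.map (ι ≫ G.s) b ((ι ≫ G.s) ≫ eU.hom) (b ≫ eU.hom) (𝟙 _) (𝟙 _) eU.hom
        (by simp) (by simp))).symm
  exact e.hom.homeomorph.irreducibleSpace_iff.mpr hirr

theorem geometricallyIrreducible_st (eU : G.U ≅ Spec (CommRingCat.of k)) (Z : Scheme.{u}) (ι : Z ⟶ G.R)
    [IsClosedImmersion ι] (hZ : Set.range ι ∈ irreducibleComponents ↥G.R)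
    (he : G.e (eU.inv (IsLocalRing.closedPoint k)) ∈ Set.range ι) :
    GeometricallyIrreducible (ι ≫ G.s ≫ eU.hom) ∧ GeometricallyIrreducible (ι ≫ G.t ≫ eU.hom) := by
  refine ⟨geometricallyIrreducible_s G eU Z ι hZ he, ?_⟩
  have : IsIso G.i := ⟨G.i, i_i G, i_i G⟩
  have hr : Set.range (ι ≫ G.i) = G.i '' Set.range ι := by
    rw [← Set.range_comp]; rfl
  have := geometricallyIrreducible_s G eU Z (ι ≫ G.i) ?_ ?_
  · rwa [Category.assoc, reassoc_of% G.i_s] at this
  · rw [hr]
    exact image_mem_irreducibleComponents_of_isPreirreducible_fiber _ G.i.continuous G.i.homeomorph.isOpenMap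
      (fun _ => (Set.subsingleton_singleton.preimage G.i.homeomorph.injective).isPreirreducible)
      G.i.homeomorph.surjective hZ
  · refine hr ▸ ⟨_, he, ?_⟩
    rw [← Scheme.Hom.comp_apply, e_i]

end Groth.Agent.GrpdLib
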