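import Groth.Agent.GrpdLib.FieldComp
import Groth.Agent.FibDim.BaseField
import Groth.Agent.VarDim.Local

/-!
# Equidimensionality of groupoids over a field
-/

set_option backward.isDefEq.respectTransparency false
set_option backward.isDefEq.respectTransparency.types false

universe u

open CategoryTheory CategoryTheory.Limits AlgebraicGeometry Grpd
open Groth.Agent.GrpSchLib (IsMaxPt UniComp exists_isMaxPt)

namespace Groth.Agent.GrpdLib

theorem rd_preimmersion_comp {X Y Z : Scheme.{u}} (e : X ⟶ Y) [IsPreimmersion e] [LocallyOfFiniteType e]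
    (g : Y ⟶ Z) [LocallyOfFiniteType g] (x : X) : FibDim.rd (e ≫ g) x = FibDim.rd g (e x) := by
  have h : (FibDim.rd e x : Cardinal) = 0 := by rw [FibDim.rd_eq_rdeg, VarDim.rdeg_preimmersion]
  rw [FibDim.rd_comp, show FibDim.rd e x = 0 by exact_mod_cast h, add_zero]

theorem rd_congr {X Y : Scheme.{u}} {f g : X ⟶ Y} (h : f = g) (x : X) : FibDim.rd f x = FibDim.rd g x := by
  subst h; rfl

theorem rd_pullback_of_isMaxPt {X X' Y Y' : Scheme.{u}} {p : X' ⟶ X} {q : X' ⟶ Y'} {f : X ⟶ Y} {g : Y' ⟶ Y}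
    [LocallyOfFiniteType f] (h : IsPullback p q f g) {x' : X'} (hx : IsMaxPt x') :
    FibDim.rd q x' = FibDim.rd f (p x') :=
  have : LocallyOfFiniteType q := MorphismProperty.of_isPullback h ‹_›
  FibDim.rd_baseChange_eq_of_minimal h x' fun w hw _ _ => hx w hw

theorem IsMaxPt.of_iso {X Y : Scheme.{u}} (e : X ⟶ Y) [IsIso e] {x : X} (h : IsMaxPt x) : IsMaxPt (e x) :=
  h.map e.isOpenEmbedding.generalizingMap

variable {S : Scheme.{u}} (G : GroupoidScheme S) (k : Type u) [Field k] (eU : G.U ≅ Spec (CommRingCat.of k))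

/-- The projection of a fibre to the geometric fibre. -/
noncomputable def fibProj {K : Type u} [Field K] {φ : AlgebraicClosure k →+* K} {x : Spec (CommRingCat.of K) ⟶ G.U}
    (h : x = Spec.map (CommRingCat.ofHom φ) ≫ barPt G k eU) :
    pullback G.s x ⟶ pullback G.s (barPt G k eU) :=
  pullback.lift (pullback.fst _ _) (pullback.snd _ _ ≫ Spec.map (CommRingCat.ofHom φ))
    (by rw [Category.assoc, ← h]; exact pullback.condition)

theorem isPullback_fibProj {K : Type u} [Field K] {φ : AlgebraicClosure k →+* K}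
    {x : Spec (CommRingCat.of K) ⟶ G.U} (h : x = Spec.map (CommRingCat.ofHom φ) ≫ barPt G k eU) :
    IsPullback (fibProj G k eU h) (pullback.snd G.s x) (pullback.snd G.s (barPt G k eU))
      (Spec.map (CommRingCat.ofHom φ)) := by
  subst h
  exact IsPullback.of_right (h₁₂ := pullback.fst G.s (barPt G k eU)) (v₁₃ := G.s) (h₂₂ := barPt G k eU)
    (by simpa [fibProj] using IsPullback.of_hasPullback G.s (Spec.map (CommRingCat.ofHom φ) ≫ barPt G k eU))
    (pullback.lift_snd _ _ _) (IsPullback.of_hasPullback _ _)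

theorem fibProj_lift {K : Type u} [Field K] {φ : AlgebraicClosure k →+* K}
    {x : Spec (CommRingCat.of K) ⟶ G.U} (h : x = Spec.map (CommRingCat.ofHom φ) ≫ barPt G k eU)
    {T : Scheme.{u}} (a : T ⟶ G.R) (b : T ⟶ Spec (CommRingCat.of K)) (hab : a ≫ G.s = b ≫ x) :
    pullback.lift a b hab ≫ fibProj G k eU h = pullback.lift a (b ≫ Spec.map (CommRingCat.ofHom φ))
      (by rw [hab, h, Category.assoc]) := by
  apply pullback.hom_ext <;> simp [fibProj]

theorem rd_isMaxPt_bar_aux [LocallyOfFiniteType G.s] {c c₀ : ↥(pullback G.s (barPt G k eU))} (hc : IsMaxPt c)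
    (hc₀ : IsMaxPt c₀) (h₀ : c₀ ⤳ ePt G (barPt G k eU) (IsLocalRing.closedPoint (AlgebraicClosure k)))
    {K : Type u} [Field K] [IsAlgClosed K] (q : Spec (CommRingCat.of K) ⟶ pullback G.s (barPt G k eU))
    (hq : q (IsLocalRing.closedPoint K) = c) :
    FibDim.rd (pullback.snd G.s (barPt G k eU)) c = FibDim.rd (pullback.snd G.s (barPt G k eU)) c₀ := by
  let pt := IsLocalRing.closedPoint K
  let r : Spec (CommRingCat.of K) ⟶ G.R := q ≫ pullback.fst G.s (barPt G k eU)
  obtain ⟨φ, hφ⟩ := Spec.map_surjective (q ≫ pullback.snd G.s (barPt G k eU))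
  have hs : r ≫ G.s = Spec.map (CommRingCat.ofHom φ.hom) ≫ barPt G k eU := by
    simp only [r, Category.assoc, pullback.condition]
    rw [← Category.assoc, ← hφ]
    rfl
  obtain ⟨ψ, hψ⟩ := exists_factor_barPt G k eU (r ≫ G.t)
  have := isIso_rightTr G r
  let ys := pullback.lift r (𝟙 _) (Category.id_comp (r ≫ G.s)).symm pt
  have hys : fibProj G k eU hs ys = c := by
    refine Eq.trans ?_ hq
    simp only [ys, pt]
    rw [← Scheme.Hom.comp_apply, fibProj_lift]
    refine congrArg (fun m : Spec (CommRingCat.of K) ⟶ pullback G.s (barPt G k eU) => m (IsLocalRing.closedPoint K)) ?_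
    apply pullback.hom_ext
    · simp [r]
    · rw [pullback.lift_snd, Category.id_comp]
      exact hφ
  obtain ⟨y, hy, hyys⟩ := exists_isMaxPt ys
  have hyc : fibProj G k eU hs y = c := hc _ (hys ▸ hyys.map (fibProj G k eU hs).continuous)
  let y' := inv (rightTr G r) y
  have hy' : IsMaxPt y' := IsMaxPt.of_iso _ hy
  have he : fibProj G k eU hψ (inv (rightTr G r) ys) =
      ePt G (barPt G k eU) (IsLocalRing.closedPoint (AlgebraicClosure k)) := by
    have h : pullback.lift r (𝟙 _) (Category.id_comp (r ≫ G.s)).symm ≫ inv (rightTr G r) = ePt G (r ≫ G.t) := by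
      exact (IsIso.comp_inv_eq (rightTr G r)).mpr (ePt_rightTr G r).symm
    have h2 : ePt G (r ≫ G.t) ≫ fibProj G k eU hψ = Spec.map (CommRingCat.ofHom ψ) ≫ ePt G (barPt G k eU) := by
      apply pullback.hom_ext
      · simp [fibProj, ePt, hψ]
      · simp [fibProj, ePt]
        exact Category.id_comp _
    rw [← Scheme.Hom.comp_apply, ← Scheme.Hom.comp_apply, ← Category.assoc, h, h2, Scheme.Hom.comp_apply]
    exact congrArg _ (Subsingleton.elim (α := PrimeSpectrum (AlgebraicClosure k)) _ _)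
  have hgen : GeneralizingMap (fibProj G k eU hψ) := by
    have := GrpSchLib.flat_spec_map_field ψ
    have : Flat (fibProj G k eU hψ) := MorphismProperty.of_isPullback (isPullback_fibProj G k eU hψ).flip ‹_›
    exact Flat.generalizingMap _
  have hy0 : fibProj G k eU hψ y' = c₀ := by
    refine (hy'.map hgen).eq (uniComp_bar G k eU) hc₀ ?_ h₀
    rw [← he]
    exact (hyys.map (inv (rightTr G r)).continuous).map (fibProj G k eU hψ).continuous
  have e1 := rd_pullback_of_isMaxPt (isPullback_fibProj G k eU hs) hy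
  have e2 := rd_pullback_of_isMaxPt (isPullback_fibProj G k eU hψ) hy'
  rw [hyc] at e1
  rw [hy0] at e2
  rw [← e1, ← e2, ← rd_congr (rightTr_snd G r), rd_preimmersion_comp]
  refine congrArg _ ?_
  rw [← Scheme.Hom.comp_apply, IsIso.inv_hom_id]
  rfl

theorem rd_isMaxPt_bar [LocallyOfFiniteType G.s] {c c₀ : ↥(pullback G.s (barPt G k eU))} (hc : IsMaxPt c)
    (hc₀ : IsMaxPt c₀) (h₀ : c₀ ⤳ ePt G (barPt G k eU) (IsLocalRing.closedPoint (AlgebraicClosure k))) :
    FibDim.rd (pullback.snd G.s (barPt G k eU)) c = FibDim.rd (pullback.snd G.s (barPt G k eU)) c₀ :=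
  rd_isMaxPt_bar_aux G k eU hc hc₀ h₀
    (K := AlgebraicClosure ((pullback G.s (barPt G k eU)).residueField c))
    (Spec.map (CommRingCat.ofHom (algebraMap ((pullback G.s (barPt G k eU)).residueField c) (AlgebraicClosure ((pullback G.s (barPt G k eU)).residueField c)))) ≫
      (pullback G.s (barPt G k eU)).fromSpecResidueField c)
    (by rw [Scheme.Hom.comp_apply]
        exact (pullback G.s (barPt G k eU)).fromSpecResidueField_apply
          _ _)

/-- All maximal points of a groupoid over a field have the same dimension. -/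
theorem rd_isMaxPt_eq [LocallyOfFiniteType G.s] (eU : G.U ≅ Spec (CommRingCat.of k)) {g g' : G.R}
    (hg : IsMaxPt g) (hg' : IsMaxPt g') : FibDim.rd G.s g = FibDim.rd G.s g' := by
  obtain ⟨c₀, hc₀, h₀⟩ := exists_isMaxPt (ePt G (barPt G k eU) (IsLocalRing.closedPoint (AlgebraicClosure k)))
  suffices h : ∀ g : G.R, IsMaxPt g →
      FibDim.rd G.s g = FibDim.rd (pullback.snd G.s (barPt G k eU)) c₀ by rw [h g hg, h g' hg']
  intro g hg
  have : Surjective (barPt G k eU) := ⟨fun y => ⟨IsLocalRing.closedPoint (AlgebraicClosure k),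
    eU.hom.homeomorph.subsingleton.elim _ _⟩⟩
  obtain ⟨c', hc'⟩ := (pullback.fst G.s (barPt G k eU)).surjective g
  obtain ⟨c, hc, hcc'⟩ := exists_isMaxPt c'
  have hcg : pullback.fst G.s (barPt G k eU) c = g :=
    hg _ (hc' ▸ hcc'.map (pullback.fst G.s (barPt G k eU)).continuous)
  rw [← rd_isMaxPt_bar G k eU hc hc₀ h₀, rd_pullback_of_isMaxPt (IsPullback.of_hasPullback _ _) hc, hcg]

theorem subsingleton_U (eU : G.U ≅ Spec (CommRingCat.of k)) : Subsingleton G.U :=
  eU.hom.homeomorph.subsingleton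

theorem rd_le_rd_isMaxPt [LocallyOfFiniteType G.s] (eU : G.U ≅ Spec (CommRingCat.of k)) {g : G.R}
    (hg : IsMaxPt g) (x : G.R) : FibDim.rd G.s x ≤ FibDim.rd G.s g := by
  have := subsingleton_U G k eU
  obtain ⟨c, hc, hcx⟩ := exists_isMaxPt x
  exact (FibDim.rd_le_of_specializes G.s hcx (Subsingleton.elim _ _)).trans (rd_isMaxPt_eq G k eU hc hg).le

theorem topologicalKrullDim_R [LocallyOfFiniteType G.s] (eU : G.U ≅ Spec (CommRingCat.of k)) {g : G.R}
    (hg : IsMaxPt g) : topologicalKrullDim ↥G.R = ((FibDim.rd G.s g : ℕ∞) : WithBot ℕ∞) := by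
  have := subsingleton_U G k eU
  rw [FibDim.topologicalKrullDim_eq_iSup_rd G.s]
  exact le_antisymm (iSup_le fun x => by exact_mod_cast rd_le_rd_isMaxPt G k eU hg x) (le_iSup_of_le g le_rfl)

theorem topologicalKrullDim_component [LocallyOfFiniteType G.s] (eU : G.U ≅ Spec (CommRingCat.of k))
    {Z : Set G.R} (hZ : Z ∈ irreducibleComponents ↥G.R) :
    topologicalKrullDim ↥Z = topologicalKrullDim ↥G.R := by
  have := subsingleton_U G k eU
  have hgen := hZ.1.isGenericPoint_genericPoint (isClosed_of_mem_irreducibleComponents Z hZ)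
  obtain ⟨g, hg, hga⟩ := exists_isMaxPt hZ.1.genericPoint
  have h := eq_closure_of_mem_irreducibleComponents (uniComp G k eU) hg hga hZ hgen.mem
  rw [topologicalKrullDim_R G k eU hg, h, FibDim.topologicalKrullDim_closure G.s]

theorem localDim_R [LocallyOfFiniteType G.s] (eU : G.U ≅ Spec (CommRingCat.of k)) (r : G.R) :
    FlatMor.localDim ↥G.R r = topologicalKrullDim ↥G.R := by
  have := subsingleton_U G k eU
  refine le_antisymm ((iInf_le _ ⟨⊤, trivial⟩).trans
    (Topology.IsInducing.subtypeVal.topologicalKrullDim_le)) (le_iInf fun U => ?_)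
  obtain ⟨g, hg, hgr⟩ := exists_isMaxPt r
  let V : G.R.Opens := U.1
  rw [topologicalKrullDim_R G k eU hg]
  refine le_of_le_of_eq (le_iSup_of_le (⟨g, hgr.mem_open U.1.2 U.2⟩ : (V : Scheme.{u})) ?_)
    (FibDim.topologicalKrullDim_eq_iSup_rd (V.ι ≫ G.s)).symm
  rw [FibDim.rd_opens]
  rfl

theorem ringKrullDim_stalk_R [LocallyOfFiniteType G.s] (eU : G.U ≅ Spec (CommRingCat.of k)) (r : G.R)
    (hr : IsClosed ({r} : Set G.R)) :
    ringKrullDim (G.R.presheaf.stalk r) = topologicalKrullDim ↥G.R := by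
  let f := G.s ≫ eU.hom
  obtain ⟨g, hg, hgr⟩ := exists_isMaxPt r
  obtain ⟨b, hb, ⟨η', hη', hdeg⟩, hle⟩ := VarDim.exists_deg_add_stalk f r
  have h0 := (VarDim.closedPoint_iff_deg_eq_zero f r).mp hr
  have h1 : VarDim.deg f η' ≤ VarDim.deg f g :=
    VarDim.deg_le_of_specializes f (hg.specializes (uniComp G k eU) hgr hη')
  have h2 := hle g hgr
  have h3 := VarDim.topologicalKrullDim_closure_singleton f g
  rw [topologicalKrullDim_component G k eU (closure_mem_irreducibleComponents hg)] at h3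
  rw [hb, h3, show VarDim.deg f g = b by omega]
  rfl

end Groth.Agent.GrpdLib
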