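import Groth.Agent.GrpdLib.StabTorsor
import Mathlib.FieldTheory.IsAlgClosed.Classification
import Mathlib.FieldTheory.IsAlgClosed.AlgebraicClosure
import Mathlib.AlgebraicGeometry.ResidueField
import Mathlib.RingTheory.AlgebraicIndependent.TranscendenceBasis
import Mathlib.RingTheory.Algebraic.Integral

/-!
# Rational points of a groupoid over a field after a large extension
-/

set_option backward.isDefEq.respectTransparency false
set_option backward.isDefEq.respectTransparency.types false

universe u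

open CategoryTheory CategoryTheory.Limits AlgebraicGeometry Grpd
open scoped Cardinal

namespace Groth.Agent.GrpdLib

theorem exists_ringEquiv_of_trdeg_eq {k Ω₁ Ω₂ : Type u} [Field k] [Field Ω₁] [IsAlgClosed Ω₁] [Field Ω₂]
    [IsAlgClosed Ω₂] [Algebra k Ω₁] [Algebra k Ω₂] (h : Algebra.trdeg k Ω₁ = Algebra.trdeg k Ω₂) :
    ∃ α : Ω₁ ≃+* Ω₂, ∀ c, α (algebraMap k Ω₁ c) = algebraMap k Ω₂ c := by
  obtain ⟨s, hs⟩ := exists_isTranscendenceBasis k Ω₁
  obtain ⟨t, ht⟩ := exists_isTranscendenceBasis k Ω₂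
  obtain ⟨e⟩ : Nonempty (s ≃ t) :=
    Cardinal.eq.1 (hs.cardinalMk_eq_trdeg.trans (h.trans ht.cardinalMk_eq_trdeg.symm))
  let f₁ := hs.1.aevalEquiv
  let f₂ := ht.1.aevalEquiv
  let m := (f₁.symm.toRingEquiv.trans (MvPolynomial.renameEquiv k e).toRingEquiv).trans f₂.toRingEquiv
  have := IsAlgClosed.isAlgClosure_of_transcendence_basis _ hs
  have := IsAlgClosed.isAlgClosure_of_transcendence_basis _ ht
  refine ⟨IsAlgClosure.equivOfEquiv Ω₁ Ω₂ m, fun c => ?_⟩
  rw [IsScalarTower.algebraMap_apply k (Algebra.adjoin k (Set.range (Subtype.val : s → Ω₁))) Ω₁,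
    IsAlgClosure.equivOfEquiv_algebraMap,
    IsScalarTower.algebraMap_apply k (Algebra.adjoin k (Set.range (Subtype.val : t → Ω₂))) Ω₂]
  refine congrArg _ ?_
  show f₂ (MvPolynomial.renameEquiv k e (f₁.symm (algebraMap k _ c))) = _
  rw [AlgEquiv.commutes, AlgEquiv.commutes, AlgEquiv.commutes]

theorem trdeg_algebraicClosure {K P F : Type u} [Field K] [CommRing P] [IsDomain P] [Algebra K P] [Field F]
    [Algebra K F] [Algebra P F] [IsScalarTower K P F] [IsFractionRing P F] :
    Algebra.trdeg K (AlgebraicClosure F) = Algebra.trdeg K P := by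
  have : FaithfulSMul P F := (faithfulSMul_iff_algebraMap_injective P F).2 (IsFractionRing.injective P F)
  have : Algebra.IsAlgebraic P F := IsLocalization.isAlgebraic _ (nonZeroDivisors P)
  rw [← trdeg_add_eq K F (A := AlgebraicClosure F), trdeg_eq_zero (R := F), add_zero,
    ← trdeg_add_eq K P (A := F), trdeg_eq_zero (R := P), add_zero]

theorem trdeg_comp_eq_of_infinite {k K Ω I : Type u} [Field k] [Field K] [Field Ω] [Infinite I] (σ : k →+* K)
    (φ : K →+* Ω) (hI : (letI := φ.toAlgebra; Algebra.trdeg K Ω) = #I) (hK : #K ≤ #I) :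
    (letI := (φ.comp σ).toAlgebra; Algebra.trdeg k Ω) = #I := by
  let : Algebra k Ω := (φ.comp σ).toAlgebra
  let : Algebra k K := σ.toAlgebra
  let : Algebra K Ω := φ.toAlgebra
  have : IsScalarTower k K Ω := IsScalarTower.of_algebraMap_eq fun _ => rfl
  rw [← trdeg_add_eq k K (A := Ω), hI]
  refine Cardinal.add_eq_right (Cardinal.infinite_iff.1 inferInstance) (le_trans ?_ hK)
  obtain ⟨s, hs⟩ := exists_isTranscendenceBasis k K
  rw [← hs.cardinalMk_eq_trdeg]
  exact Cardinal.mk_set_le s

/-- Two embeddings of a field into a field `K` become conjugate in a big extension. -/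
theorem exists_conjugate_extension {k K : Type u} [Field k] [Field K] (σ τ : k →+* K) :
    ∃ (Ω : Type u) (_ : Field Ω) (_ : IsAlgClosed Ω) (φ : K →+* Ω) (α : Ω ≃+* Ω),
      α.toRingHom.comp (φ.comp σ) = φ.comp τ := by
  let I := K × ℕ
  let P := MvPolynomial I K
  let Ω := AlgebraicClosure (FractionRing P)
  let φ : K →+* Ω := algebraMap K Ω
  have hI : Algebra.trdeg K Ω = #I :=
    trdeg_algebraicClosure.trans ((MvPolynomial.trdeg_of_isDomain (S := K) (ι := I)).trans (Cardinal.lift_id _))
  suffices h : ∀ σ : k →+* K, (letI := (φ.comp σ).toAlgebra; Algebra.trdeg k Ω) = #I by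
    obtain ⟨α, hα⟩ := @exists_ringEquiv_of_trdeg_eq k Ω Ω _ _ _ _ _ (φ.comp σ).toAlgebra (φ.comp τ).toAlgebra
      ((h σ).trans (h τ).symm)
    exact ⟨Ω, inferInstance, inferInstance, φ, α, RingHom.ext hα⟩
  intro σ
  exact trdeg_comp_eq_of_infinite σ φ hI (Cardinal.mk_le_of_injective (f := fun a : K => ((a, 0) : I))
    fun a b h => (Prod.mk.inj h).1)

theorem isIso_residueFieldMap_of_comp {T X Y : Scheme.{u}} (h : T ⟶ X) (p : X ⟶ Y) [IsIso (h ≫ p)] (x : T) :
    IsIso (p.residueFieldMap (h x)) := by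
  have hc := Scheme.residueFieldMap_comp h p x
  have hbij : Function.Bijective ((h ≫ p).residueFieldMap x) := ConcreteCategory.bijective_of_isIso _
  have hinj : Function.Injective (h.residueFieldMap x) := (h.residueFieldMap x).hom.injective
  refine (ConcreteCategory.isIso_iff_bijective _).2 ⟨(p.residueFieldMap (h x)).hom.injective, fun y => ?_⟩
  obtain ⟨z, hz⟩ := hbij.2 (h.residueFieldMap x y)
  refine ⟨z, hinj ?_⟩
  rw [← hz, hc]
  rfl

/-- After a large extension every point becomes rational along source and target. -/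
theorem exists_rational_point {S : Scheme.{u}} (G : GroupoidScheme S) (k : Type u) [Field k]
    (eU : G.U ≅ Spec (CommRingCat.of k)) (r : G.R) :
    ∃ (k' : Type u) (_ : Field k') (_ : IsAlgClosed k') (_ : Algebra k k'),
      let g := Spec.map (CommRingCat.ofHom (algebraMap k k')) ≫ eU.inv
      ∃ r' : ↑(pullback (pullback.snd g G.t ≫ G.s) g),
        (pullback.fst (pullback.snd g G.t ≫ G.s) g ≫ pullback.snd g G.t) r' = r ∧
          IsIso ((pullback.snd (pullback.snd g G.t ≫ G.s) g).residueFieldMap r') ∧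
          IsIso ((pullback.fst (pullback.snd g G.t ≫ G.s) g ≫ pullback.fst g G.t).residueFieldMap r') := by
  let ι := G.R.fromSpecResidueField r
  obtain ⟨σ, hσ⟩ := Spec.map_surjective (ι ≫ G.s ≫ eU.hom)
  obtain ⟨τ, hτ⟩ := Spec.map_surjective (ι ≫ G.t ≫ eU.hom)
  obtain ⟨Ω, _, _, φ, α, hα⟩ := exists_conjugate_extension σ.hom τ.hom
  let _ : Algebra k Ω := (φ.comp σ.hom).toAlgebra
  refine ⟨Ω, inferInstance, inferInstance, inferInstance, ?_⟩
  intro g
  let a : Spec (CommRingCat.of Ω) ⟶ Spec (CommRingCat.of Ω) := Spec.map (CommRingCat.ofHom α.toRingHom)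
  have : IsIso a := by
    have : IsIso (CommRingCat.ofHom α.toRingHom) := (RingEquiv.toCommRingCatIso α).isIso_hom
    infer_instance
  let ρ := Spec.map (CommRingCat.ofHom φ) ≫ ι
  have hρs : ρ ≫ G.s = g := by
    have := congrArg (fun m => Spec.map (CommRingCat.ofHom φ) ≫ m ≫ eU.inv) hσ.symm
    simp only [Category.assoc, eU.hom_inv_id, Category.comp_id] at this
    simp only [ρ, g, Category.assoc, this]
    rw [← Category.assoc, ← Spec.map_comp]
    rfl
  have hρt : a ≫ g = ρ ≫ G.t := by
    have := congrArg (fun m => Spec.map (CommRingCat.ofHom φ) ≫ m ≫ eU.inv) hτ.symm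
    simp only [Category.assoc, eU.hom_inv_id, Category.comp_id] at this
    simp only [ρ, Category.assoc, this]
    simp only [a, g, ← Category.assoc, ← Spec.map_comp]
    congr 2
    ext c
    exact congr($hα c)
  let h : Spec (CommRingCat.of Ω) ⟶ pullback (pullback.snd g G.t ≫ G.s) g :=
    pullback.lift (pullback.lift a ρ hρt) (𝟙 _) (by simp [hρs])
  have : IsIso (h ≫ pullback.snd (pullback.snd g G.t ≫ G.s) g) := by simp [h]; infer_instance
  have : IsIso (h ≫ pullback.fst (pullback.snd g G.t ≫ G.s) g ≫ pullback.fst g G.t) := by simp [h]; infer_instance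
  refine ⟨h (IsLocalRing.closedPoint Ω), ?_, isIso_residueFieldMap_of_comp h _ _, isIso_residueFieldMap_of_comp h _ _⟩
  rw [← Scheme.Hom.comp_apply]
  simp [h, ρ]
  exact G.R.fromSpecResidueField_apply r _

end Groth.Agent.GrpdLib
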