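import Groth.Agent.GrpdLib.HomField
import Groth.Agent.GrpSchLib.Cartier
import Groth.Agent.S2155
import Groth.Agent.H23.FinCondSch
import Groth.Agent.GrpdLib.DegDecomp

/-!
# Smoothness of groupoids over a field
-/

set_option backward.isDefEq.respectTransparency false
set_option backward.isDefEq.respectTransparency.types false

universe u

open CategoryTheory CategoryTheory.Limits AlgebraicGeometry Grpd TrivSqZeroExt

namespace Groth.Agent.GrpdLib

variable {S : Scheme.{u}}

theorem lfp_of_field {k : Type u} [Field k] {U X : Scheme.{u}} (eU : U ≅ Spec (CommRingCat.of k)) (f : X ⟶ U)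
    [LocallyOfFiniteType f] : LocallyOfFinitePresentation f := by
  have : IsLocallyNoetherian U := isLocallyNoetherian_of_isOpenImmersion eU.hom
  infer_instance

/-- Over a field the source map is smooth as soon as it is smooth somewhere. -/
theorem smooth_st_of_smoothLocus_nonempty (G : GroupoidScheme S) (k : Type u) [Field k]
    (eU : G.U ≅ Spec (CommRingCat.of k)) [LocallyOfFiniteType G.s] [LocallyOfFinitePresentation G.s]
    (hne : (G.s.smoothLocus : Set G.R).Nonempty) : Smooth G.s ∧ Smooth G.t := by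
  have : Nonempty G.U := ⟨eU.inv (IsLocalRing.closedPoint k)⟩
  have : IsIntegral G.U := isIntegral_of_isOpenImmersion eU.hom
  have : Subsingleton G.U := eU.hom.homeomorph.subsingleton
  have hs : Smooth G.s := by
    rw [← Scheme.Hom.smoothLocus_eq_top_iff, eq_top_iff]
    intro r _
    obtain ⟨w, hw⟩ := hne
    have h₁ := S2155.result G.s G.t (pullback.snd G.s G.t) (pullback.fst G.s G.t)
      (IsPullback.of_hasPullback G.s G.t) (Or.inr inferInstance)
    have h₂ := S2155.result G.s G.s (pullback.snd G.s G.t) G.c (isPullback_snd_c G).flip (Or.inr inferInstance)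
    obtain ⟨z, hz₁, hz₂⟩ := Scheme.exists_preimage_of_isPullback (isPullback_fst_c G) w r (Subsingleton.elim _ _)
    have : z ∈ (pullback.snd G.s G.t).smoothLocus := by
      rw [h₁, Scheme.Hom.mem_preimage, hz₁]; exact hw
    rw [h₂, Scheme.Hom.mem_preimage, hz₂] at this
    exact this
  refine ⟨hs, ?_⟩
  have : IsIso G.i := ⟨G.i, i_i G, i_i G⟩
  rw [← G.i_s]
  infer_instance

/-- Every tangent vector at the identity extends to a derivation relative to the source map. -/
theorem exists_derivation_lift {G : GroupoidScheme S} {k : Type u} [Field k]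
    (eU : G.U ≅ Spec (CommRingCat.of k)) (B : Type u) [CommRing B] [Algebra k B]
    (j : Spec (CommRingCat.of B) ⟶ G.R) [IsOpenImmersion j]
    (hj : j ≫ G.s ≫ eU.hom = Spec.map (CommRingCat.ofHom (algebraMap k B)))
    (χ : B →ₐ[k] k) (hχ : Spec.map (CommRingCat.ofHom χ.toRingHom) ≫ j = eU.inv ≫ G.e)
    (l : B →ₗ[k] k) (hl1 : l 1 = 0) (hl : ∀ a ∈ RingHom.ker χ ^ 2, l a = 0) :
    ∃ D : Derivation k B B, ∀ b, D b - algebraMap k B (l b) ∈ RingHom.ker χ := by
  have hlmul : ∀ a b, l (a * b) = χ a * l b + χ b * l a := by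
    intro a b
    have h := hl ((a - algebraMap k B (χ a)) * (b - algebraMap k B (χ b))) (by
      rw [pow_two]; exact Ideal.mul_mem_mul (by simp [RingHom.mem_ker]) (by simp [RingHom.mem_ker]))
    have e : (a - algebraMap k B (χ a)) * (b - algebraMap k B (χ b)) =
        a * b - χ a • b - χ b • a + (χ a * χ b) • (1 : B) := by
      simp [Algebra.smul_def]; ring
    rw [e] at h
    simp [hl1] at h
    linear_combination h
  let g : B →ₐ[k] DualNumber k := AlgHom.ofLinearMap
    ((TrivSqZeroExt.inlAlgHom k k k).toLinearMap ∘ₗ χ.toLinearMap + (TrivSqZeroExt.inrHom k k) ∘ₗ l)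
    (by simp [hl1])
    (fun a b => by
      ext
      · simp
      · simp [hlmul]; ring)
  obtain ⟨σ, hσ⟩ : ∃ σ : CommRingCat.of k ⟶ CommRingCat.of B, Spec.map σ = j ≫ G.t ≫ eU.hom :=
    Spec.map_surjective _
  let inlB : B →+* DualNumber B := TrivSqZeroExt.inlHom B B
  let fstB : DualNumber B →+* B := (TrivSqZeroExt.fstHom B B B).toRingHom
  let mapε : DualNumber k →+* DualNumber B :=
    { toFun := fun x => TrivSqZeroExt.inl (σ.hom x.fst) + TrivSqZeroExt.inr (σ.hom x.snd)
      map_one' := by ext <;> simp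
      map_mul' := fun x y => by ext <;> simp <;> ring
      map_zero' := by ext <;> simp
      map_add' := fun x y => by ext <;> simp }
  let evε : DualNumber B →+* DualNumber k :=
    { toFun := fun x => TrivSqZeroExt.inl (χ x.fst) + TrivSqZeroExt.inr (χ x.snd)
      map_one' := by ext <;> simp
      map_mul' := fun x y => by ext <;> simp <;> ring
      map_zero' := by ext <;> simp
      map_add' := fun x y => by ext <;> simp }
  let p₁ : Spec (CommRingCat.of (DualNumber B)) ⟶ G.R := Spec.map (CommRingCat.ofHom inlB) ≫ j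
  let w : Spec (CommRingCat.of (DualNumber k)) ⟶ G.R := Spec.map (CommRingCat.ofHom g.toRingHom) ≫ j
  let p₂ : Spec (CommRingCat.of (DualNumber B)) ⟶ G.R := Spec.map (CommRingCat.ofHom mapε) ≫ w
  have hw : w ≫ G.s ≫ eU.hom = Spec.map (CommRingCat.ofHom (algebraMap k (DualNumber k))) := by
    rw [Category.assoc, hj, ← Spec.map_comp, ← CommRingCat.ofHom_comp]
    congr 2
    exact g.comp_algebraMap
  have hh : p₂ ≫ G.s = p₁ ≫ G.t := by
    rw [← cancel_mono eU.hom]
    simp only [p₁, p₂, Category.assoc]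
    rw [hw, ← hσ, ← Spec.map_comp, ← Spec.map_comp]
    congr 1
    ext c
    · simp [mapε, inlB, TrivSqZeroExt.algebraMap_eq_inl']
    · simp [mapε, inlB, TrivSqZeroExt.algebraMap_eq_inl']
  let Ψ := pullback.lift p₂ p₁ hh ≫ G.c
  have hΨs : Ψ ≫ G.s ≫ eU.hom = Spec.map (CommRingCat.ofHom (algebraMap k (DualNumber B))) := by
    rw [← Category.assoc, G.comp_s, Category.assoc]
    simp only [p₁, Category.assoc]
    rw [hj, ← Spec.map_comp, ← CommRingCat.ofHom_comp]
    congr 2
  have hχs : (Spec.map (CommRingCat.ofHom χ.toRingHom) ≫ j) ≫ G.t ≫ eU.hom = 𝟙 _ := by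
    rw [hχ]; simp [reassoc_of% G.e_t]
  have hσχ : ∀ c, χ (σ.hom c) = c := by
    rw [Category.assoc, ← hσ, ← Spec.map_comp, ← Spec.map_id] at hχs
    exact fun c => congrArg (fun q => q.hom c) (Spec.map_injective hχs)
  have hfst : Spec.map (CommRingCat.ofHom fstB) ≫ Ψ = j := by
    have e1 : Spec.map (CommRingCat.ofHom fstB) ≫ p₁ = j := by
      simp only [p₁]
      rw [← Category.assoc, ← Spec.map_comp, ← CommRingCat.ofHom_comp,
        show fstB.comp inlB = RingHom.id B by ext b; simp [fstB, inlB]]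
      simp
    have e2 : Spec.map (CommRingCat.ofHom fstB) ≫ p₂ = j ≫ G.t ≫ G.e := by
      simp only [p₂, w]
      rw [← Category.assoc, ← Category.assoc, ← Spec.map_comp, ← Spec.map_comp]
      have : CommRingCat.ofHom g.toRingHom ≫ CommRingCat.ofHom mapε ≫ CommRingCat.ofHom fstB =
          CommRingCat.ofHom χ.toRingHom ≫ σ := by
        ext b; simp [g, mapε, fstB]
      rw [this, Spec.map_comp, Category.assoc, hχ, hσ, Category.assoc, Category.assoc, Iso.hom_inv_id_assoc]
    have hcond : (j ≫ G.t ≫ G.e) ≫ G.s = j ≫ G.t := by simp [G.e_s]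
    refine Eq.trans ?_ (G.e_comp j)
    rw [← Category.assoc]
    refine congrArg (· ≫ G.c) ?_
    apply pullback.hom_ext
    · rw [Category.assoc, pullback.lift_fst, pullback.lift_fst, e2]
    · rw [Category.assoc, pullback.lift_snd, pullback.lift_snd, e1]
  have hrange : Set.range Ψ ⊆ Set.range j := by
    have hs : Function.Surjective (Spec.map (CommRingCat.ofHom fstB)) := by
      intro P
      have hker : RingHom.ker fstB ≤ P.asIdeal := by
        intro x hx
        refine P.isPrime.mem_of_pow_mem 2 ?_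
        have : x ^ 2 = 0 := by
          have hx0 : x.fst = 0 := by simpa [fstB, RingHom.mem_ker] using hx
          ext <;> simp [pow_two, hx0]
        simp [this]
      have hsurj : Function.Surjective fstB := fun b => ⟨TrivSqZeroExt.inl b, by simp [fstB]⟩
      have := P.isPrime
      refine ⟨⟨P.asIdeal.map fstB, Ideal.map_isPrime_of_surjective hsurj hker⟩, PrimeSpectrum.ext ?_⟩
      show Ideal.comap fstB (Ideal.map fstB P.asIdeal) = P.asIdeal
      rw [Ideal.comap_map_of_surjective fstB hsurj, sup_eq_left]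
      exact hker
    rintro _ ⟨P, rfl⟩
    obtain ⟨Q, rfl⟩ := hs P
    exact ⟨Q, by rw [← Scheme.Hom.comp_apply, hfst]⟩
  obtain ⟨φ, hf⟩ : ∃ φ : CommRingCat.of B ⟶ CommRingCat.of (DualNumber B), Spec.map φ ≫ j = Ψ := by
    obtain ⟨φ, hφ⟩ := Spec.map_surjective (IsOpenImmersion.lift j Ψ hrange)
    exact ⟨φ, by rw [hφ]; exact IsOpenImmersion.lift_fac _ _ _⟩
  have hφk : ∀ c : k, φ.hom (algebraMap k B c) = algebraMap k (DualNumber B) c := by
    have h : Spec.map φ ≫ Spec.map (CommRingCat.ofHom (algebraMap k B)) =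
        Spec.map (CommRingCat.ofHom (algebraMap k (DualNumber B))) := by
      rw [← hj, ← Category.assoc, hf, hΨs]
    rw [← Spec.map_comp] at h
    exact fun c => congrArg (fun q => q.hom c) (Spec.map_injective h)
  let φ' : B →ₐ[k] DualNumber B := { φ.hom with commutes' := hφk }
  have hsec : ∀ b, (φ' b).fst = b := by
    have h : Spec.map (CommRingCat.ofHom fstB) ≫ Spec.map φ = Spec.map (𝟙 (CommRingCat.of B)) := by
      rw [Spec.map_id, ← cancel_mono j, Category.assoc, hf, Category.id_comp, hfst]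
    rw [← Spec.map_comp] at h
    exact fun b => congrArg (fun q => q.hom b) (Spec.map_injective h)
  let D : Derivation k B B :=
    { toLinearMap := (TrivSqZeroExt.sndHom B B).restrictScalars k ∘ₗ φ'.toLinearMap
      map_one_eq_zero' := by simp
      leibniz' := fun a b => by
        simp [hsec]
        ring }
  refine ⟨D, fun b => ?_⟩
  have hev : Spec.map (CommRingCat.ofHom evε) ≫ Ψ = w := by
    have e2 : Spec.map (CommRingCat.ofHom evε) ≫ p₂ = w := by
      simp only [p₂]
      rw [← Category.assoc, ← Spec.map_comp, ← CommRingCat.ofHom_comp,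
        show evε.comp mapε = RingHom.id _ by ext x <;> simp [evε, mapε, hσχ]]
      simp
    have e1 : Spec.map (CommRingCat.ofHom evε) ≫ p₁ = w ≫ G.s ≫ G.e := by
      simp only [p₁]
      rw [← Category.assoc, ← Spec.map_comp]
      have : CommRingCat.ofHom inlB ≫ CommRingCat.ofHom evε =
          CommRingCat.ofHom χ.toRingHom ≫ CommRingCat.ofHom (algebraMap k (DualNumber k)) := by
        ext b <;> simp [inlB, evε, TrivSqZeroExt.algebraMap_eq_inl']
      rw [this, Spec.map_comp, Category.assoc, hχ, ← hw]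
      simp
    refine Eq.trans ?_ (G.comp_e w)
    rw [← Category.assoc]
    refine congrArg (· ≫ G.c) ?_
    apply pullback.hom_ext
    · rw [Category.assoc, pullback.lift_fst, pullback.lift_fst, e2]
    · rw [Category.assoc, pullback.lift_snd, pullback.lift_snd, e1]
  have hg : ∀ b, evε (φ' b) = g b := by
    have h : Spec.map (CommRingCat.ofHom evε) ≫ Spec.map φ = Spec.map (CommRingCat.ofHom g.toRingHom) := by
      rw [← cancel_mono j, Category.assoc, hf, hev]
    rw [← Spec.map_comp] at h
    exact fun b => congrArg (fun q => q.hom b) (Spec.map_injective h)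
  have := congrArg TrivSqZeroExt.snd (hg b)
  rw [RingHom.mem_ker, map_sub, AlgHom.commutes, sub_eq_zero]
  simpa [evε, g, D] using this

theorem mem_smoothLocus_of_comp_iso {X Y Z : Scheme.{u}} (f : X ⟶ Y) (e : Y ≅ Z) [LocallyOfFinitePresentation f]
    {x : X} (hx : x ∈ (f ≫ e.hom).smoothLocus) : x ∈ f.smoothLocus := by
  let V := (f ≫ e.hom).smoothLocus
  have h1 : Smooth (V.ι ≫ f ≫ e.hom) := by
    rw [← Scheme.Hom.smoothLocus_eq_top_iff, ← Scheme.Hom.preimage_smoothLocus_eq]
    exact V.ι_preimage_self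
  have h2 : Smooth (V.ι ≫ f) := by
    have : Smooth ((V.ι ≫ f ≫ e.hom) ≫ e.inv) := inferInstance
    simpa using this
  have h3 := (V.ι ≫ f).smoothLocus_eq_top
  rw [← Scheme.Hom.preimage_smoothLocus_eq] at h3
  have : (⟨x, hx⟩ : V.toScheme) ∈ V.ι ⁻¹ᵁ f.smoothLocus := h3 ▸ trivial
  exact this

/-- In characteristic zero the local ring at the identity is a domain. -/
theorem isDomain_stalk_e (G : GroupoidScheme S) {k : Type u} [Field k] [CharZero k]
    (eU : G.U ≅ Spec (CommRingCat.of k)) [LocallyOfFiniteType G.s] :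
    IsDomain (G.R.presheaf.stalk ((eU.inv ≫ G.e) (IsLocalRing.closedPoint k))) := by
  obtain ⟨W, hW, hxW, -⟩ := exists_isAffineOpen_mem_and_subset
    (show (eU.inv ≫ G.e) (IsLocalRing.closedPoint k) ∈ (⊤ : G.R.Opens) from trivial)
  set B : CommRingCat := Γ(G.R, W)
  let j : Spec B ⟶ G.R := hW.fromSpec
  obtain ⟨σ, hσ⟩ := Spec.map_surjective (j ≫ G.s ≫ eU.hom)
  let : Algebra k B := σ.hom.toAlgebra
  have hj : j ≫ G.s ≫ eU.hom = Spec.map (CommRingCat.ofHom (algebraMap k B)) := hσ.symm
  have hrange : Set.range (eU.inv ≫ G.e) ⊆ Set.range j := by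
    rintro _ ⟨(p : Spec (CommRingCat.of k)), rfl⟩
    rw [hW.range_fromSpec, Subsingleton.elim p (IsLocalRing.closedPoint k)]
    exact hxW
  obtain ⟨q, hq⟩ := Spec.map_surjective (IsOpenImmersion.lift j (eU.inv ≫ G.e) hrange)
  have hqj : Spec.map q ≫ j = eU.inv ≫ G.e := by rw [hq]; exact IsOpenImmersion.lift_fac _ _ _
  have hqk : ∀ c : k, q.hom (algebraMap k B c) = c := by
    have h : Spec.map q ≫ Spec.map (CommRingCat.ofHom (algebraMap k B)) = Spec.map (𝟙 (CommRingCat.of k)) := by
      rw [← hj, reassoc_of% hqj, reassoc_of% G.e_s, eU.inv_hom_id, Spec.map_id]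
    rw [← Spec.map_comp] at h
    exact fun c => congrArg (fun r => r.hom c) (Spec.map_injective h)
  let χ : B →ₐ[k] k := { q.hom with commutes' := hqk }
  have hχ : Spec.map (CommRingCat.ofHom χ.toRingHom) ≫ j = eU.inv ≫ G.e := hqj
  have : Algebra.FiniteType k B := by
    have h : LocallyOfFiniteType (Spec.map (CommRingCat.ofHom (algebraMap k B))) := hj ▸ inferInstance
    exact (HasRingHomProperty.Spec_iff (P := @LocallyOfFiniteType)).mp h
  have : IsNoetherianRing B := Algebra.FiniteType.isNoetherianRing k B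
  let P : Spec B := Spec.map (CommRingCat.ofHom χ.toRingHom) (IsLocalRing.closedPoint k)
  have hP : P.asIdeal = RingHom.ker χ := by
    show Ideal.comap χ.toRingHom (IsLocalRing.maximalIdeal k) = RingHom.ker χ
    rw [IsLocalRing.isField_iff_maximalIdeal_eq.mp (Field.toIsField k)]
    rfl
  have : P.asIdeal.IsMaximal := hP ▸ RingHom.ker_isMaximal_of_surjective χ (fun c => ⟨algebraMap k B c, hqk c⟩)
  have hjP : j P = (eU.inv ≫ G.e) (IsLocalRing.closedPoint k) := by
    rw [← hχ]; rfl
  have hy : hW.fromSpec P ∈ W := hjP ▸ hxW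
  let : Algebra B (G.R.presheaf.stalk (hW.fromSpec P)) :=
    TopCat.Presheaf.algebra_section_stalk G.R.presheaf ⟨hW.fromSpec P, hy⟩
  have : IsLocalization.AtPrime (G.R.presheaf.stalk (hW.fromSpec P)) P.asIdeal :=
    hW.isLocalization_stalk' P hy
  rw [← hjP]
  refine GrpSchLib.isDomain_of_derivations P.asIdeal (fun b => ⟨χ b, ?_⟩) (fun l h1 h2 => ?_) _
  · rw [hP]; simp [RingHom.mem_ker]
  · rw [hP] at h2 ⊢
    exact exists_derivation_lift eU B j hj χ hχ l h1 h2

/-- A scheme whose local ring at a point is a domain has a point which is smooth over a perfect field. -/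
theorem smoothLocus_nonempty_of_isDomain_stalk {k : Type u} [Field k] [PerfectField k] {X : Scheme.{u}}
    (f : X ⟶ Spec (CommRingCat.of k)) [LocallyOfFinitePresentation f] (x : X)
    [IsDomain (X.presheaf.stalk x)] : (f.smoothLocus : Set X).Nonempty := by
  have : IsLocallyNoetherian X := LocallyOfFiniteType.isLocallyNoetherian f
  obtain ⟨V, hxV, hV⟩ := H23.FinCondSch.exists_integral_nhd x
  have := hV
  refine ⟨V.ι (genericPoint V), ?_⟩
  have := (V.ι ≫ f).genericPoint_mem_smoothLocus_of_perfectField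
  rw [← Scheme.Hom.preimage_smoothLocus_eq] at this
  exact this

end Groth.Agent.GrpdLib
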