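import Groth.Agent.GrpdLib.FieldDim
import Groth.Agent.GrpdLib.AlgUnits
import Groth.Agent.FibDim.AffineChart
import Mathlib.AlgebraicGeometry.Morphisms.Flat

/-!
# The stabilizer of a groupoid over a field has the dimension of the arrows
-/

set_option backward.isDefEq.respectTransparency false
set_option backward.isDefEq.respectTransparency.types false

universe u

open CategoryTheory CategoryTheory.Limits AlgebraicGeometry Grpd
open Groth.Agent.GrpSchLib (IsMaxPt UniComp exists_isMaxPt)

namespace Groth.Agent.GrpdLib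

/-- A morphism to the spectrum of a field, restricted to a point. -/
theorem fromSpecResidueField_comp {k : Type u} [Field k] {X : Scheme.{u}} (f : X ⟶ Spec (CommRingCat.of k))
    (x : X) : X.fromSpecResidueField x ≫ f = Spec.map (CommRingCat.ofHom (VarDim.resHom f x)) := by
  refine ext_of_isAffine ?_
  rw [Scheme.Hom.comp_appTop, FibDim.fromSpecResidueField_appTop, ← cancel_epi (Scheme.ΓSpecIso _).inv]
  rw [show (Scheme.ΓSpecIso (CommRingCat.of k)).inv ≫ (Spec.map (CommRingCat.ofHom (VarDim.resHom f x))).appTop =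
      CommRingCat.ofHom (VarDim.resHom f x) ≫ (Scheme.ΓSpecIso _).inv from
    (Scheme.ΓSpecIso_inv_naturality (CommRingCat.ofHom (VarDim.resHom f x))).symm]
  rfl

theorem tdeg_spec_of_isAlgebraic {k L : Type u} [Field k] [Field L] [Algebra k L] [Algebra.IsAlgebraic k L]
    (x : Spec (CommRingCat.of L)) : VarDim.tdeg (Spec.map (CommRingCat.ofHom (algebraMap k L))) x = 0 := by
  let p := Spec.map (CommRingCat.ofHom (algebraMap k L))
  let ρ := VarDim.resHom (𝟙 (Spec (CommRingCat.of L))) x
  letI : Algebra k ((Spec (CommRingCat.of L)).residueField x) := (VarDim.resHom p x).toAlgebra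
  letI : Algebra L ((Spec (CommRingCat.of L)).residueField x) := ρ.toAlgebra
  have : IsScalarTower k L ((Spec (CommRingCat.of L)).residueField x) :=
    IsScalarTower.of_algebraMap_eq fun c => by
      show (Spec (CommRingCat.of L)).Γevaluation x (VarDim.baseMap p c) =
        (Spec (CommRingCat.of L)).Γevaluation x (VarDim.baseMap (𝟙 _) (algebraMap k L c))
      congr 1
      exact congr($((Scheme.ΓSpecIso_inv_naturality (CommRingCat.ofHom (algebraMap k L))).symm) c)
  have h : Algebra.trdeg L ((Spec (CommRingCat.of L)).residueField x) = 0 := VarDim.tdeg_id x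
  show Algebra.trdeg k ((Spec (CommRingCat.of L)).residueField x) = 0
  rw [← trdeg_add_eq k L (A := (Spec (CommRingCat.of L)).residueField x), trdeg_eq_zero, h, add_zero]

variable {S : Scheme.{u}} (G : GroupoidScheme S) (k : Type u) [Field k] (eU : G.U ≅ Spec (CommRingCat.of k))

/-- The target field is algebraic over the source field in every residue field. -/
theorem isAlgebraic_t [LocallyOfFiniteType G.s] (g : G.R) (a : k) :
    letI := (VarDim.resHom (G.s ≫ eU.hom) g).toAlgebra
    IsAlgebraic k (VarDim.resHom (G.t ≫ eU.hom) g a) := by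
  let f := G.s ≫ eU.hom
  let ft := G.t ≫ eU.hom
  obtain ⟨V, hV, hgV, -⟩ := exists_isAffineOpen_mem_and_subset (x := g) (U := ⊤) trivial
  let res := (G.R.presheaf.map (homOfLE (le_top (a := V))).op).hom
  let α : k →+* Γ(G.R, V) := res.comp (VarDim.baseMap f)
  letI : Algebra k Γ(G.R, V) := α.toAlgebra
  letI : Algebra k (G.R.residueField g) := (VarDim.resHom f g).toAlgebra
  let ev : Γ(G.R, V) →+* G.R.residueField g := (G.R.evaluation V g hgV).hom
  have hev : ∀ c : Γ(G.R, ⊤), ev (res c) = G.R.Γevaluation g c := fun c =>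
    congrArg (G.R.residue g) (G.R.presheaf.germ_res_apply (homOfLE le_top) g hgV c)
  let ev' : Γ(G.R, V) →ₐ[k] G.R.residueField g := { ev with commutes' := fun c => hev _ }
  have : Algebra.FiniteType k Γ(G.R, V) := by
    have h := f.finiteType_appLE (isAffineOpen_top (Spec (CommRingCat.of k))) hV (by simp)
    have h2 : ((f.appLE ⊤ V (by simp)).hom.comp (Scheme.ΓSpecIso (CommRingCat.of k)).inv.hom).FiniteType :=
      h.comp (RingHom.FiniteType.of_surjective _
        (Scheme.ΓSpecIso (CommRingCat.of k)).symm.commRingCatIsoToRingEquiv.surjective)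
    exact RingHom.finiteType_algebraMap.1 (show (algebraMap k Γ(G.R, V)).FiniteType from h2)
  have : Algebra.FiniteType k ev'.range :=
    Algebra.FiniteType.of_surjective ev'.rangeRestrict ev'.rangeRestrict_surjective
  let σs := VarDim.resHom f g
  let σt := VarDim.resHom ft g
  let τ : k →+* ev'.range := RingHom.codRestrict σt ev'.range.toSubring
    fun c => ⟨res (VarDim.baseMap ft c), hev _⟩
  have key := isAlgebraic_of_forall_isUnit (A := ev'.range) (σs.eqLocusField σt) a (τ a) fun P hP => by
    have hu := (isUnit_iff_ne_zero.2 hP).map τ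
    convert hu using 1
    apply Subtype.ext
    rw [← Subalgebra.coe_val, ← Polynomial.aeval_algHom_apply]
    show Polynomial.aeval (σt a) (P.map (σs.eqLocusField σt).subtype) = σt ((P.map (σs.eqLocusField σt).subtype).eval a)
    rw [Polynomial.eval_map, Polynomial.aeval_def, Polynomial.eval₂_map, Polynomial.hom_eval₂]
    congr 1
    exact RingHom.ext fun c => RingHom.mem_eqLocusField.1 c.2
  exact key.algHom ev'.range.val

/-- Points in the image of the arrows are algebraic over the base field. -/
theorem rdeg_snd_j [LocallyOfFiniteType G.s] (g : G.R) :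
    VarDim.rdeg (pullback.snd G.pU G.pU ≫ eU.hom) (G.j g) = 0 := by
  letI : Algebra k (G.R.residueField g) := (VarDim.resHom (G.s ≫ eU.hom) g).toAlgebra
  let L := algebraicClosure k (G.R.residueField g)
  let σt := VarDim.resHom (G.t ≫ eU.hom) g
  let τ : k →+* L := RingHom.codRestrict σt L.toSubfield.toSubring
    fun a => mem_algebraicClosure_iff.2 (isAlgebraic_t G k eU g a)
  let π := Spec.map (CommRingCat.ofHom (algebraMap L (G.R.residueField g)))
  let ι := G.R.fromSpecResidueField g
  have hs : π ≫ Spec.map (CommRingCat.ofHom (algebraMap k L)) ≫ eU.inv = ι ≫ G.s := by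
    rw [← Category.assoc, ← Spec.map_comp, ← CommRingCat.ofHom_comp, ← IsScalarTower.algebraMap_eq,
      show (algebraMap k (G.R.residueField g)) = VarDim.resHom (G.s ≫ eU.hom) g from rfl,
      ← fromSpecResidueField_comp, Category.assoc, Category.assoc, eU.hom_inv_id, Category.comp_id]
  have ht : π ≫ Spec.map (CommRingCat.ofHom τ) ≫ eU.inv = ι ≫ G.t := by
    rw [← Category.assoc, ← Spec.map_comp, ← CommRingCat.ofHom_comp,
      show (algebraMap L (G.R.residueField g)).comp τ = σt from RingHom.ext fun _ => rfl,
      ← fromSpecResidueField_comp, Category.assoc, Category.assoc, eU.hom_inv_id, Category.comp_id]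
  have : Flat π := GrpSchLib.flat_spec_map_field _
  have : Surjective π := GrpSchLib.surjective_spec_map_field _
  have : Epi π := Flat.epi_of_flat_of_surjective π
  let h : Spec (CommRingCat.of L) ⟶ pullback G.pU G.pU :=
    pullback.lift (Spec.map (CommRingCat.ofHom τ) ≫ eU.inv) (Spec.map (CommRingCat.ofHom (algebraMap k L)) ≫ eU.inv)
      (by
        rw [← cancel_epi π, Category.assoc, Category.assoc, reassoc_of% ht, reassoc_of% hs]
        exact congrArg (ι ≫ ·) (G.t_over.trans G.s_over.symm))
  have hh : π ≫ h = ι ≫ G.j := by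
    apply pullback.hom_ext
    · rw [Category.assoc, pullback.lift_fst, ht, Category.assoc, j_fst]
    · rw [Category.assoc, pullback.lift_snd, hs, Category.assoc, j_snd]
  let y := π (IsLocalRing.closedPoint _)
  have hz : h y = G.j g := by
    simp only [y]
    rw [← Scheme.Hom.comp_apply, hh, Scheme.Hom.comp_apply]
    exact congrArg G.j (G.R.fromSpecResidueField_apply g _)
  have h0 : VarDim.rdeg (h ≫ pullback.snd G.pU G.pU ≫ eU.hom) y = 0 := by
    rw [VarDim.rdeg_congr (show h ≫ pullback.snd G.pU G.pU ≫ eU.hom =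
        Spec.map (CommRingCat.ofHom (algebraMap k L)) by simp [h]),
      ← VarDim.tdeg_eq_rdeg, tdeg_spec_of_isAlgebraic]
  rw [VarDim.rdeg_comp] at h0
  rw [← hz]
  exact (add_eq_zero.1 h0).1

/-- **A groupoid over a field has the dimension of its stabilizer.** -/
theorem topologicalKrullDim_stabilizer [LocallyOfFiniteType G.s] (eU : G.U ≅ Spec (CommRingCat.of k)) :
    topologicalKrullDim ↥G.R = topologicalKrullDim ↥G.stabilizer := by
  have := subsingleton_U G k eU
  have hjs : G.j ≫ pullback.snd G.pU G.pU = G.s := j_snd G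
  have : LocallyOfFiniteType (G.j ≫ pullback.snd G.pU G.pU) := hjs ▸ inferInstance
  have : LocallyOfFiniteType G.j := locallyOfFiniteType_of_comp G.j (pullback.snd G.pU G.pU)
  have : IsImmersion G.diag := inferInstanceAs (IsImmersion (pullback.diagonal G.pU))
  have : LocallyOfFiniteType G.stabilizerToU := MorphismProperty.pullback_snd (P := @LocallyOfFiniteType) _ _ ‹_›
  refine le_antisymm ?_ (stabι G).isEmbedding.isInducing.topologicalKrullDim_le
  obtain ⟨g, hg, -⟩ := exists_isMaxPt (G.e (eU.inv (IsLocalRing.closedPoint k)))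
  rw [topologicalKrullDim_R G k eU hg]
  let K := AlgebraicClosure (G.R.residueField g)
  let r : Spec (CommRingCat.of K) ⟶ G.R :=
    Spec.map (CommRingCat.ofHom (algebraMap (G.R.residueField g) K)) ≫ G.R.fromSpecResidueField g
  have hr : r (IsLocalRing.closedPoint K) = g := by
    rw [Scheme.Hom.comp_apply]
    exact G.R.fromSpecResidueField_apply _ _
  let αt : pullback G.stabilizerToU G.t ⟶ pullback G.s G.t :=
    pullback.lift (pullback.fst G.stabilizerToU G.t ≫ stabι G) (pullback.snd G.stabilizerToU G.t)
      (by rw [Category.assoc, stabι_s, pullback.condition])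
  have sq := isPullback_stab_t G αt (pullback.lift_fst ..) (pullback.lift_snd ..)
  let q := pullback.snd G.stabilizerToU G.t
  obtain ⟨x, -, -, hx⟩ := FibDim.exists_rd_baseChange_eq
    ((IsPullback.of_hasPullback q r).flip.flip.paste_horiz sq) g (IsLocalRing.closedPoint K)
    (by rw [Scheme.Hom.comp_apply, hr])
  have hd : FibDim.rd G.s g = FibDim.rd G.j g := by
    have h := VarDim.rdeg_congr (show G.j ≫ pullback.snd G.pU G.pU ≫ eU.hom = G.s ≫ eU.hom by
      rw [← Category.assoc, hjs]) g
    rw [VarDim.rdeg_comp G.j, rdeg_snd_j G k eU g, zero_add, ← FibDim.rd_eq_rdeg, ← FibDim.rd_eq_rdeg] at h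
    rw [Nat.cast_inj.1 h, FibDim.rd_comp]
    have h' : (FibDim.rd eU.hom (G.s g) : Cardinal) = 0 := by rw [FibDim.rd_eq_rdeg, VarDim.rdeg_preimmersion]
    rw [show FibDim.rd eU.hom (G.s g) = 0 by exact_mod_cast h', zero_add]
  have hP := (IsPullback.of_hasPullback q r).flip.flip.paste_horiz (IsPullback.of_hasPullback G.stabilizerToU G.t)
  have : Subsingleton (Spec (CommRingCat.of K)) := inferInstanceAs (Subsingleton (PrimeSpectrum K))
  have : Nonempty (Spec (CommRingCat.of K)) := ⟨IsLocalRing.closedPoint K⟩
  have : LocallyOfFiniteType (pullback.snd q r) := MorphismProperty.of_isPullback hP ‹_›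
  rw [← FibDim.topologicalKrullDim_baseChange hP, FibDim.topologicalKrullDim_eq_iSup_rd (pullback.snd q r),
    hd, ← hx]
  exact le_iSup_of_le x le_rfl

end Groth.Agent.GrpdLib
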