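import Groth.Agent.GrpdLib.StabTorsor
import Groth.Agent.GrpdLib.DegDecomp
import Groth.Agent.GrpSchLib.FieldTop
import Groth.Agent.H23.RedSub

/-!
# Components of groupoids over a field: every point lies on a single component
-/

set_option backward.isDefEq.respectTransparency false
set_option backward.isDefEq.respectTransparency.types false

universe u

open CategoryTheory CategoryTheory.Limits AlgebraicGeometry Grpd
open Groth.Agent.GrpSchLib (IsMaxPt UniComp exists_isMaxPt)

namespace Groth.Agent.GrpdLib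

/-- All generalisations of `x` have a common generalisation pairwise. -/
def UniAt {X : Type*} [TopologicalSpace X] (x : X) : Prop :=
  ∀ a b : X, a ⤳ x → b ⤳ x → ∃ c, c ⤳ a ∧ c ⤳ b

theorem UniAt.image {X Y : Type*} [TopologicalSpace X] [TopologicalSpace Y] {f : X → Y} (hf : Continuous f)
    (hg : GeneralizingMap f) {x : X} (h : UniAt x) : UniAt (f x) := by
  intro a b ha hb
  obtain ⟨a', ha', rfl⟩ := hg ha
  obtain ⟨b', hb', rfl⟩ := hg hb
  obtain ⟨c, hca, hcb⟩ := h a' b' ha' hb'
  exact ⟨f c, hca.map hf, hcb.map hf⟩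

theorem uniAt_of_isMaxPt {X : Type*} [TopologicalSpace X] {x : X} (h : IsMaxPt x) : UniAt x :=
  fun a b ha hb => ⟨x, (h a ha).symm ▸ specializes_rfl, (h b hb).symm ▸ specializes_rfl⟩

theorem UniAt.of_iso {X Y : Scheme.{u}} (e : X ⟶ Y) [IsIso e] {x : X} (h : UniAt x) : UniAt (e x) :=
  h.image e.continuous e.isOpenEmbedding.generalizingMap

/-- Closed irreducible sets stay irreducible after an extension of an algebraically closed field. -/
theorem isIrreducible_preimage_closure {K : Type u} [Field K] [IsAlgClosed K] {X : Scheme.{u}}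
    (f : X ⟶ Spec (CommRingCat.of K)) {L : Type u} [Field L] (φ : K →+* L) (x : X) :
    IsIrreducible (pullback.fst f (Spec.map (CommRingCat.ofHom φ)) ⁻¹' closure {x}) := by
  let ι := (Scheme.IdealSheafData.vanishingIdeal (X := X) ⟨closure {x}, isClosed_closure⟩).subschemeι
  have hι : Set.range ι = closure {x} := H23.RedSub.range_vanishingIdeal _
  have : IsClosedImmersion (Over.homMk (U := Over.mk (ι ≫ f)) (V := Over.mk f) ι rfl).left :=
    inferInstanceAs (IsClosedImmersion ι)
  have := GrpSchLib.irreducibleSpace_of_range (G := Over.mk f) (T := Over.mk (ι ≫ f)) (Over.homMk ι rfl)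
    (show IsIrreducible (Set.range ι) from hι.symm ▸ isIrreducible_singleton.closure)
  have : IrreducibleSpace ↥(Scheme.IdealSheafData.vanishingIdeal (X := X) ⟨closure {x}, isClosed_closure⟩).subscheme := this
  have := GrpSchLib.irreducibleSpace_pullback_of_isAlgClosed (ι ≫ f) φ
  let m : pullback (ι ≫ f) (Spec.map (CommRingCat.ofHom φ)) ⟶ pullback f (Spec.map (CommRingCat.ofHom φ)) :=
    pullback.map _ _ _ _ ι (𝟙 _) (𝟙 _) (by simp) (by simp)
  have hm : Set.range m = pullback.fst f (Spec.map (CommRingCat.ofHom φ)) ⁻¹' closure {x} := by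
    simp only [m]
    rw [Scheme.Pullback.range_map, hι]
    simp
  rw [← hm, ← Set.image_univ]
  exact (IrreducibleSpace.isIrreducible_univ _).image _ m.continuous.continuousOn

theorem uniAt_iff_image {K : Type u} [Field K] [IsAlgClosed K] {X : Scheme.{u}} (f : X ⟶ Spec (CommRingCat.of K))
    {L : Type u} [Field L] (φ : K →+* L) (x : ↥(pullback f (Spec.map (CommRingCat.ofHom φ)))) :
    UniAt x ↔ UniAt (pullback.fst f (Spec.map (CommRingCat.ofHom φ)) x) := by
  have := GrpSchLib.flat_spec_map_field φ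
  refine ⟨fun h => h.image (Scheme.Hom.continuous _) (Flat.generalizingMap _), fun h a b ha hb => ?_⟩
  let p := pullback.fst f (Spec.map (CommRingCat.ofHom φ))
  obtain ⟨c, hca, hcb⟩ := h (p a) (p b) (ha.map p.continuous) (hb.map p.continuous)
  have hirr := isIrreducible_preimage_closure f φ c
  have hgen := hirr.isGenericPoint_genericPoint (isClosed_closure.preimage p.continuous)
  exact ⟨hirr.genericPoint, hgen.specializes (show p a ∈ closure {c} from hca.mem_closure),
    hgen.specializes (show p b ∈ closure {c} from hcb.mem_closure)⟩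

variable {S : Scheme.{u}} (G : GroupoidScheme S)

/-- The identity in a fibre of the source map. -/
noncomputable def ePt {T : Scheme.{u}} (b : T ⟶ G.U) : T ⟶ pullback G.s b :=
  pullback.lift (b ≫ G.e) (𝟙 T) (by rw [Category.assoc, G.e_s, Category.comp_id, Category.id_comp])

/-- Right translation by an arrow between fibres of the source map. -/
noncomputable def rightTr {T : Scheme.{u}} (x : T ⟶ G.R) : pullback G.s (x ≫ G.t) ⟶ pullback G.s (x ≫ G.s) :=
  pullback.lift (pullback.lift (pullback.fst G.s (x ≫ G.t)) (pullback.snd G.s (x ≫ G.t) ≫ x)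
      (by rw [pullback.condition, Category.assoc]) ≫ G.c)
    (pullback.snd G.s (x ≫ G.t)) (by rw [G.comp_s, Category.assoc])

theorem rightTr_fst {T : Scheme.{u}} (x : T ⟶ G.R) :
    rightTr G x ≫ pullback.fst G.s (x ≫ G.s) =
      pullback.lift (pullback.fst G.s (x ≫ G.t)) (pullback.snd G.s (x ≫ G.t) ≫ x)
        (by rw [pullback.condition, Category.assoc]) ≫ G.c := pullback.lift_fst _ _ _

theorem rightTr_snd {T : Scheme.{u}} (x : T ⟶ G.R) :
    rightTr G x ≫ pullback.snd G.s (x ≫ G.s) = pullback.snd G.s (x ≫ G.t) := pullback.lift_snd _ _ _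

theorem ePt_rightTr {T : Scheme.{u}} (x : T ⟶ G.R) :
    ePt G (x ≫ G.t) ≫ rightTr G x = pullback.lift x (𝟙 T) (Category.id_comp _).symm := by
  apply pullback.hom_ext
  · rw [Category.assoc, rightTr_fst, pullback.lift_fst, ← Category.assoc]
    refine Eq.trans (congrArg (· ≫ G.c) ?_) (G.e_comp x)
    apply pullback.hom_ext <;> simp [ePt]
    exact Category.id_comp _
  · rw [Category.assoc, rightTr_snd, pullback.lift_snd, ePt, pullback.lift_snd]

theorem isIso_rightTr {T : Scheme.{u}} (x : T ⟶ G.R) : IsIso (rightTr G x) := by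
  have h0 : pullback.fst G.s (x ≫ G.s) ≫ G.s = ((pullback.snd G.s (x ≫ G.s) ≫ x) ≫ G.i) ≫ G.t := by
    rw [pullback.condition, Category.assoc _ G.i, G.i_t, Category.assoc]
  let back : pullback G.s (x ≫ G.s) ⟶ pullback G.s (x ≫ G.t) :=
    pullback.lift (pullback.lift _ _ h0 ≫ G.c) (pullback.snd G.s (x ≫ G.s))
      (by rw [G.comp_s, Category.assoc _ G.i, G.i_s, Category.assoc])
  refine ⟨back, ?_, ?_⟩
  · apply pullback.hom_ext
    · rw [Category.assoc, pullback.lift_fst, Category.id_comp]
      refine Eq.trans ?_ (mul_inv_pt G (pullback.fst G.s (x ≫ G.t)) (pullback.snd G.s (x ≫ G.t) ≫ x)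
        (by rw [pullback.condition, Category.assoc]))
      rw [← Category.assoc]
      refine congrArg (· ≫ G.c) ?_
      apply pullback.hom_ext
      · simp [rightTr]
      · simp [rightTr]
    · rw [Category.assoc, pullback.lift_snd, rightTr_snd, Category.id_comp]
  · apply pullback.hom_ext
    · rw [Category.assoc, rightTr_fst, Category.id_comp, ← Category.assoc]
      have h1 : (pullback.lift _ _ h0 ≫ G.c) ≫ G.s = (pullback.snd G.s (x ≫ G.s) ≫ x) ≫ G.t := by
        rw [G.comp_s, Category.assoc _ G.i, G.i_s]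
      refine Eq.trans ?_ (inv_mul_pt G _ _ h0 h1)
      refine congrArg (· ≫ G.c) ?_
      apply pullback.hom_ext <;> simp [back]
    · rw [Category.assoc, rightTr_snd, pullback.lift_snd, Category.id_comp]
where
  mul_inv_pt (G : GroupoidScheme S) {T : Scheme.{u}} (α β : T ⟶ G.R) (h : α ≫ G.s = β ≫ G.t) :
      pullback.lift (pullback.lift α β h ≫ G.c) (β ≫ G.i) (by rw [G.comp_s, Category.assoc, G.i_t]) ≫ G.c = α := by
    refine (G.assoc α β (β ≫ G.i) h (by rw [Category.assoc, G.i_t])).trans ?_
    refine (c_congr G _ rfl (G.comp_i β)).trans ((c_congr G _ rfl ?_).trans (G.comp_e α))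
    rw [← Category.assoc, ← h, Category.assoc]
  inv_mul_pt (G : GroupoidScheme S) {T : Scheme.{u}} (α β : T ⟶ G.R) (h : α ≫ G.s = (β ≫ G.i) ≫ G.t)
      (h' : (pullback.lift α (β ≫ G.i) h ≫ G.c) ≫ G.s = β ≫ G.t) :
      pullback.lift (pullback.lift α (β ≫ G.i) h ≫ G.c) β h' ≫ G.c = α := by
    refine (G.assoc α (β ≫ G.i) β h (by rw [Category.assoc, G.i_s])).trans ?_
    refine (c_congr G _ rfl (G.i_comp β)).trans ((c_congr G _ rfl ?_).trans (G.comp_e α))
    rw [← Category.assoc β, ← Category.assoc α, h, Category.assoc β G.i, G.i_t]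

variable (k : Type u) [Field k] (eU : G.U ≅ Spec (CommRingCat.of k))

/-- The geometric base point. -/
noncomputable def barPt : Spec (CommRingCat.of (AlgebraicClosure k)) ⟶ G.U :=
  Spec.map (CommRingCat.ofHom (algebraMap k (AlgebraicClosure k))) ≫ eU.inv

theorem exists_factor_barPt {K : Type u} [Field K] [IsAlgClosed K] (b : Spec (CommRingCat.of K) ⟶ G.U) :
    ∃ φ : AlgebraicClosure k →+* K, b = Spec.map (CommRingCat.ofHom φ) ≫ barPt G k eU := by
  obtain ⟨σ, hσ⟩ := Spec.map_surjective (b ≫ eU.hom)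
  let _ : Algebra k K := σ.hom.toAlgebra
  refine ⟨(IsAlgClosed.lift : AlgebraicClosure k →ₐ[k] K).toRingHom, ?_⟩
  rw [barPt, ← Category.assoc, ← Spec.map_comp, ← CommRingCat.ofHom_comp, AlgHom.toRingHom_eq_coe,
    AlgHom.comp_algebraMap]
  show b = Spec.map σ ≫ eU.inv
  rw [hσ, Category.assoc, eU.hom_inv_id, Category.comp_id]

/-- The projection of a fibre over an algebraically closed field to the geometric fibre. -/
noncomputable def toBar {K : Type u} [Field K] (φ : AlgebraicClosure k →+* K) :
    pullback G.s (Spec.map (CommRingCat.ofHom φ) ≫ barPt G k eU) ⟶ pullback G.s (barPt G k eU) :=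
  pullback.lift (pullback.fst _ _) (pullback.snd _ _ ≫ Spec.map (CommRingCat.ofHom φ))
    (by rw [Category.assoc]; exact pullback.condition)

theorem uniAt_toBar {K : Type u} [Field K] (φ : AlgebraicClosure k →+* K)
    (y : ↥(pullback G.s (Spec.map (CommRingCat.ofHom φ) ≫ barPt G k eU))) :
    UniAt y ↔ UniAt (toBar G k eU φ y) := by
  let e := pullbackLeftPullbackSndIso G.s (barPt G k eU) (Spec.map (CommRingCat.ofHom φ))
  have he : toBar G k eU φ = e.inv ≫ pullback.fst _ _ := by
    apply pullback.hom_ext <;> simp [toBar, e, pullback.condition]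
  rw [he, Scheme.Hom.comp_apply, ← uniAt_iff_image (pullback.snd G.s (barPt G k eU)) φ]
  refine ⟨fun h => h.of_iso e.inv, fun h => ?_⟩
  have := h.of_iso e.hom
  rwa [← Scheme.Hom.comp_apply, e.inv_hom_id] at this

/-- A point of the geometric fibre is unibranch if and only if the identity is. -/
theorem uniAt_iff_one (x : ↥(pullback G.s (barPt G k eU))) :
    UniAt x ↔ UniAt (ePt G (barPt G k eU) (IsLocalRing.closedPoint (AlgebraicClosure k))) := by
  let X := pullback G.s (barPt G k eU)
  let K := AlgebraicClosure (X.residueField x)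
  let q : Spec (CommRingCat.of K) ⟶ X :=
    Spec.map (CommRingCat.ofHom (algebraMap (X.residueField x) K)) ≫ X.fromSpecResidueField x
  have hq : ∀ y, q y = x := fun y => by
    rw [Scheme.Hom.comp_apply]
    exact X.fromSpecResidueField_apply _ _
  let r : Spec (CommRingCat.of K) ⟶ G.R := q ≫ pullback.fst G.s (barPt G k eU)
  obtain ⟨φ, hφ⟩ := Spec.map_surjective (q ≫ pullback.snd G.s (barPt G k eU))
  have hs : r ≫ G.s = Spec.map (CommRingCat.ofHom φ.hom) ≫ barPt G k eU := by
    simp only [r, Category.assoc, pullback.condition]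
    rw [← Category.assoc, ← hφ]
    rfl
  obtain ⟨ψ, hψ⟩ := exists_factor_barPt G k eU (r ≫ G.t)
  let es : pullback G.s (r ≫ G.s) ≅ pullback G.s (Spec.map (CommRingCat.ofHom φ.hom) ≫ barPt G k eU) :=
    pullback.congrHom rfl hs
  let et : pullback G.s (r ≫ G.t) ≅ pullback G.s (Spec.map (CommRingCat.ofHom ψ) ≫ barPt G k eU) :=
    pullback.congrHom rfl hψ
  have := isIso_rightTr G r
  let pt := IsLocalRing.closedPoint K
  have hx : (pullback.lift r (𝟙 _) (Category.id_comp _).symm ≫ es.hom ≫ toBar G k eU φ.hom) pt = x := by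
    have : pullback.lift r (𝟙 _) (Category.id_comp _).symm ≫ es.hom ≫ toBar G k eU φ.hom = q := by
      apply pullback.hom_ext
      · simp [toBar, es, r]
      · simp [toBar, es, hφ]
        exact Category.id_comp _
    rw [this, hq]
  have he : (ePt G (r ≫ G.t) ≫ et.hom ≫ toBar G k eU ψ) pt =
      ePt G (barPt G k eU) (IsLocalRing.closedPoint (AlgebraicClosure k)) := by
    have : ePt G (r ≫ G.t) ≫ et.hom ≫ toBar G k eU ψ = Spec.map (CommRingCat.ofHom ψ) ≫ ePt G (barPt G k eU) := by
      apply pullback.hom_ext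
      · simp [toBar, et, ePt, hψ]
      · simp [toBar, et, ePt]
        exact Category.id_comp _
    rw [this, Scheme.Hom.comp_apply]
    exact congrArg _ (Subsingleton.elim (α := PrimeSpectrum (AlgebraicClosure k)) _ _)
  have key : ∀ {A B : Scheme.{u}} (f : A ⟶ B) [IsIso f] (z : A), UniAt z ↔ UniAt (f z) := fun f _ z =>
    ⟨fun h => h.of_iso f, fun h => by
      have := h.of_iso (inv f)
      rwa [← Scheme.Hom.comp_apply, IsIso.hom_inv_id] at this⟩
  rw [← hx, ← he]
  simp only [Scheme.Hom.comp_apply]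
  rw [← uniAt_toBar, ← uniAt_toBar, ← key es.hom, ← key et.hom, ← ePt_rightTr G r, Scheme.Hom.comp_apply,
    ← key (rightTr G r)]

theorem uniComp_bar : UniComp ↥(pullback G.s (barPt G k eU)) := by
  obtain ⟨c, hc, -⟩ := exists_isMaxPt (ePt G (barPt G k eU) (IsLocalRing.closedPoint (AlgebraicClosure k)))
  have h1 := (uniAt_iff_one G k eU c).1 (uniAt_of_isMaxPt hc)
  exact fun x => (uniAt_iff_one G k eU x).2 h1

/-- Every point of a groupoid over a field lies on a single component. -/
theorem uniComp (G : GroupoidScheme S) (k : Type u) [Field k] (eU : G.U ≅ Spec (CommRingCat.of k)) :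
    UniComp ↥G.R := by
  have : Nonempty G.U := ⟨eU.inv (IsLocalRing.closedPoint k)⟩
  have : IsIntegral G.U := isIntegral_of_isOpenImmersion eU.hom
  have : Subsingleton G.U := eU.hom.homeomorph.subsingleton
  have : Surjective (barPt G k eU) := ⟨fun y => ⟨IsLocalRing.closedPoint (AlgebraicClosure k), Subsingleton.elim _ _⟩⟩
  intro x
  obtain ⟨x', rfl⟩ := (pullback.fst G.s (barPt G k eU)).surjective x
  exact UniAt.image (Scheme.Hom.continuous _) (Flat.generalizingMap _) (uniComp_bar G k eU x')

end Groth.Agent.GrpdLib
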