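import Mathlib
import Groth.Prelude.Def_Mor2
import Groth.Agent.FittX.Free
import Groth.Agent.RingPO.Props2
import Groth.Agent.ModPairLib.Basic

/-!
# Fitting ideals of a finite morphism of schemes

For a finite morphism `f : X ⟶ Y`, `fitMor f r` is the ideal sheaf whose value on an affine open `V`
is the `r`-th Fitting ideal of `Γ(X, f ⁻¹ V)` over `Γ(Y, V)`.
-/

set_option backward.isDefEq.respectTransparency false
set_option backward.isDefEq.respectTransparency.types false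
set_option autoImplicit false
set_option linter.style.haveILetI false
set_option linter.style.longLine false

universe u

open CategoryTheory CategoryTheory.Limits AlgebraicGeometry TopologicalSpace
open scoped TensorProduct

namespace Groth.Agent.GrpdLib

variable {X Y X' Y' : Scheme.{u}}

/-- The `r`-th Fitting ideal of the sections of `f` over `V`. -/
noncomputable def fitVal (f : X ⟶ Y) (V : Y.Opens) (r : ℕ) : Ideal Γ(Y, V) :=
  letI := (f.appLE V (f ⁻¹ᵁ V) le_rfl).hom.toAlgebra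
  Fitt.ideal Γ(Y, V) Γ(X, f ⁻¹ᵁ V) r

theorem finite_appLE (f : X ⟶ Y) [IsFinite f] {V : Y.Opens} (hV : IsAffineOpen V) :
    (f.appLE V (f ⁻¹ᵁ V) le_rfl).hom.Finite := by
  have h : f.appLE V (f ⁻¹ᵁ V) le_rfl = f.app V := Scheme.Hom.appLE_eq_app _
  rw [h]
  exact f.finite_app V hV

theorem fitVal_eq_map {f : X ⟶ Y} {f' : X' ⟶ Y'} {g' : X' ⟶ X} {g : Y' ⟶ Y}
    (h : IsPullback g' f' f g) [IsFinite f] [IsFinite f'] {V : Y.Opens} (hV : IsAffineOpen V)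
    {W : Y'.Opens} (hW : IsAffineOpen W) (e : W ≤ g ⁻¹ᵁ V) (r : ℕ) :
    fitVal f' W r = (fitVal f V r).map (g.appLE V W e).hom := by
  have ec : f' ⁻¹ᵁ W ≤ g' ⁻¹ᵁ f ⁻¹ᵁ V := by
    rw [← Scheme.Hom.comp_preimage, h.w, Scheme.Hom.comp_preimage]
    exact f'.preimage_mono e
  have hP := RingPO.isPushout_appLE_of_isPullback h.flip hV hW e (hV.preimage f) rfl (hW.preimage f') rfl ec
  letI := (f.appLE V (f ⁻¹ᵁ V) le_rfl).hom.toAlgebra
  letI := (f'.appLE W (f' ⁻¹ᵁ W) le_rfl).hom.toAlgebra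
  letI := (g.appLE V W e).hom.toAlgebra
  letI := (g'.appLE (f ⁻¹ᵁ V) (f' ⁻¹ᵁ W) ec).hom.toAlgebra
  letI := ((g.appLE V W e) ≫ (f'.appLE W (f' ⁻¹ᵁ W) le_rfl)).hom.toAlgebra
  haveI : IsScalarTower Γ(Y, V) Γ(Y', W) Γ(X', f' ⁻¹ᵁ W) := IsScalarTower.of_algebraMap_eq fun _ => rfl
  haveI : IsScalarTower Γ(Y, V) Γ(X, f ⁻¹ᵁ V) Γ(X', f' ⁻¹ᵁ W) :=
    IsScalarTower.of_algebraMap_eq' (congrArg CommRingCat.Hom.hom hP.w)
  haveI : Algebra.IsPushout Γ(Y, V) Γ(Y', W) Γ(X, f ⁻¹ᵁ V) Γ(X', f' ⁻¹ᵁ W) :=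
    CommRingCat.isPushout_iff_isPushout.mp hP
  haveI : Module.Finite Γ(Y, V) Γ(X, f ⁻¹ᵁ V) := finite_appLE f hV
  exact FittX.ideal_baseChange (Algebra.IsPushout.out (R := Γ(Y, V)) (S := Γ(Y', W))
    (R' := Γ(X, f ⁻¹ᵁ V)) (S' := Γ(X', f' ⁻¹ᵁ W))) r

/-- The Fitting ideal sheaf of a finite morphism. -/
noncomputable def fitMor (f : X ⟶ Y) [IsFinite f] (r : ℕ) : Y.IdealSheafData :=
  { ideal := fun V => fitVal f V.1 r
    map_ideal_basicOpen := fun V a => by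
      have h : IsPullback (𝟙 X) f f (𝟙 Y) := IsPullback.of_horiz_isIso ⟨by simp⟩
      refine ((fitVal_eq_map h V.2 (V.2.basicOpen a) (by simpa using Y.basicOpen_le a) r).trans ?_).symm
      rw [Scheme.Hom.appLE]
      simp }

theorem fitMor_ideal (f : X ⟶ Y) [IsFinite f] (r : ℕ) (V : Y.affineOpens) :
    (fitMor f r).ideal V = fitVal f V.1 r := rfl

theorem fitMor_comap {f : X ⟶ Y} {f' : X' ⟶ Y'} {g' : X' ⟶ X} {g : Y' ⟶ Y}
    (h : IsPullback g' f' f g) [IsFinite f] [IsFinite f'] (r : ℕ) :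
    (fitMor f r).comap g = fitMor f' r := by
  have cover : ∀ y : Y', ∃ (V : Y.affineOpens) (W : Y'.affineOpens), y ∈ W.1 ∧ W.1 ≤ g ⁻¹ᵁ V.1 := by
    intro y
    obtain ⟨V, hV, hyV, -⟩ := exists_isAffineOpen_mem_and_subset (x := g y) (U := (⊤ : Y.Opens)) (by simp)
    obtain ⟨W, hW, hyW, hle⟩ := exists_isAffineOpen_mem_and_subset (x := y) (U := g ⁻¹ᵁ V) hyV
    exact ⟨⟨V, hV⟩, ⟨W, hW⟩, hyW, hle⟩
  choose V W hy hle using cover
  refine Scheme.IdealSheafData.ext_of_iSup_eq_top W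
    (top_le_iff.1 fun y _ => Opens.mem_iSup.2 ⟨y, hy y⟩) fun y => ?_
  rw [ModPairLib.ideal_comap _ g (V y) (W y) (hle y), fitMor_ideal, fitMor_ideal,
    fitVal_eq_map h (V y).2 (W y).2 (hle y)]

theorem fitMor_comap_snd (f : X ⟶ Y) [IsFinite f] (g : Y' ⟶ Y) (r : ℕ) :
    (fitMor f r).comap g = fitMor (pullback.snd f g) r :=
  fitMor_comap (IsPullback.of_hasPullback f g) r

theorem fitMor_monotone (f : X ⟶ Y) [IsFinite f] : Monotone (fitMor f) := by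
  intro k l hkl V
  rw [fitMor_ideal, fitMor_ideal]
  letI := (f.appLE V.1 (f ⁻¹ᵁ V.1) le_rfl).hom.toAlgebra
  haveI : Module.Finite Γ(Y, V.1) Γ(X, f ⁻¹ᵁ V.1) := finite_appLE f V.2
  exact FittX.ideal_mono hkl

theorem exists_fitMor_ideal_eq_top (f : X ⟶ Y) [IsFinite f] (V : Y.affineOpens) :
    ∃ n, (fitMor f n).ideal V = ⊤ := by
  letI := (f.appLE V.1 (f ⁻¹ᵁ V.1) le_rfl).hom.toAlgebra
  haveI : Module.Finite Γ(Y, V.1) Γ(X, f ⁻¹ᵁ V.1) := finite_appLE f V.2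
  obtain ⟨n, g, hg⟩ := FittX.exists_gen Γ(Y, V.1) Γ(X, f ⁻¹ᵁ V.1)
  exact ⟨n, FittX.ideal_eq_top_of_gen g hg le_rfl⟩

theorem exists_notMem_support_fitMor (f : X ⟶ Y) [IsFinite f] (y : Y) :
    ∃ r, y ∉ (fitMor f r).support := by
  obtain ⟨V, hV, hy, -⟩ := exists_isAffineOpen_mem_and_subset (x := y) (U := (⊤ : Y.Opens)) (by simp)
  obtain ⟨n, hn⟩ := exists_fitMor_ideal_eq_top f ⟨V, hV⟩
  refine ⟨n, fun h => ?_⟩
  rw [Scheme.IdealSheafData.mem_support_iff_of_mem (U := ⟨V, hV⟩) hy, hn, Scheme.mem_zeroLocus_iff] at h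
  exact h 1 Submodule.mem_top (by rw [Y.basicOpen_of_isUnit isUnit_one]; exact hy)

theorem fitMor_zero_eq_bot_of_section (f : X ⟶ Y) [IsFinite f] (σ : Y ⟶ X) (hσ : σ ≫ f = 𝟙 Y) :
    fitMor f 0 = ⊥ := by
  ext V : 2
  rw [fitMor_ideal, Scheme.IdealSheafData.ideal_bot, Pi.bot_apply, eq_bot_iff]
  letI := (f.appLE V.1 (f ⁻¹ᵁ V.1) le_rfl).hom.toAlgebra
  haveI : Module.Finite Γ(Y, V.1) Γ(X, f ⁻¹ᵁ V.1) := finite_appLE f V.2
  intro a ha
  have ha' := Module.mem_annihilator.1 (FittX.ideal_annihilator ha) (1 : Γ(X, f ⁻¹ᵁ V.1))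
  rw [Algebra.smul_def, mul_one] at ha'
  have e : V.1 ≤ σ ⁻¹ᵁ f ⁻¹ᵁ V.1 := by rw [← Scheme.Hom.comp_preimage, hσ]; rfl
  have hid : f.appLE V.1 (f ⁻¹ᵁ V.1) le_rfl ≫ σ.appLE (f ⁻¹ᵁ V.1) V.1 e = 𝟙 _ := by
    rw [Scheme.Hom.appLE_comp_appLE]
    simp only [hσ]
    simp [Scheme.Hom.appLE]
    exact Y.presheaf.map_id _
  have := congrArg (σ.appLE (f ⁻¹ᵁ V.1) V.1 e).hom ha'
  rw [map_zero] at this
  have h2 := congrArg (fun φ : Γ(Y, V.1) ⟶ Γ(Y, V.1) => φ.hom a) hid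
  exact (Submodule.mem_bot _).2 (h2.symm.trans this)

theorem fitMor_isFiniteTypeIdeal (f : X ⟶ Y) [IsFinite f] [LocallyOfFinitePresentation f] (r : ℕ)
    (V : Y.affineOpens) : ((fitMor f r).ideal V).FG := by
  rw [fitMor_ideal]
  letI := (f.appLE V.1 (f ⁻¹ᵁ V.1) le_rfl).hom.toAlgebra
  haveI : Module.Finite Γ(Y, V.1) Γ(X, f ⁻¹ᵁ V.1) := finite_appLE f V.2
  haveI : Algebra.FinitePresentation Γ(Y, V.1) Γ(X, f ⁻¹ᵁ V.1) :=
    HasRingHomProperty.appLE @LocallyOfFinitePresentation f inferInstance V ⟨_, V.2.preimage f⟩ le_rfl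
  haveI : Module.FinitePresentation Γ(Y, V.1) Γ(X, f ⁻¹ᵁ V.1) :=
    Module.FinitePresentation.of_finite_of_finitePresentation _ _
  exact FittX.ideal_fg r

/-- A finite morphism whose Fitting ideals are those of a free module of rank `d` is finite locally
free of degree `d`. -/
theorem isFinLocFreeOfDeg_of_fitMor (f : X ⟶ Y) [IsFinite f] (d : ℕ)
    (hbot : ∀ k < d, fitMor f k = ⊥) (htop : ∀ k, d ≤ k → fitMor f k = ⊤) :
    Mor2.IsFinLocFreeOfDeg d f := by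
  have key : ∀ V : Y.affineOpens,
      letI := (f.appLE V.1 (f ⁻¹ᵁ V.1) le_rfl).hom.toAlgebra
      Module.Flat Γ(Y, V.1) Γ(X, f ⁻¹ᵁ V.1) ∧ Algebra.FinitePresentation Γ(Y, V.1) Γ(X, f ⁻¹ᵁ V.1) ∧
        ∀ p : PrimeSpectrum Γ(Y, V.1), Module.rankAtStalk Γ(X, f ⁻¹ᵁ V.1) p = d := by
    intro V
    letI := (f.appLE V.1 (f ⁻¹ᵁ V.1) le_rfl).hom.toAlgebra
    haveI : Module.Finite Γ(Y, V.1) Γ(X, f ⁻¹ᵁ V.1) := finite_appLE f V.2
    have hF : (∀ k, k < d → Fitt.ideal Γ(Y, V.1) Γ(X, f ⁻¹ᵁ V.1) k = ⊥) ∧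
        (∀ k, d ≤ k → Fitt.ideal Γ(Y, V.1) Γ(X, f ⁻¹ᵁ V.1) k = ⊤) :=
      ⟨fun k hk => by
          have h := congrArg (fun I : Y.IdealSheafData => I.ideal V) (hbot k hk)
          simpa [fitMor_ideal, fitVal] using h,
        fun k hk => by
          have h := congrArg (fun I : Y.IdealSheafData => I.ideal V) (htop k hk)
          simpa [fitMor_ideal, fitVal] using h⟩
    have hloc := (FittX.locallyFree_iff d).2 hF
    choose a ha hfree _ using fun p : PrimeSpectrum Γ(Y, V.1) => hloc p.asIdeal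
    have hspan : Ideal.span (Set.range a) = ⊤ := by
      by_contra hne
      obtain ⟨m, hm, hle⟩ := Ideal.exists_le_maximal _ hne
      exact ha ⟨m, hm.isPrime⟩ (hle (Ideal.subset_span ⟨_, rfl⟩))
    haveI hflat : Module.Flat Γ(Y, V.1) Γ(X, f ⁻¹ᵁ V.1) := by
      refine @Module.flat_of_localized_span Γ(Y, V.1) _ Γ(X, f ⁻¹ᵁ V.1) _ _ (Set.range a) hspan ?_
      rintro ⟨_, p, rfl⟩
      haveI := hfree p
      exact Module.Flat.trans Γ(Y, V.1) (Localization.Away (a p)) _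
    haveI hfp : Module.FinitePresentation Γ(Y, V.1) Γ(X, f ⁻¹ᵁ V.1) := by
      refine Module.FinitePresentation.of_localizationSpan _ hspan ?_
      rintro ⟨_, p, rfl⟩
      haveI := hfree p
      haveI : Module.Finite (Localization.Away (a p))
          (LocalizedModule.Away (a p) Γ(X, f ⁻¹ᵁ V.1)) :=
        Module.Finite.of_isLocalizedModule (Submonoid.powers (a p))
          (LocalizedModule.mkLinearMap (Submonoid.powers (a p)) _)
      exact Module.finitePresentation_of_projective _ _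
    refine ⟨hflat, inferInstance, fun p => ?_⟩
    rw [Module.rankAtStalk_eq]
    have h1 := (FittX.not_le_iff_fiber Γ(X, f ⁻¹ᵁ V.1) d p.asIdeal).1 (by
      rw [hF.2 d le_rfl, top_le_iff]; exact p.isPrime.ne_top)
    refine le_antisymm h1 ?_
    by_contra hlt
    push Not at hlt
    exact (FittX.not_le_iff_fiber Γ(X, f ⁻¹ᵁ V.1) _ p.asIdeal).2 le_rfl (by rw [hF.1 _ hlt]; exact bot_le)
  have hsq : ∀ V : Y.affineOpens, Arrow.mk (f ∣_ V.1) ≅ Arrow.mk (Spec.map (f.appLE V.1 (f ⁻¹ᵁ V.1) le_rfl)) :=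
    fun V => morphismRestrictEq f V.2.opensRange_fromSpec.symm ≪≫ morphismRestrictOpensRange f V.2.fromSpec ≪≫
      (Arrow.isoMk (f := Arrow.mk (Spec.map (f.appLE V.1 (f ⁻¹ᵁ V.1) le_rfl)))
        (g := Arrow.mk (pullback.snd f V.2.fromSpec)) (RingPO.isPullback_fromSpec f V.2).isoPullback (Iso.refl _)
        (by simp [(RingPO.isPullback_fromSpec f V.2).isoPullback_hom_snd])).symm
  have hcov : iSup (fun V : Y.affineOpens => V.1) = ⊤ := iSup_affineOpens_eq_top Y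
  haveI hflat : Flat f := IsZariskiLocalAtTarget.of_iSup_eq_top (P := @Flat) _ hcov fun V => by
    rw [MorphismProperty.arrow_mk_iso_iff @Flat (hsq V), HasRingHomProperty.Spec_iff (P := @Flat)]
    exact (key V).1
  haveI hlfp : LocallyOfFinitePresentation f :=
    IsZariskiLocalAtTarget.of_iSup_eq_top (P := @LocallyOfFinitePresentation) _ hcov fun V => by
      rw [MorphismProperty.arrow_mk_iso_iff @LocallyOfFinitePresentation (hsq V),
        HasRingHomProperty.Spec_iff (P := @LocallyOfFinitePresentation)]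
      exact (key V).2.1
  refine ⟨⟨inferInstance, hflat, hlfp⟩, fun y => ?_⟩
  obtain ⟨V, hV, hy, -⟩ := exists_isAffineOpen_mem_and_subset (x := y) (U := (⊤ : Y.Opens)) (by simp)
  obtain ⟨p, hp⟩ : y ∈ Set.range hV.fromSpec := by rw [hV.range_fromSpec]; exact hy
  subst hp
  rw [← Scheme.Hom.finrank_of_isPullback _ _ f hV.fromSpec (RingPO.isPullback_fromSpec f hV) p]
  letI := (f.appLE V (f ⁻¹ᵁ V) le_rfl).hom.toAlgebra
  haveI : Module.Finite Γ(Y, V) Γ(X, f ⁻¹ᵁ V) := finite_appLE f hV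
  haveI : Module.Flat Γ(Y, V) Γ(X, f ⁻¹ᵁ V) := (key ⟨V, hV⟩).1
  exact (Scheme.Hom.finrank_SpecMap_algebraMap Γ(Y, V) Γ(X, f ⁻¹ᵁ V) p).trans ((key ⟨V, hV⟩).2.2 p)

end Groth.Agent.GrpdLib
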