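import Groth.Agent.GrpdLib.Affine

/-!
# Composition as a base change, and the stabilizer acting on arrows
-/

set_option backward.isDefEq.respectTransparency false
set_option backward.isDefEq.respectTransparency.types false

universe u

open CategoryTheory CategoryTheory.Limits AlgebraicGeometry Grpd

namespace Groth.Agent.GrpdLib

variable {S : Scheme.{u}} (G : GroupoidScheme S)

theorem c_congr {T : Scheme.{u}} {α α' β β' : T ⟶ G.R} (h : α ≫ G.s = β ≫ G.t) (ha : α = α') (hb : β = β') :
    pullback.lift α β h ≫ G.c = pullback.lift α' β' (ha ▸ hb ▸ h) ≫ G.c := by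
  subst ha hb; rfl

/-- Composition and first projection make the composable pairs a base change of `t` along `t`. -/
theorem isPullback_fst_c : IsPullback (pullback.fst G.s G.t) G.c G.t G.t := by
  refine ⟨⟨(c_t G).symm⟩, ⟨PullbackCone.IsLimit.mk _
    (fun p => pullback.lift p.fst
      (pullback.lift (p.fst ≫ G.i) p.snd (by rw [Category.assoc, G.i_s]; exact p.condition) ≫ G.c)
      (by rw [G.comp_t, Category.assoc, G.i_t]))
    (fun p => pullback.lift_fst _ _ _) (fun p => ?_) fun p l h1 h2 => ?_⟩⟩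
  · rw [← G.assoc _ _ _ (by rw [Category.assoc, G.i_t])]
    refine (c_congr G _ (G.comp_i p.fst) rfl).trans ((c_congr G _ ?_ rfl).trans (G.e_comp p.snd))
    rw [← Category.assoc, p.condition, Category.assoc]
  · apply pullback.hom_ext
    · simpa using h1
    · rw [pullback.lift_snd]
      have hl : l ≫ G.c = pullback.lift (l ≫ pullback.fst G.s G.t) (l ≫ pullback.snd G.s G.t)
          (by rw [Category.assoc, Category.assoc, pullback.condition]) ≫ G.c := by
        refine congrArg (· ≫ G.c) ?_
        apply pullback.hom_ext <;> simp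
      have hst : (l ≫ pullback.fst G.s G.t) ≫ G.s = (l ≫ pullback.snd G.s G.t) ≫ G.t := by
        rw [Category.assoc, Category.assoc, pullback.condition]
      have hh : ((l ≫ pullback.fst G.s G.t) ≫ G.i) ≫ G.s =
          (pullback.lift (l ≫ pullback.fst G.s G.t) (l ≫ pullback.snd G.s G.t) hst ≫ G.c) ≫ G.t := by
        rw [G.comp_t, Category.assoc, G.i_s]
      refine Eq.trans ?_ (c_congr G hh (congrArg (· ≫ G.i) h1) (hl.symm.trans h2))
      rw [← G.assoc _ _ _ (by rw [Category.assoc, G.i_s])]
      refine Eq.symm ((c_congr G _ (G.i_comp _) rfl).trans ((c_congr G _ ?_ rfl).trans (G.e_comp _)))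
      simp [pullback.condition_assoc]

theorem diag_fst : G.diag ≫ pullback.fst G.pU G.pU = 𝟙 _ := pullback.lift_fst ..
theorem diag_snd : G.diag ≫ pullback.snd G.pU G.pU = 𝟙 _ := pullback.lift_snd ..
theorem j_fst : G.j ≫ pullback.fst G.pU G.pU = G.t := pullback.lift_fst ..
theorem j_snd : G.j ≫ pullback.snd G.pU G.pU = G.s := pullback.lift_snd ..

theorem j_ext {T : Scheme.{u}} {x y : T ⟶ G.R} (h₁ : x ≫ G.t = y ≫ G.t) (h₂ : x ≫ G.s = y ≫ G.s) :
    x ≫ G.j = y ≫ G.j := by
  apply pullback.hom_ext
  · rw [Category.assoc, Category.assoc, j_fst, h₁]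
  · rw [Category.assoc, Category.assoc, j_snd, h₂]

/-- The inclusion of the stabilizer in the arrows. -/
noncomputable abbrev stabι : G.stabilizer ⟶ G.R := pullback.fst G.j G.diag

theorem stabι_t : stabι G ≫ G.t = G.stabilizerToU := by
  rw [← j_fst, ← Category.assoc, pullback.condition, Category.assoc, diag_fst, Category.comp_id]
  rfl

theorem stabι_s : stabι G ≫ G.s = G.stabilizerToU := by
  rw [← j_snd, ← Category.assoc, pullback.condition, Category.assoc, diag_snd, Category.comp_id]
  rfl

theorem exists_stab_lift {T : Scheme.{u}} (x : T ⟶ G.R) (h : x ≫ G.t = x ≫ G.s) :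
    ∃ z : T ⟶ G.stabilizer, z ≫ stabι G = x ∧ z ≫ G.stabilizerToU = x ≫ G.t := by
  refine ⟨pullback.lift x (x ≫ G.t) ?_, pullback.lift_fst .., pullback.lift_snd ..⟩
  apply pullback.hom_ext
  · rw [Category.assoc, j_fst, Category.assoc _ G.diag, diag_fst, Category.comp_id]
  · rw [Category.assoc, j_snd, Category.assoc _ G.diag, diag_snd, Category.comp_id, h]

theorem stab_ext {T : Scheme.{u}} {z z' : T ⟶ G.stabilizer} (h : z ≫ stabι G = z' ≫ stabι G) : z = z' :=
  pullback.hom_ext h (by
    have := congrArg (· ≫ G.t) h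
    simp only [Category.assoc, stabι_t] at this
    exact this)

/-- `γ ↦ γ ∘ r` makes `R` a pseudo-torsor under the stabilizer at the target. -/
theorem isPullback_stab_t (α : pullback G.stabilizerToU G.t ⟶ pullback G.s G.t)
    (hα₁ : α ≫ pullback.fst G.s G.t = pullback.fst G.stabilizerToU G.t ≫ stabι G)
    (hα₂ : α ≫ pullback.snd G.s G.t = pullback.snd G.stabilizerToU G.t) :
    IsPullback (α ≫ G.c) (pullback.snd G.stabilizerToU G.t) G.j G.j := by
  have ht : (α ≫ G.c) ≫ G.t = pullback.snd G.stabilizerToU G.t ≫ G.t := by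
    rw [Category.assoc, c_t, reassoc_of% hα₁, stabι_t, pullback.condition]
  have hs : (α ≫ G.c) ≫ G.s = pullback.snd G.stabilizerToU G.t ≫ G.s := by
    rw [Category.assoc, c_s, reassoc_of% hα₂]
  have key : ∀ c : PullbackCone G.j G.j, ∃ z, z ≫ (α ≫ G.c) = c.fst ∧ z ≫ pullback.snd G.stabilizerToU G.t = c.snd := by
    intro c
    have h₁ : c.fst ≫ G.t = c.snd ≫ G.t := by
      rw [← j_fst, ← Category.assoc, c.condition, Category.assoc]
    have h₂ : c.fst ≫ G.s = c.snd ≫ G.s := by
      rw [← j_snd, ← Category.assoc, c.condition, Category.assoc]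
    obtain ⟨p, hp₁, hp₂⟩ := (isPullback_snd_c G).exists_lift c.snd c.fst h₂.symm
    have hsame : (p ≫ pullback.fst G.s G.t) ≫ G.t = (p ≫ pullback.fst G.s G.t) ≫ G.s := by
      rw [Category.assoc, ← c_t, ← Category.assoc, hp₂, h₁, Category.assoc, pullback.condition, reassoc_of% hp₁]
    obtain ⟨z, hz₁, hz₂⟩ := exists_stab_lift G _ hsame
    have hz : z ≫ G.stabilizerToU = c.snd ≫ G.t := by rw [hz₂, hsame, Category.assoc, pullback.condition, reassoc_of% hp₁]
    refine ⟨pullback.lift z c.snd hz, ?_,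
      pullback.lift_snd ..⟩
    have : pullback.lift z c.snd hz ≫ α = p := by
      apply pullback.hom_ext
      · rw [Category.assoc, hα₁, pullback.lift_fst_assoc, hz₁]
      · rw [Category.assoc, hα₂, pullback.lift_snd, hp₁]
    rw [reassoc_of% this, hp₂]
  choose l hl₁ hl₂ using key
  refine ⟨⟨j_ext G ht hs⟩, ⟨PullbackCone.IsLimit.mk _ l hl₁ hl₂ fun c m hm₁ hm₂ => ?_⟩⟩
  have e : m ≫ α = l c ≫ α := by
    refine (isPullback_snd_c G).hom_ext ?_ ?_
    · rw [Category.assoc, Category.assoc, hα₂, hm₂, hl₂]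
    · rw [Category.assoc, Category.assoc, hm₁, hl₁]
  apply pullback.hom_ext
  · refine stab_ext G ?_
    have := congrArg (· ≫ pullback.fst G.s G.t) e
    simpa only [Category.assoc, hα₁] using this
  · rw [hm₂, hl₂]

/-- `γ ↦ r ∘ γ` makes `R` a pseudo-torsor under the stabilizer at the source. -/
theorem isPullback_stab_s (α : pullback G.stabilizerToU G.s ⟶ pullback G.s G.t)
    (hα₁ : α ≫ pullback.fst G.s G.t = pullback.snd G.stabilizerToU G.s)
    (hα₂ : α ≫ pullback.snd G.s G.t = pullback.fst G.stabilizerToU G.s ≫ stabι G) :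
    IsPullback (α ≫ G.c) (pullback.snd G.stabilizerToU G.s) G.j G.j := by
  have ht : (α ≫ G.c) ≫ G.t = pullback.snd G.stabilizerToU G.s ≫ G.t := by
    rw [Category.assoc, c_t, reassoc_of% hα₁]
  have hs : (α ≫ G.c) ≫ G.s = pullback.snd G.stabilizerToU G.s ≫ G.s := by
    rw [Category.assoc, c_s, reassoc_of% hα₂, stabι_s, pullback.condition]
  have key : ∀ c : PullbackCone G.j G.j, ∃ z, z ≫ (α ≫ G.c) = c.fst ∧ z ≫ pullback.snd G.stabilizerToU G.s = c.snd := by
    intro c
    have h₁ : c.fst ≫ G.t = c.snd ≫ G.t := by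
      rw [← j_fst, ← Category.assoc, c.condition, Category.assoc]
    have h₂ : c.fst ≫ G.s = c.snd ≫ G.s := by
      rw [← j_snd, ← Category.assoc, c.condition, Category.assoc]
    obtain ⟨p, hp₁, hp₂⟩ := (isPullback_fst_c G).exists_lift c.snd c.fst h₁.symm
    have hsame : (p ≫ pullback.snd G.s G.t) ≫ G.t = (p ≫ pullback.snd G.s G.t) ≫ G.s := by
      rw [Category.assoc, ← pullback.condition, reassoc_of% hp₁, Category.assoc, ← c_s, ← Category.assoc, hp₂, h₂]
    obtain ⟨z, hz₁, hz₂⟩ := exists_stab_lift G _ hsame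
    have hz : z ≫ G.stabilizerToU = c.snd ≫ G.s := by rw [hz₂, Category.assoc, ← pullback.condition, reassoc_of% hp₁]
    refine ⟨pullback.lift z c.snd hz, ?_,
      pullback.lift_snd ..⟩
    have : pullback.lift z c.snd hz ≫ α = p := by
      apply pullback.hom_ext
      · rw [Category.assoc, hα₁, pullback.lift_snd, hp₁]
      · rw [Category.assoc, hα₂, pullback.lift_fst_assoc, hz₁]
    rw [reassoc_of% this, hp₂]
  choose l hl₁ hl₂ using key
  refine ⟨⟨j_ext G ht hs⟩, ⟨PullbackCone.IsLimit.mk _ l hl₁ hl₂ fun c m hm₁ hm₂ => ?_⟩⟩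
  have e : m ≫ α = l c ≫ α := by
    refine (isPullback_fst_c G).hom_ext ?_ ?_
    · rw [Category.assoc, Category.assoc, hα₁, hm₂, hl₂]
    · rw [Category.assoc, Category.assoc, hm₁, hl₁]
  apply pullback.hom_ext
  · refine stab_ext G ?_
    have := congrArg (· ≫ pullback.snd G.s G.t) e
    simpa only [Category.assoc, hα₂] using this
  · rw [hm₂, hl₂]

/-- The stabilizer has isomorphic base changes along the source and the target. -/
theorem exists_stabilizer_pullbacks : ∃ (a b : pullback G.stabilizerToU G.s ⟶ G.stabilizer),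
    IsPullback a (pullback.snd G.stabilizerToU G.s) G.stabilizerToU G.s ∧
      IsPullback b (pullback.snd G.stabilizerToU G.s) G.stabilizerToU G.t := by
  let αs : pullback G.stabilizerToU G.s ⟶ pullback G.s G.t :=
    pullback.lift (pullback.snd G.stabilizerToU G.s) (pullback.fst G.stabilizerToU G.s ≫ stabι G)
      (by rw [Category.assoc, stabι_t, pullback.condition])
  let αt : pullback G.stabilizerToU G.t ⟶ pullback G.s G.t :=
    pullback.lift (pullback.fst G.stabilizerToU G.t ≫ stabι G) (pullback.snd G.stabilizerToU G.t)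
      (by rw [Category.assoc, stabι_s, pullback.condition])
  have hs := isPullback_stab_s G αs (pullback.lift_fst ..) (pullback.lift_snd ..)
  have ht := isPullback_stab_t G αt (pullback.lift_fst ..) (pullback.lift_snd ..)
  let e := hs.isoIsPullback _ _ ht
  refine ⟨_, e.hom ≫ pullback.fst G.stabilizerToU G.t, IsPullback.of_hasPullback _ _, ?_⟩
  refine (IsPullback.of_hasPullback G.stabilizerToU G.t).of_iso e.symm (Iso.refl _) (Iso.refl _) (Iso.refl _)
    ?_ ?_ (by simp) (by simp)
  · simp
  · simp [e]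

end Groth.Agent.GrpdLib
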