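import Groth.Agent.GrpdLib.FitMor
import Groth.Agent.GrpdLib.Affine
import Groth.Agent.GrpdLib.StabTorsor
import Groth.Agent.MorLib.IdealFG2
import Groth.Agent.ModPairLib.BlowUp
import Groth.Agent.FittX.Sheaf

/-!
# The Fitting stratification of a groupoid with finite source and target
-/

set_option backward.isDefEq.respectTransparency false
set_option backward.isDefEq.respectTransparency.types false
set_option linter.style.haveILetI false
set_option linter.style.longLine false
set_option autoImplicit false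

universe u

open CategoryTheory CategoryTheory.Limits AlgebraicGeometry TopologicalSpace Grpd

namespace Groth.Agent.GrpdLib

variable {S : Scheme.{u}} (G : GroupoidScheme S) [IsFinite G.s]

omit [IsFinite G.s] in
theorem isPullback_i_s : IsPullback G.i G.t G.s (𝟙 G.U) := by
  have h : G.i ≫ G.i = 𝟙 G.R := by
    have h := (isPullback_fst_c G).hom_ext (k := pullback.lift (f := G.s) (g := G.t) G.i (G.i ≫ G.i) (by rw [Category.assoc, G.i_t]))
      (l := pullback.lift (f := G.s) (g := G.t) G.i (𝟙 G.R) (by rw [G.i_s, Category.id_comp])) ?_ ?_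
    · simpa using congrArg (· ≫ pullback.snd G.s G.t) h
    · rw [pullback.lift_fst, pullback.lift_fst]
    · rw [G.comp_i, reassoc_of% G.i_t]
      have hh : (𝟙 G.R ≫ G.i) ≫ G.s = 𝟙 G.R ≫ G.t := by simp [G.i_s]
      exact ((Category.id_comp _).symm.trans (G.i_comp (𝟙 G.R)).symm).trans
        (c_congr G hh (Category.id_comp _) rfl)
  haveI : IsIso G.i := ⟨G.i, h, h⟩
  exact IsPullback.of_horiz_isIso ⟨by rw [G.i_s, Category.comp_id]⟩

theorem fitMor_comap_s_eq_t (r : ℕ) : (fitMor G.s r).comap G.s = (fitMor G.s r).comap G.t := by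
  haveI : IsFinite G.c := MorphismProperty.of_isPullback (isPullback_snd_c G) inferInstance
  rw [fitMor_comap (isPullback_snd_c G) r]
  have h := (isPullback_fst_c G).paste_horiz (isPullback_i_s G)
  rw [Category.comp_id] at h
  rw [fitMor_comap h r]

theorem fitMor_zero_s : fitMor G.s 0 = ⊥ := fitMor_zero_eq_bot_of_section G.s G.e G.e_s

/-- Iso of pullbacks from equality of inverse images of an ideal sheaf. -/
theorem exists_iso_of_comap_eq {X Y : Scheme.{u}} (I : Y.IdealSheafData) (a b : X ⟶ Y)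
    (h : I.comap a = I.comap b) :
    ∃ φ : pullback a I.subschemeι ≅ pullback b I.subschemeι,
      φ.hom ≫ pullback.fst b I.subschemeι = pullback.fst a I.subschemeι := by
  have key : ∀ {J J' : X.IdealSheafData} (h : J = J'),
      (eqToIso (congrArg Scheme.IdealSheafData.subscheme h)).hom ≫ J'.subschemeι = J.subschemeι := by
    rintro J _ rfl; simp
  refine ⟨(I.comapIso a).symm ≪≫ eqToIso (congrArg Scheme.IdealSheafData.subscheme h) ≪≫ I.comapIso b, ?_⟩
  simp only [Iso.trans_hom, Category.assoc, Scheme.IdealSheafData.comapIso_hom_fst, Iso.symm_hom]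
  rw [key h, Scheme.IdealSheafData.comapIso_inv_subschemeι]

/-- The set of points where `s` has fibre rank `r + 1`. -/
def stratum (r : ℕ) : Set G.U :=
  ((fitMor G.s r).support : Set G.U) \ (fitMor G.s (r + 1)).support

theorem stratum_invariant (r : ℕ) (a : G.R) : G.s a ∈ stratum G r ↔ G.t a ∈ stratum G r := by
  have key : ∀ k, G.s a ∈ (fitMor G.s k).support ↔ G.t a ∈ (fitMor G.s k).support := fun k => by
    have h := congrArg Scheme.IdealSheafData.support (fitMor_comap_s_eq_t G k)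
    rw [Scheme.IdealSheafData.support_comap, Scheme.IdealSheafData.support_comap] at h
    exact Set.ext_iff.1 (congrArg (fun Z : Closeds G.R => (Z : Set G.R)) h) a
  exact and_congr (key r) (not_congr (key (r + 1)))

theorem support_fitMor_antitone {k l : ℕ} (h : k ≤ l) :
    ((fitMor G.s l).support : Set G.U) ⊆ (fitMor G.s k).support :=
  Scheme.IdealSheafData.support_antitone (fitMor_monotone G.s h)

theorem mem_support_zero (u : G.U) : u ∈ (fitMor G.s 0).support := by
  rw [fitMor_zero_s, Scheme.IdealSheafData.support_bot]; trivial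

theorem exists_mem_stratum (u : G.U) : ∃ r, u ∈ stratum G r := by
  classical
  have h : ∃ n, u ∉ (fitMor G.s n).support := exists_notMem_support_fitMor G.s u
  have h0 : Nat.find h ≠ 0 := fun e => Nat.find_spec h (e ▸ mem_support_zero G u)
  refine ⟨Nat.find h - 1, ?_, ?_⟩
  · exact of_not_not (Nat.find_min h (by omega))
  · rw [Nat.sub_add_cancel (Nat.one_le_iff_ne_zero.2 h0)]; exact Nat.find_spec h

theorem stratum_eq {r r' : ℕ} {u : G.U} (h : u ∈ stratum G r) (h' : u ∈ stratum G r') : r = r' := by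
  rcases Nat.lt_trichotomy r r' with hl | he | hl
  · exact (h.2 (support_fitMor_antitone G (by omega : r + 1 ≤ r') h'.1)).elim
  · exact he
  · exact (h'.2 (support_fitMor_antitone G (by omega : r' + 1 ≤ r) h.1)).elim

/-- Over a morphism into a stratum, `s` is finite locally free. -/
theorem isFinLocFreeOfDeg_of_stratum {T P : Scheme.{u}} {g : T ⟶ G.U} {g' : P ⟶ G.R} {q : P ⟶ T}
    (h : IsPullback g' q G.s g) (r : ℕ) (hg : ∀ x, g x ∉ (fitMor G.s (r + 1)).support)
    (hz : (fitMor G.s r).comap g = ⊥) : Mor2.IsFinLocFreeOfDeg (r + 1) q := by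
  haveI : IsFinite q := MorphismProperty.of_isPullback h inferInstance
  refine isFinLocFreeOfDeg_of_fitMor q (r + 1) (fun k hk => ?_) fun k hk => ?_
  · rw [← fitMor_comap h, eq_bot_iff, ← hz]
    exact Scheme.IdealSheafData.comap_mono g (fitMor_monotone G.s (by omega))
  · rw [← fitMor_comap h, ← Scheme.IdealSheafData.support_eq_bot_iff, Scheme.IdealSheafData.support_comap,
      eq_bot_iff]
    intro x hx
    exact (hg x (support_fitMor_antitone G hk hx)).elim

theorem comap_subschemeι_self {X : Scheme.{u}} (K : X.IdealSheafData) : K.comap K.subschemeι = ⊥ := by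
  rw [eq_bot_iff, ← Scheme.IdealSheafData.le_map_iff_comap_le, Scheme.IdealSheafData.map_bot,
    Scheme.IdealSheafData.ker_subschemeι]

theorem fitting_stratification [IsFinite G.t] :
    ∃ Z : ℕ → G.U.IdealSheafData, Z 0 = ⊥ ∧ Monotone Z ∧ (⋂ r, ((Z r).support : Set G.U)) = ∅ ∧
      (∀ r, ∃ φ : pullback G.s (Z r).subschemeι ≅ pullback G.t (Z r).subschemeι,
        φ.hom ≫ pullback.fst G.t (Z r).subschemeι = pullback.fst G.s (Z r).subschemeι) ∧
      ∀ r, Mor2.IsFinLocFreeOfDeg (r + 1)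
        (pullback.snd G.s (((Z r).subschemeι ⁻¹ᵁ (Z (r + 1)).support.compl).ι ≫ (Z r).subschemeι)) := by
  refine ⟨fitMor G.s, fitMor_zero_s G, fitMor_monotone G.s, ?_, fun r => exists_iso_of_comap_eq _ _ _
    (fitMor_comap_s_eq_t G r), fun r => ?_⟩
  · refine Set.eq_empty_iff_forall_notMem.2 fun x hx => ?_
    obtain ⟨r, hr⟩ := exists_notMem_support_fitMor G.s x
    exact hr (Set.mem_iInter.1 hx r)
  · refine isFinLocFreeOfDeg_of_stratum G (IsPullback.of_hasPullback _ _) r (fun x => ?_) ?_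
    · exact x.2
    · rw [Scheme.IdealSheafData.comap_comp, comap_subschemeι_self, Scheme.IdealSheafData.comap_bot]

omit [IsFinite G.s] in
/-- A closed set's saturation under a groupoid is invariant. -/
theorem mem_saturation_iff (C : Set G.U) (a : G.R) :
    G.s a ∈ G.t '' (G.s ⁻¹' C) ↔ G.t a ∈ G.t '' (G.s ⁻¹' C) := by
  have key : ∀ a : G.R, G.s a ∈ G.t '' (G.s ⁻¹' C) → G.t a ∈ G.t '' (G.s ⁻¹' C) := by
    rintro a ⟨b, hb, hab⟩
    obtain ⟨p, hp1, hp2⟩ := Scheme.Pullback.exists_preimage_pullback a b hab.symm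
    refine ⟨G.c p, ?_, ?_⟩
    · show G.s (G.c p) ∈ C
      rw [← Scheme.Hom.comp_apply, c_s, Scheme.Hom.comp_apply, hp2]
      exact hb
    · rw [← Scheme.Hom.comp_apply, c_t, Scheme.Hom.comp_apply, hp1]
  refine ⟨key a, fun h => ?_⟩
  have h2 : G.s (G.i a) ∈ G.t '' (G.s ⁻¹' C) := by rw [← Scheme.Hom.comp_apply, G.i_s]; exact h
  have h1 := key (G.i a) h2
  rwa [← Scheme.Hom.comp_apply, G.i_t] at h1

omit [IsFinite G.s] in
theorem mem_saturation_self {C : Set G.U} {x : G.U} (hx : x ∈ C) : x ∈ G.t '' (G.s ⁻¹' C) := by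
  refine ⟨G.e x, ?_, by rw [← Scheme.Hom.comp_apply, G.e_t]; rfl⟩
  show G.s (G.e x) ∈ C
  rw [← Scheme.Hom.comp_apply, G.e_s]
  exact hx

/-- A generic point in the support of a finitely generated ideal sheaf is interior. -/
theorem mem_interior_support_of_generic {X : Scheme.{u}} (I : X.IdealSheafData) (hI : ∀ U, (I.ideal U).FG)
    {x : X} (hx : ∀ y : X, y ⤳ x → y = x) (h : x ∈ I.support) : x ∈ interior (I.support : Set X) := by
  classical
  obtain ⟨V, hV, hxV, -⟩ := exists_isAffineOpen_mem_and_subset (x := x) (U := (⊤ : X.Opens)) (by simp)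
  let p := hV.primeIdealOf ⟨x, hxV⟩
  obtain ⟨T, hT⟩ := hI ⟨V, hV⟩
  rw [Scheme.IdealSheafData.mem_support_iff_of_mem (U := ⟨V, hV⟩) hxV, Scheme.mem_zeroLocus_iff] at h
  have hmem : ∀ z ∈ I.ideal ⟨V, hV⟩, z ∈ p.asIdeal := fun z hz => by
    by_contra hn
    exact h z hz ((Groth.Agent.QCoh.mem_basicOpen_iff_notMem hV hxV z).2 hn)
  have hmin : ∀ q : PrimeSpectrum Γ(X, V), q.asIdeal ≤ p.asIdeal → q = p := fun q hq => by
    have hs : q ⤳ p := (PrimeSpectrum.le_iff_specializes q p).1 hq
    have h2 := hs.map hV.fromSpec.continuous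
    rw [hV.fromSpec_primeIdealOf ⟨x, hxV⟩] at h2
    exact hV.fromSpec.isOpenEmbedding.injective ((hx _ h2).trans (hV.fromSpec_primeIdealOf ⟨x, hxV⟩).symm)
  have hz : ∀ z : T, ∃ a, a ∉ p.asIdeal ∧ IsNilpotent (a * (z : Γ(X, V))) := fun z => by
    by_contra hno
    push Not at hno
    have hdisj : Disjoint ((⊥ : Ideal Γ(X, V)) : Set Γ(X, V))
        (p.asIdeal.primeCompl ⊔ Submonoid.powers (z : Γ(X, V)) : Submonoid Γ(X, V)) := by
      rw [Set.disjoint_left]
      rintro w (rfl : w = 0) hw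
      obtain ⟨a, ha, b, ⟨n, rfl⟩, hab⟩ := Submonoid.mem_sup.1 hw
      refine hno a ha ⟨n + 1, ?_⟩
      calc (a * (z : Γ(X, V))) ^ (n + 1) = (a * (z : Γ(X, V)) ^ n) * (a ^ n * (z : Γ(X, V))) := by ring
        _ = 0 := by rw [hab, zero_mul]
    obtain ⟨q, hq, -, hqd⟩ := Ideal.exists_le_prime_disjoint _ _ hdisj
    have hqp : q ≤ p.asIdeal := fun w hw => by
      by_contra hn
      exact Set.disjoint_left.1 hqd hw (Submonoid.mem_sup_left hn)
    have := hmin ⟨q, hq⟩ hqp
    have hzq : (z : Γ(X, V)) ∈ q := by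
      rw [show q = p.asIdeal from congrArg PrimeSpectrum.asIdeal this]
      exact hmem _ (hT ▸ Ideal.subset_span z.2)
    exact Set.disjoint_left.1 hqd hzq (Submonoid.mem_sup_right (Submonoid.mem_powers _))
  choose a ha hanil using hz
  let A : Γ(X, V) := ∏ z : T, a z
  have hA : A ∉ p.asIdeal := fun hm => by
    obtain ⟨z, -, hz⟩ := (Ideal.IsPrime.prod_mem_iff (hp := p.isPrime)).1 hm
    exact ha z hz
  refine mem_interior.2 ⟨X.basicOpen A, fun y hy => ?_, (X.basicOpen A).isOpen,
    (Groth.Agent.QCoh.mem_basicOpen_iff_notMem hV hxV A).2 hA⟩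
  have hyV : y ∈ V := X.basicOpen_le A hy
  rw [SetLike.mem_coe, Scheme.IdealSheafData.mem_support_iff_of_mem (U := ⟨V, hV⟩) hyV, Scheme.mem_zeroLocus_iff]
  intro w hw hyw
  have hyA := (Groth.Agent.QCoh.mem_basicOpen_iff_notMem hV hyV A).1 hy
  have hle : I.ideal ⟨V, hV⟩ ≤ (hV.primeIdealOf ⟨y, hyV⟩).asIdeal := by
    rw [← hT, Ideal.span_le]
    intro z hz
    obtain ⟨n, hn⟩ := hanil ⟨z, hz⟩
    have hp := (hV.primeIdealOf ⟨y, hyV⟩).isPrime
    rcases hp.mem_or_mem (hp.mem_of_pow_mem n (hn ▸ Ideal.zero_mem _)) with h1 | h1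
    · refine (hyA ?_).elim
      exact Ideal.mem_of_dvd _ (Finset.dvd_prod_of_mem a (Finset.mem_univ _)) h1
    · exact h1
  exact (Groth.Agent.QCoh.mem_basicOpen_iff_notMem hV hyV w).1 hyw (hle hw)

end Groth.Agent.GrpdLib
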