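import Groth.Agent.GrpdLib.InvOpen
import Mathlib.RingTheory.Spectrum.Prime.FreeLocus
import Mathlib.RingTheory.KrullDimension.Zero

/-!
# Invariant affine opens around generic points, without flatness
-/

set_option backward.isDefEq.respectTransparency false
set_option backward.isDefEq.respectTransparency.types false

universe u

open CategoryTheory CategoryTheory.Limits AlgebraicGeometry Grpd TensorProduct

namespace Groth.Agent.GrpdLib

/-- A finite algebra of finite presentation is, near finitely many minimal primes, close enough to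
finite locally free for images of zero loci to be zero loci. -/
theorem exists_norm_near_minimalPrimes {A B : Type u} [CommRing A] [CommRing B] [Algebra A B]
    [Module.FinitePresentation A B] (O : Set (PrimeSpectrum A)) (hO : O.Finite)
    (hmin : ∀ p ∈ O, ∀ p' : PrimeSpectrum A, p'.asIdeal ≤ p.asIdeal → p' = p) :
    ∃ f : A, (∀ p ∈ O, f ∉ p.asIdeal) ∧ ∀ b : B, ∃ a : A, ∀ p : PrimeSpectrum A, f ∉ p.asIdeal →
      (a ∉ p.asIdeal ↔ ∀ q : Ideal B, q.IsPrime → q.comap (algebraMap A B) = p.asIdeal → b ∉ q) := by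
  classical
  let A' := A ⧸ nilradical A
  let M := A' ⊗[A] B
  have hred : IsReduced A' := (Ideal.isRadical_iff_quotient_reduced _).1 (Ideal.radical_isRadical ⊥)
  let π : A →+* A' := Ideal.Quotient.mk _
  -- the generic points are in the free locus
  obtain ⟨J, hJ⟩ := (PrimeSpectrum.isClosed_iff_zeroLocus_ideal _).1
    ((Module.isOpen_freeLocus (R := A') (M := M)).isClosed_compl)
  have hne : ∀ p ∈ O, ¬ J.comap π ≤ p.asIdeal := by
    intro p hp hle
    have hker : nilradical A ≤ p.asIdeal := nilradical_le_prime p.asIdeal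
    let p' : Ideal A' := p.asIdeal.map π
    have hp' : p'.IsPrime := Ideal.map_isPrime_of_surjective Ideal.Quotient.mk_surjective
      (by rwa [Ideal.mk_ker])
    have hcomap : p'.comap π = p.asIdeal := by
      rw [Ideal.comap_map_of_surjective _ Ideal.Quotient.mk_surjective]
      apply sup_eq_left.2
      show Ideal.comap π ⊥ ≤ _
      rw [← RingHom.ker_eq_comap_bot, Ideal.mk_ker]
      exact hker
    have hmin' : p' ∈ minimalPrimes A' := by
      refine ⟨⟨hp', bot_le⟩, fun q hq hqp => ?_⟩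
      have := hq.1
      have h1 := hmin p hp ⟨q.comap π, Ideal.comap_isPrime π q⟩ (hcomap ▸ Ideal.comap_mono hqp)
      have h2 : q.comap π = p'.comap π := by rw [hcomap]; exact congrArg PrimeSpectrum.asIdeal h1
      exact (Ideal.comap_injective_of_surjective π Ideal.Quotient.mk_surjective h2).ge
    have : Ring.KrullDimLE 0 (Localization.AtPrime p') := .of_isLocalization _ hmin' _
    let := (Ring.KrullDimLE.isField_of_isReduced (R := Localization.AtPrime p')).toField
    have hfree : (⟨p', hp'⟩ : PrimeSpectrum A') ∈ Module.freeLocus A' M :=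
      Module.mem_freeLocus.2 (Module.Free.of_divisionRing (Localization.AtPrime p')
        (LocalizedModule p'.primeCompl M))
    have hJp : J ≤ p' := by
      intro x hx
      obtain ⟨y, rfl⟩ := Ideal.Quotient.mk_surjective x
      exact Ideal.mem_map_of_mem π (hle hx)
    have hm : (⟨p', hp'⟩ : PrimeSpectrum A') ∈ PrimeSpectrum.zeroLocus (J : Set A') := hJp
    rw [← hJ] at hm
    exact hm hfree
  obtain ⟨f, hfJ, hf⟩ : ∃ f ∈ J.comap π, ∀ p ∈ O, f ∉ p.asIdeal := by
    by_contra h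
    push Not at h
    have hsub : (J.comap π : Set A) ⊆ ⋃ p ∈ (↑hO.toFinset : Set (PrimeSpectrum A)), (p.asIdeal : Set A) :=
      fun x hx => by
        obtain ⟨p, hp, hxp⟩ := h x hx
        exact Set.mem_biUnion (by simpa using hp) hxp
    rcases O.eq_empty_or_nonempty with rfl | ⟨a, ha⟩
    · simpa using h 0 (J.comap π).zero_mem
    obtain ⟨p, hp, hle⟩ :=
      (Ideal.subset_union_prime a a fun p _ _ _ => PrimeSpectrum.isPrime p).1 hsub
    exact hne p (hO.mem_toFinset.1 hp) hle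
  refine ⟨f, hf, fun b => ?_⟩
  let fb : A' := π f
  have hsubset : (PrimeSpectrum.basicOpen fb : Set (PrimeSpectrum A')) ⊆ Module.freeLocus A' M := by
    intro p hp
    by_contra hn
    have hm : p ∈ PrimeSpectrum.zeroLocus (J : Set A') := hJ ▸ hn
    exact hp (hm hfJ)
  have hproj := Module.basicOpen_subset_freeLocus_iff.1 hsubset
  let C := Localization.Away fb
  let N := C ⊗[A] B
  have : Module.Projective C N :=
    Module.Projective.of_equiv
      ((LocalizedModule.equivTensorProduct (Submonoid.powers fb) M).trans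
        (AlgebraTensorModule.cancelBaseChange A A' C C B))
  obtain ⟨n, ⟨F⟩⟩ := exists_frame (A := C) (B := N)
  obtain ⟨⟨a', s⟩, ha⟩ := IsLocalization.surj (Submonoid.powers fb) (F.norm (1 ⊗ₜ b))
  obtain ⟨a, rfl⟩ := Ideal.Quotient.mk_surjective a'
  refine ⟨a, fun p hfp => ?_⟩
  -- the prime of `C` over `p`
  let K := p.asIdeal.ResidueField
  let ψ : A' →+* K := Ideal.Quotient.lift _ (algebraMap A K) fun x hx =>
    Ideal.algebraMap_residueField_eq_zero.2 (nilradical_le_prime p.asIdeal hx)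
  have hunit : IsUnit (ψ fb) := isUnit_iff_ne_zero.2 fun h0 =>
    hfp (Ideal.algebraMap_residueField_eq_zero.1 h0)
  let χ : C →+* K := IsLocalization.Away.lift fb hunit
  have hχ : ∀ x : A, χ (algebraMap A C x) = algebraMap A K x := fun x => by
    rw [IsScalarTower.algebraMap_apply A A' C x]
    exact IsLocalization.Away.lift_eq fb hunit _
  have hsC : IsUnit (algebraMap A' C s.1) := IsLocalization.map_units C s
  have hiff : F.norm (1 ⊗ₜ b) ∈ RingHom.ker χ ↔ a ∈ p.asIdeal := by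
    rw [← Ideal.algebraMap_residueField_eq_zero (I := p.asIdeal), ← hχ, RingHom.mem_ker,
      IsScalarTower.algebraMap_apply A A' C a]
    show _ ↔ χ (algebraMap A' C (π a)) = 0
    rw [← ha, map_mul, (hsC.map χ).mul_left_eq_zero]
  have : (RingHom.ker χ).IsPrime := RingHom.ker_isPrime χ
  have hcomap : (RingHom.ker χ).comap (algebraMap A C) = p.asIdeal := by
    ext x
    rw [Ideal.mem_comap, RingHom.mem_ker, hχ, Ideal.algebraMap_residueField_eq_zero]
  have key := F.exists_prime_iff_norm_mem (RingHom.ker χ) ((1 : C) ⊗ₜ[A] b)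
  rw [hiff] at key
  rw [← key, not_exists]
  constructor
  · intro h q hq hqp hbq
    let L := q.ResidueField
    let κ : K →+* L := Ideal.ResidueField.map p.asIdeal q (algebraMap A B) hqp.symm
    let g₁ : C →ₐ[A] L :=
      { κ.comp χ with
        commutes' := fun x => by
          show κ (χ (algebraMap A C x)) = _
          rw [hχ, IsScalarTower.algebraMap_apply A B L x]
          exact IsLocalRing.ResidueField.map_residue .. |>.trans (by
            rw [Localization.localRingHom_to_map]; rfl) }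
    let g : N →ₐ[A] L := Algebra.TensorProduct.lift g₁ (IsScalarTower.toAlgHom A B L) fun _ _ => .all _ _
    have hg : ∀ c : C, g (algebraMap C N c) = κ (χ c) := fun c => by
      show g (c ⊗ₜ[A] 1) = _
      rw [Algebra.TensorProduct.lift_tmul, map_one, mul_one]
      rfl
    refine h (RingHom.ker g) ⟨RingHom.ker_isPrime g, ?_, ?_⟩
    · ext c
      rw [Ideal.mem_comap, RingHom.mem_ker, RingHom.mem_ker, hg, map_eq_zero]
    · show g (1 ⊗ₜ[A] b) = 0
      rw [Algebra.TensorProduct.lift_tmul, map_one, one_mul]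
      exact Ideal.algebraMap_residueField_eq_zero.2 hbq
  · rintro h r ⟨hr, hrc, hbr⟩
    let ι : B →+* N := (Algebra.TensorProduct.includeRight : B →ₐ[A] N).toRingHom
    refine h (r.comap ι) (Ideal.comap_isPrime ι r) ?_ hbr
    rw [Ideal.comap_comap]
    have : ι.comp (algebraMap A B) = (algebraMap C N).comp (algebraMap A C) := by
      ext x
      simp [ι, ← IsScalarTower.algebraMap_apply A C N]
    rw [this, ← Ideal.comap_comap, hrc, hcomap]

theorem app_surjective_of_restrict {X Y : Scheme.{u}} (f : X ⟶ Y) {U : Y.Opens} (hU : IsAffineOpen U)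
    [IsClosedImmersion (f ∣_ U)] : Function.Surjective (f.app U) := by
  have : IsAffine U.toScheme := hU
  have h := (f ∣_ U).app_surjective ⊤ (isAffineOpen_top _)
  rw [morphismRestrict_app'] at h
  have key : ∀ (V : Y.Opens) (W : X.Opens) (e : W ≤ f ⁻¹ᵁ V), V = U → W = f ⁻¹ᵁ U →
      Function.Surjective (f.appLE V W e) → Function.Surjective (f.app U) := by
    rintro V W e rfl rfl h
    rwa [Scheme.Hom.app_eq_appLE]
  exact key _ _ _ (U.ι_image_top) ((f ⁻¹ᵁ U).ι_image_top) h

theorem exists_invariant_basicOpen {S : Scheme.{u}} {G : GroupoidScheme S} [IsFinite G.s]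
    [LocallyOfFinitePresentation G.s] (O : Set G.U) (hO : O.Finite)
    (horb : ∀ r : G.R, G.s r ∈ O → G.t r ∈ O) (hmax : ∀ x ∈ O, ∀ y : G.U, y ⤳ x → y = x)
    (A : Type u) [CommRing A] (j : G.U ⟶ Spec (CommRingCat.of A)) [IsImmersion j] (I : Ideal A)
    (hI : ∀ x : G.U, j x ∉ PrimeSpectrum.zeroLocus (I : Set A))
    (hcl : IsClosed (PrimeSpectrum.zeroLocus (I : Set A) ∪ Set.range j)) :
    ∃ h ∈ I, IsAffineOpen (j ⁻¹ᵁ PrimeSpectrum.basicOpen h) ∧
      O ⊆ (j ⁻¹ᵁ PrimeSpectrum.basicOpen h : G.U.Opens) ∧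
      IsInv G (j ⁻¹ᵁ PrimeSpectrum.basicOpen h) := by
  classical
  -- basic opens around `O` inside a given open
  have hbasic : ∀ W : G.U.Opens, O ⊆ W → ∃ h ∈ I, O ⊆ (j ⁻¹ᵁ PrimeSpectrum.basicOpen h : G.U.Opens) ∧
      j ⁻¹ᵁ PrimeSpectrum.basicOpen h ≤ W := by
    intro W hW
    obtain ⟨J, hJ⟩ := (PrimeSpectrum.isClosed_iff_zeroLocus_ideal _).1
      (isClosed_closure (s := j '' (W : Set G.U)ᶜ))
    have hne : ∀ x ∈ O, ¬ I ⊓ J ≤ (j x).asIdeal := fun x hx hle => by
      rcases (Ideal.IsPrime.inf_le (j x).isPrime).1 hle with h | h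
      · exact hI x h
      · have hm : j x ∈ PrimeSpectrum.zeroLocus (J : Set A) := h
        rw [← hJ] at hm
        have : x ∈ closure (W : Set G.U)ᶜ := by
          rw [j.isEmbedding.closure_eq_preimage_closure_image]; exact hm
        rw [W.isOpen.isClosed_compl.closure_eq] at this
        exact this (hW hx)
    obtain ⟨h, hh, hh'⟩ : ∃ h ∈ I ⊓ J, ∀ x ∈ O, h ∉ (j x).asIdeal := by
      by_contra h
      push Not at h
      have hsub : ((I ⊓ J : Ideal A) : Set A) ⊆ ⋃ x ∈ (↑hO.toFinset : Set _), ((j x).asIdeal : Set A) :=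
        fun f hf => by
          obtain ⟨x, hx, hfx⟩ := h f hf
          exact Set.mem_biUnion (by simpa using hx) hfx
      rcases O.eq_empty_or_nonempty with rfl | ⟨a, ha⟩
      · simpa using h 0 (I ⊓ J).zero_mem
      obtain ⟨x, hx, hle⟩ := (Ideal.subset_union_prime a a fun x _ _ _ => (j x).isPrime).1 hsub
      exact hne x (hO.mem_toFinset.1 hx) hle
    refine ⟨h, hh.1, fun x hx => hh' x hx, fun x hx => ?_⟩
    by_contra hxW
    have hm : j x ∈ closure (j '' (W : Set G.U)ᶜ) := subset_closure ⟨x, hxW, rfl⟩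
    rw [hJ] at hm
    exact hx (hm hh.2)
  -- the traces of the basic opens are affine
  have hclosed : ∀ h ∈ I, IsClosedImmersion (j ∣_ PrimeSpectrum.basicOpen h) := by
    intro h hh
    refine IsClosedImmersion.of_isPreimmersion _ ?_
    rw [show Set.range (j ∣_ PrimeSpectrum.basicOpen h) =
      Subtype.val ⁻¹' (PrimeSpectrum.zeroLocus (I : Set A) ∪ Set.range j) from ?_]
    · exact hcl.preimage continuous_subtype_val
    ext ⟨y, hy⟩
    rw [morphismRestrict_base]
    constructor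
    · rintro ⟨⟨x, hx⟩, e⟩
      exact Or.inr ⟨x, congrArg Subtype.val e⟩
    · rintro (hz | ⟨x, rfl⟩)
      · exact absurd (hz hh) hy
      · exact ⟨⟨x, hy⟩, Subtype.ext rfl⟩
  have haff : ∀ h ∈ I, IsAffineOpen (j ⁻¹ᵁ PrimeSpectrum.basicOpen h) := by
    intro h hh
    let Dh : (Spec (CommRingCat.of A)).Opens := PrimeSpectrum.basicOpen h
    have : IsAffine Dh.toScheme := IsAffineOpen.Spec_basicOpen (R := CommRingCat.of A) h
    have : IsClosedImmersion (j ∣_ Dh) := hclosed h hh
    exact isAffine_of_isAffineHom (j ∣_ Dh)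
  obtain ⟨f₀, hf₀, hO₀, -⟩ := hbasic ⊤ (Set.subset_univ O)
  set D₀ := j ⁻¹ᵁ PrimeSpectrum.basicOpen f₀
  have hD₀ : IsAffineOpen D₀ := haff f₀ hf₀
  have hB : IsAffineOpen (G.s ⁻¹ᵁ D₀) := hD₀.preimage G.s
  have h1 : (G.s.appLE D₀ (G.s ⁻¹ᵁ D₀) le_rfl).hom.Finite := by
    rw [← Scheme.Hom.app_eq_appLE]
    exact G.s.finite_app D₀ hD₀
  have h3 : (G.s.appLE D₀ (G.s ⁻¹ᵁ D₀) le_rfl).hom.FinitePresentation :=
    G.s.finitePresentation_appLE hD₀ hB le_rfl
  algebraize [(G.s.appLE D₀ (G.s ⁻¹ᵁ D₀) le_rfl).hom]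
  have : Module.Finite Γ(G.U, D₀) Γ(G.R, G.s ⁻¹ᵁ D₀) := h1
  have : Algebra.FinitePresentation Γ(G.U, D₀) Γ(G.R, G.s ⁻¹ᵁ D₀) := h3
  have : Module.FinitePresentation Γ(G.U, D₀) Γ(G.R, G.s ⁻¹ᵁ D₀) :=
    Module.FinitePresentation.of_finite_of_finitePresentation _ _
  let P : Set (PrimeSpectrum Γ(G.U, D₀)) := hD₀.fromSpec ⁻¹' O
  have hP : P.Finite := hO.preimage hD₀.fromSpec.isOpenEmbedding.injective.injOn
  obtain ⟨f₁, hf₁, hnorm⟩ := exists_norm_near_minimalPrimes (B := Γ(G.R, G.s ⁻¹ᵁ D₀)) P hP (by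
    intro p hp p' hle
    apply hD₀.fromSpec.isOpenEmbedding.injective
    exact hmax _ hp _ (((PrimeSpectrum.le_iff_specializes p' p).1 hle).map hD₀.fromSpec.continuous))
  set D₁ := G.U.basicOpen f₁
  have hOD₁ : O ⊆ D₁ := fun x hx => by
    refine (mem_basicOpen_iff_notMem hD₀ f₁ ⟨x, hO₀ hx⟩).2 (hf₁ _ ?_)
    show hD₀.fromSpec _ ∈ O
    rwa [hD₀.fromSpec_primeIdealOf]
  obtain ⟨f, hf, hOD, hDW⟩ := hbasic (invCore G D₁) fun x hx =>
    mem_invCore.2 fun r hr => hOD₁ (horb r (hr ▸ hx))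
  set D := j ⁻¹ᵁ PrimeSpectrum.basicOpen f with hDdef
  have hDD₁ : D ≤ D₁ := hDW.trans (invCore_le _)
  have hDD₀ : D ≤ D₀ := hDD₁.trans (G.U.basicOpen_le f₁)
  -- the function on `R` cutting out the arrows with target outside `D`
  let fU : Γ(G.U, ⊤) := j.app ⊤ ((Scheme.ΓSpecIso _).inv f)
  have hfU : G.U.basicOpen fU = D := by
    rw [hDdef, ← Scheme.preimage_basicOpen]
    congr 1
    exact (basicOpen_eq_of_affine' _).trans (by simp)
  let b : Γ(G.R, G.s ⁻¹ᵁ D₀) := G.R.presheaf.map (homOfLE le_top).op (G.t.app ⊤ fU)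
  have hb : ∀ r : G.R, r ∈ G.R.basicOpen b ↔ G.s r ∈ D₀ ∧ G.t r ∈ D := fun r => by
    rw [← SetLike.mem_coe, Scheme.basicOpen_res, ← Scheme.preimage_basicOpen, hfU]
    exact Iff.rfl
  obtain ⟨a, ha⟩ := hnorm b
  have haw : ∀ w : G.U, w ∈ D → (w ∈ G.U.basicOpen a ↔ w ∈ invCore G D) := by
    intro w hw
    rw [mem_invCore, mem_basicOpen_iff_notMem hD₀ a ⟨w, hDD₀ hw⟩,
      ha _ ((mem_basicOpen_iff_notMem hD₀ f₁ ⟨w, hDD₀ hw⟩).1 (hDD₁ hw))]
    constructor
    · intro h r hr
      have hrB : r ∈ G.s ⁻¹ᵁ D₀ := by show G.s r ∈ D₀; rw [hr]; exact hDD₀ hw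
      subst hr
      have := h _ (hB.primeIdealOf ⟨r, hrB⟩).isPrime (congrArg PrimeSpectrum.asIdeal
        (IsAffineOpen.comap_primeIdealOf_appLE D₀ hD₀ (G.s ⁻¹ᵁ D₀) hB le_rfl hrB))
      exact ((hb r).1 ((mem_basicOpen_iff_notMem hB b ⟨r, hrB⟩).2 this)).2
    · intro h q hq hqw
      let r : G.R := hB.fromSpec ⟨q, hq⟩
      have hrB : r ∈ G.s ⁻¹ᵁ D₀ := hB.range_fromSpec.le ⟨_, rfl⟩
      have hQ : hB.primeIdealOf ⟨r, hrB⟩ = ⟨q, hq⟩ :=
        hB.fromSpec.isOpenEmbedding.injective (by rw [hB.fromSpec_primeIdealOf])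
      have hsr : G.s r = w := by
        have := IsAffineOpen.comap_primeIdealOf_appLE D₀ hD₀ (G.s ⁻¹ᵁ D₀) hB le_rfl hrB
        rw [hQ] at this
        have e : hD₀.primeIdealOf ⟨w, hDD₀ hw⟩ = hD₀.primeIdealOf ⟨G.s r, hrB⟩ := by
          rw [← this]
          exact PrimeSpectrum.ext hqw.symm
        have := congrArg hD₀.fromSpec e
        rw [hD₀.fromSpec_primeIdealOf, hD₀.fromSpec_primeIdealOf] at this
        exact this.symm
      have := (mem_basicOpen_iff_notMem hB b ⟨r, hrB⟩).1 ((hb r).2 ⟨hrB, h r hsr⟩)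
      rwa [hQ] at this
  -- lift `a` to `Spec A`
  have := hclosed f hf
  obtain ⟨c₀, hc₀⟩ := app_surjective_of_restrict j
    (IsAffineOpen.Spec_basicOpen (R := CommRingCat.of A) f) (G.U.presheaf.map (homOfLE hDD₀).op a)
  let : Algebra A Γ(Spec (CommRingCat.of A), PrimeSpectrum.basicOpen f) :=
    StructureSheaf.openAlgebra A (Opposite.op (PrimeSpectrum.basicOpen f))
  have : IsLocalization.Away f Γ(Spec (CommRingCat.of A), PrimeSpectrum.basicOpen f) :=
    StructureSheaf.IsLocalization.to_basicOpen A f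
  obtain ⟨⟨c, s⟩, hcs⟩ := IsLocalization.surj (Submonoid.powers f) c₀
  have hW : j ⁻¹ᵁ PrimeSpectrum.basicOpen (f * c) = invCore G D := by
    have h1 : (Spec (CommRingCat.of A)).basicOpen c₀ = PrimeSpectrum.basicOpen (f * c) := by
      have hu : IsUnit (algebraMap A Γ(Spec (CommRingCat.of A), PrimeSpectrum.basicOpen f) s.1) :=
        IsLocalization.map_units _ s
      have h2 : (Spec (CommRingCat.of A)).basicOpen (c₀ * algebraMap A _ s.1) =
          (Spec (CommRingCat.of A)).basicOpen c₀ := by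
        rw [Scheme.basicOpen_mul, Scheme.basicOpen_of_isUnit _ hu]
        exact inf_eq_left.2 (Scheme.basicOpen_le _ _)
      rw [← h2, hcs, PrimeSpectrum.basicOpen_mul]
      rw [← basicOpen_eq_of_affine (R := CommRingCat.of A) c]
      have e : algebraMap A Γ(Spec (CommRingCat.of A), PrimeSpectrum.basicOpen f) c =
          (Spec (CommRingCat.of A)).presheaf.map
            (homOfLE (le_top : (PrimeSpectrum.basicOpen f : (Spec (CommRingCat.of A)).Opens) ≤ ⊤)).op
            ((Scheme.ΓSpecIso (CommRingCat.of A)).inv c) := rfl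
      show (Spec (CommRingCat.of A)).basicOpen (algebraMap A _ c) = _
      rw [e]
      exact Scheme.basicOpen_res _ _ _
    rw [← h1, Scheme.preimage_basicOpen, hc₀, Scheme.basicOpen_res]
    ext w
    exact ⟨fun h => (haw w h.1).1 h.2, fun h => ⟨invCore_le D h, (haw w (invCore_le D h)).2 h⟩⟩
  refine ⟨f * c, I.mul_mem_right c hf, haff _ (I.mul_mem_right c hf), ?_, ?_⟩
  · rw [hW]
    exact fun x hx => mem_invCore.2 fun r hr => hOD (horb r (hr ▸ hx))
  · rw [hW]
    exact isInv_invCore D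

end Groth.Agent.GrpdLib
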