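import Groth.Agent.GrpdLib.InvOpen
import Groth.Agent.GrpdLib.AffLocQuot
import Groth.Agent.GrpdLib.Quot

/-!
# Restricting a groupoid to an invariant open
-/

set_option backward.isDefEq.respectTransparency false
set_option backward.isDefEq.respectTransparency.types false

universe u

open CategoryTheory CategoryTheory.Limits AlgebraicGeometry Grpd

noncomputable section

namespace Groth.Agent.GrpdLib

variable {S : Scheme.{u}} (G : GroupoidScheme S) (W : G.U.Opens) (hW : IsInv G W)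

/-- The source map over an open. -/
abbrev resS : (G.s ⁻¹ᵁ W).toScheme ⟶ W.toScheme := G.s ∣_ W

/-- The target map over an invariant open. -/
abbrev resT : (G.s ⁻¹ᵁ W).toScheme ⟶ W.toScheme := G.t.resLE W (G.s ⁻¹ᵁ W) hW.le

theorem resS_ι : resS G W ≫ W.ι = (G.s ⁻¹ᵁ W).ι ≫ G.s := morphismRestrict_ι _ _

theorem resT_ι : resT G W hW ≫ W.ι = (G.s ⁻¹ᵁ W).ι ≫ G.t := Scheme.Hom.resLE_comp_ι ..

theorem eq_comp_ι {T : Scheme.{u}} {α β : T ⟶ (G.s ⁻¹ᵁ W).toScheme} (h : α ≫ resS G W = β ≫ resT G W hW) :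
    (α ≫ (G.s ⁻¹ᵁ W).ι) ≫ G.s = (β ≫ (G.s ⁻¹ᵁ W).ι) ≫ G.t := by
  rw [Category.assoc, Category.assoc, ← resS_ι, ← resT_ι G W hW, reassoc_of% h]

/-- The identity over an invariant open. -/
def resE : W.toScheme ⟶ (G.s ⁻¹ᵁ W).toScheme :=
  IsOpenImmersion.lift (G.s ⁻¹ᵁ W).ι (W.ι ≫ G.e) (by
    rintro _ ⟨z, rfl⟩
    rw [Scheme.Opens.range_ι]
    show G.s ((W.ι ≫ G.e) z) ∈ W
    rw [← Scheme.Hom.comp_apply, Category.assoc, G.e_s, Category.comp_id]
    exact z.2)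

theorem resE_ι : resE G W ≫ (G.s ⁻¹ᵁ W).ι = W.ι ≫ G.e := IsOpenImmersion.lift_fac ..

/-- The inverse over an invariant open. -/
def resI : (G.s ⁻¹ᵁ W).toScheme ⟶ (G.s ⁻¹ᵁ W).toScheme :=
  IsOpenImmersion.lift (G.s ⁻¹ᵁ W).ι ((G.s ⁻¹ᵁ W).ι ≫ G.i) (by
    rintro _ ⟨z, rfl⟩
    rw [Scheme.Opens.range_ι]
    show G.s (((G.s ⁻¹ᵁ W).ι ≫ G.i) z) ∈ W
    rw [← Scheme.Hom.comp_apply, Category.assoc, G.i_s, Scheme.Hom.comp_apply]
    exact hW.le z.2)

theorem resI_ι : resI G W hW ≫ (G.s ⁻¹ᵁ W).ι = (G.s ⁻¹ᵁ W).ι ≫ G.i := IsOpenImmersion.lift_fac ..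

/-- The composition over an invariant open. -/
def resC : pullback (resS G W) (resT G W hW) ⟶ (G.s ⁻¹ᵁ W).toScheme :=
  IsOpenImmersion.lift (G.s ⁻¹ᵁ W).ι
    (pullback.lift (pullback.fst (resS G W) (resT G W hW) ≫ (G.s ⁻¹ᵁ W).ι)
      (pullback.snd (resS G W) (resT G W hW) ≫ (G.s ⁻¹ᵁ W).ι) (eq_comp_ι G W hW pullback.condition) ≫ G.c) (by
    rintro _ ⟨z, rfl⟩
    rw [Scheme.Opens.range_ι]
    show G.s ((_ ≫ G.c) z) ∈ W
    rw [← Scheme.Hom.comp_apply, G.comp_s, Category.assoc, ← resS_ι, ← Category.assoc, Scheme.Hom.comp_apply]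
    exact ((pullback.snd (resS G W) (resT G W hW) ≫ resS G W) z).2)

theorem lift_resC_ι {T : Scheme.{u}} (α β : T ⟶ (G.s ⁻¹ᵁ W).toScheme) (h : α ≫ resS G W = β ≫ resT G W hW) :
    (pullback.lift α β h ≫ resC G W hW) ≫ (G.s ⁻¹ᵁ W).ι =
      pullback.lift (α ≫ (G.s ⁻¹ᵁ W).ι) (β ≫ (G.s ⁻¹ᵁ W).ι) (eq_comp_ι G W hW h) ≫ G.c := by
  rw [Category.assoc, resC, IsOpenImmersion.lift_fac, ← Category.assoc]
  congr 1
  apply pullback.hom_ext <;> simp

theorem lift_c_congr {T : Scheme.{u}} {α α' β β' : T ⟶ G.R} (h : α ≫ G.s = β ≫ G.t)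
    (ha : α = α') (hb : β = β') :
    pullback.lift α β h ≫ G.c = pullback.lift α' β' (ha ▸ hb ▸ h) ≫ G.c := by
  subst ha hb
  rfl

/-- The groupoid restricted to an invariant open. -/
def restrict : GroupoidScheme S where
  U := W.toScheme
  R := (G.s ⁻¹ᵁ W).toScheme
  pU := W.ι ≫ G.pU
  pR := (G.s ⁻¹ᵁ W).ι ≫ G.pR
  s := resS G W
  t := resT G W hW
  e := resE G W
  i := resI G W hW
  c := resC G W hW
  s_over := by rw [reassoc_of% (resS_ι G W), G.s_over]
  t_over := by rw [reassoc_of% (resT_ι G W hW), G.t_over]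
  comp_s α β h := by
    rw [← cancel_mono W.ι, Category.assoc, Category.assoc _ _ W.ι, resS_ι, ← Category.assoc, lift_resC_ι, G.comp_s,
      Category.assoc]
  comp_t α β h := by
    rw [← cancel_mono W.ι, Category.assoc, Category.assoc _ _ W.ι, resT_ι, ← Category.assoc, lift_resC_ι, G.comp_t,
      Category.assoc]
  assoc α β γ h₁ h₂ := by
    rw [← cancel_mono (G.s ⁻¹ᵁ W).ι]
    refine (lift_resC_ι G W hW _ _ _).trans (Eq.trans ?_ (lift_resC_ι G W hW _ _ _).symm)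
    refine (lift_c_congr G _ (lift_resC_ι G W hW α β h₁) rfl).trans (Eq.trans ?_
      (lift_c_congr G _ rfl (lift_resC_ι G W hW β γ h₂)).symm)
    exact G.assoc _ _ _ _ _
  e_s := by rw [← cancel_mono W.ι, Category.assoc, resS_ι, reassoc_of% (resE_ι G W), G.e_s, Category.comp_id,
      Category.id_comp]
  e_t := by rw [← cancel_mono W.ι, Category.assoc, resT_ι, reassoc_of% (resE_ι G W), G.e_t, Category.comp_id,
      Category.id_comp]
  comp_e α := by
    rw [← cancel_mono (G.s ⁻¹ᵁ W).ι, lift_resC_ι]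
    refine (lift_c_congr G _ rfl ?_).trans (G.comp_e (α ≫ (G.s ⁻¹ᵁ W).ι))
    rw [Category.assoc, Category.assoc, resE_ι, reassoc_of% (resS_ι G W), Category.assoc]
  e_comp α := by
    rw [← cancel_mono (G.s ⁻¹ᵁ W).ι, lift_resC_ι]
    refine (lift_c_congr G _ ?_ rfl).trans (G.e_comp (α ≫ (G.s ⁻¹ᵁ W).ι))
    rw [Category.assoc, Category.assoc, resE_ι, reassoc_of% (resT_ι G W hW), Category.assoc]
  i_s := by rw [← cancel_mono W.ι, Category.assoc, resS_ι, reassoc_of% (resI_ι G W hW), G.i_s, resT_ι]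
  i_t := by rw [← cancel_mono W.ι, Category.assoc, resT_ι, reassoc_of% (resI_ι G W hW), G.i_t, resS_ι]
  comp_i α := by
    rw [← cancel_mono (G.s ⁻¹ᵁ W).ι, lift_resC_ι]
    refine (lift_c_congr G _ rfl ?_).trans ((G.comp_i (α ≫ (G.s ⁻¹ᵁ W).ι)).trans ?_)
    · rw [Category.assoc, resI_ι, Category.assoc]
    · simp only [Category.assoc, resE_ι, reassoc_of% (resT_ι G W hW)]
  i_comp α := by
    rw [← cancel_mono (G.s ⁻¹ᵁ W).ι, lift_resC_ι]
    refine (lift_c_congr G _ ?_ rfl).trans ((G.i_comp (α ≫ (G.s ⁻¹ᵁ W).ι)).trans ?_)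
    · rw [Category.assoc, resI_ι, Category.assoc]
    · simp only [Category.assoc, resE_ι, reassoc_of% (resS_ι G W)]

theorem mono_j_restrict [Mono G.j] : Mono (restrict G W hW).j := by
  refine ⟨fun {T} r r' h => ?_⟩
  have h₁ := congrArg (fun φ => φ ≫ pullback.fst _ _ ≫ W.ι) h
  have h₂ := congrArg (fun φ => φ ≫ pullback.snd _ _ ≫ W.ι) h
  simp only [GroupoidScheme.j, Category.assoc, pullback.lift_fst_assoc, pullback.lift_snd_assoc] at h₁ h₂
  rw [show (restrict G W hW).t = resT G W hW from rfl, resT_ι] at h₁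
  rw [show (restrict G W hW).s = resS G W from rfl, resS_ι] at h₂
  refine (cancel_mono (G.s ⁻¹ᵁ W).ι).1 ((cancel_mono G.j).1 (pullback.hom_ext ?_ ?_))
  · simp only [GroupoidScheme.j, Category.assoc, pullback.lift_fst]
    exact h₁
  · simp only [GroupoidScheme.j, Category.assoc, pullback.lift_snd]
    exact h₂

variable [IsFinite G.s] [Flat G.s] [LocallyOfFinitePresentation G.s]

theorem isFinite_restrict_s : IsFinite (restrict G W hW).s := IsZariskiLocalAtTarget.restrict ‹_› W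

theorem flat_restrict_s : Flat (restrict G W hW).s := IsZariskiLocalAtTarget.restrict ‹_› W

theorem lfp_restrict_s : LocallyOfFinitePresentation (restrict G W hW).s := IsZariskiLocalAtTarget.restrict ‹_› W

end Groth.Agent.GrpdLib
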