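import Groth.Agent.GrpdLib.FitStrat
import Groth.Agent.DescLib.IdealDescent
import Groth.Agent.GrpdLib.Restrict
import Groth.Agent.GrpdLib.InvGeneric
import Groth.Agent.GenNhd.Basic

/-!
# Invariant thickening with finite locally free restriction
-/

set_option backward.isDefEq.respectTransparency false
set_option backward.isDefEq.respectTransparency.types false
set_option linter.style.haveILetI false
set_option linter.style.longLine false
set_option autoImplicit false

universe u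

open CategoryTheory CategoryTheory.Limits AlgebraicGeometry TopologicalSpace Grpd

namespace Groth.Agent.GrpdLib

/-- Ideal sheaves glue along a cover by disjoint opens. -/
theorem exists_glue_of_disjoint {X : Scheme.{u}} {κ : Type} (V : κ → X.Opens)
    (hd : ∀ k l, k ≠ l → Disjoint (V k) (V l)) (hc : iSup V = ⊤) (I : κ → X.IdealSheafData) :
    ∃ J : X.IdealSheafData, ∀ k, J.comap (V k).ι = (I k).comap (V k).ι := by
  classical
  let C : κ → X.Opens := fun k => ⨆ l : {l // l ≠ k}, V l.1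
  have hCk : ∀ k x, x ∈ V k → x ∉ C k := fun k x hx hxC => by
    obtain ⟨l, hl⟩ := Opens.mem_iSup.1 hxC
    exact (hd k l.1 (Ne.symm l.2)).le_bot (Opens.mem_inf.2 ⟨hx, hl⟩)
  have hclosed : ∀ k, IsClosed (C k : Set X) := fun k => by
    have h : (C k : Set X) = (V k : Set X)ᶜ := by
      ext x
      refine ⟨fun hC hV => hCk k x hV hC, fun hV => ?_⟩
      obtain ⟨l, hl⟩ := Opens.mem_iSup.1 (show x ∈ iSup V by rw [hc]; trivial)
      exact Opens.mem_iSup.2 ⟨⟨l, fun e => hV (by rw [← e]; exact hl)⟩, hl⟩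
    rw [h]
    exact (V k).isOpen.isClosed_compl
  haveI : ∀ k, IsClosedImmersion (C k).ι := fun k =>
    IsClosedImmersion.of_isPreimmersion _ (by rw [Scheme.Opens.range_ι]; exact hclosed k)
  refine ⟨⨆ r, I r * (C r).ι.ker, fun k => ?_⟩
  have hsup : (⨆ r, I r * (C r).ι.ker).comap (V k).ι = ⨆ r, (I r * (C r).ι.ker).comap (V k).ι :=
    (Scheme.IdealSheafData.map_gc (V k).ι).l_iSup
  rw [hsup]
  have hself : ((C k).ι.ker).comap (V k).ι = ⊤ := by
    rw [← Scheme.IdealSheafData.support_eq_bot_iff, Scheme.IdealSheafData.support_comap, eq_bot_iff]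
    intro x hx
    have hx' : (V k).ι x ∈ ((C k).ι.ker).support := hx
    have h2 : (V k).ι x ∈ closure (Set.range (C k).ι) := by
      rw [← Scheme.Hom.support_ker]; exact hx'
    rw [Scheme.Opens.range_ι, (hclosed k).closure_eq] at h2
    exact (hCk k _ x.2 h2).elim
  have hne : ∀ r, r ≠ k → ((C r).ι.ker).comap (V k).ι = ⊥ := fun r hr => by
    have hle : V k ≤ C r := le_iSup (fun l : {l // l ≠ r} => V l.1) ⟨k, Ne.symm hr⟩
    rw [← X.homOfLE_ι hle, Scheme.IdealSheafData.comap_comp, eq_bot_iff]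
    have h0 : ((C r).ι.ker).comap (C r).ι ≤ ⊥ := by
      rw [← Scheme.IdealSheafData.le_map_iff_comap_le, Scheme.IdealSheafData.map_bot]
    exact (Scheme.IdealSheafData.comap_mono _ h0).trans (Scheme.IdealSheafData.comap_bot _).le
  refine le_antisymm (iSup_le fun r => ?_) ?_
  · rw [ModPairLib.ideal_comap_mul]
    by_cases hr : r = k
    · subst hr
      rw [hself, mul_comm, Scheme.IdealSheafData.top_mul]
    · rw [hne r hr, mul_comm, Scheme.IdealSheafData.bot_mul]
      exact bot_le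
  · refine le_iSup_of_le k ?_
    rw [ModPairLib.ideal_comap_mul, hself, mul_comm, Scheme.IdealSheafData.top_mul]

variable {S : Scheme.{u}} (G : GroupoidScheme S) [IsFinite G.s]

/-- The interior of a stratum. -/
noncomputable def stratumOpen (r : ℕ) : G.U.Opens := ⟨interior (stratum G r), isOpen_interior⟩

theorem mem_iSup_stratumOpen_of_generic [LocallyOfFinitePresentation G.s] {x : G.U}
    (hx : ∀ y : G.U, y ⤳ x → y = x) : x ∈ ⨆ r, stratumOpen G r := by
  obtain ⟨r, hr⟩ := exists_mem_stratum G x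
  refine Opens.mem_iSup.2 ⟨r, ?_⟩
  show x ∈ interior (((fitMor G.s r).support : Set G.U) ∩ ((fitMor G.s (r + 1)).support : Set G.U)ᶜ)
  rw [interior_inter]
  exact ⟨mem_interior_support_of_generic _ (fitMor_isFiniteTypeIdeal G.s r) hx hr.1,
    mem_interior_iff_mem_nhds.2 ((fitMor G.s (r + 1)).support.isClosed.isOpen_compl.mem_nhds hr.2)⟩

/-- An invariant open inside the open strata carries an invariant thickening. -/
theorem exists_thickening_on [IsFinite G.t] (W : G.U.Opens) (hWle : W ≤ ⨆ r, stratumOpen G r)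
    (hWinv : G.s ⁻¹ᵁ W = G.t ⁻¹ᵁ W) :
    ∃ W' : (↑W : Scheme.{u}).IdealSheafData, W'.support = ⊤ ∧
      (∃ φ : pullback G.s (W'.subschemeι ≫ W.ι) ≅ pullback G.t (W'.subschemeι ≫ W.ι),
        φ.hom ≫ pullback.fst G.t (W'.subschemeι ≫ W.ι) = pullback.fst G.s (W'.subschemeι ≫ W.ι)) ∧
      Mor2.IsFinLocFree (pullback.snd G.s (W'.subschemeι ≫ W.ι)) ∧
      Mor2.IsFinLocFree (pullback.snd G.t (W'.subschemeι ≫ W.ι)) ∧
      (LocallyOfFinitePresentation G.s → LocallyOfFinitePresentation W'.subschemeι) := by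
  classical
  let O := stratumOpen G
  -- the ideal
  let V : ℕ → (W : Scheme.{u}).Opens := fun r => W.ι ⁻¹ᵁ O r
  have hVd : ∀ k l, k ≠ l → Disjoint (V k) (V l) := fun k l hkl => by
    rw [disjoint_iff_inf_le]
    intro x hx
    exact (hkl (stratum_eq G (interior_subset hx.1) (interior_subset hx.2))).elim
  have hVc : iSup V = ⊤ := top_le_iff.1 fun x _ => by
    obtain ⟨r, hr⟩ := Opens.mem_iSup.1 (hWle x.2)
    exact Opens.mem_iSup.2 ⟨r, hr⟩
  obtain ⟨J, hJ⟩ := exists_glue_of_disjoint V hVd hVc (fun r => (fitMor G.s r).comap W.ι)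
  have hVmem : ∀ x : (W : Scheme.{u}), ∃ r, x ∈ V r := fun x =>
    Opens.mem_iSup.1 (show x ∈ iSup V by rw [hVc]; trivial)
  have hsupp : J.support = ⊤ := by
    refine SetLike.coe_injective (Set.eq_univ_of_forall fun x => ?_)
    obtain ⟨r, hr⟩ := hVmem x
    have h : (⟨x, hr⟩ : V r) ∈ (((fitMor G.s r).comap W.ι).comap (V r).ι).support := by
      rw [Scheme.IdealSheafData.support_comap, Scheme.IdealSheafData.support_comap]
      exact (interior_subset hr).1
    rw [← hJ r, Scheme.IdealSheafData.support_comap] at h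
    exact h
  have hfg : LocallyOfFinitePresentation G.s → MorLib.IdealFG.IsFG J := fun hlfp U => MorLib.IdealFG.fg_of_cover J U fun x _ => by
    obtain ⟨r, hr⟩ := hVmem x
    obtain ⟨U', hU', hxU', hle⟩ := exists_isAffineOpen_mem_and_subset (x := x) (U := V r) hr
    refine ⟨⟨U', hU'⟩, hxU', ?_⟩
    rw [MorLib.IdealFG.eq_of_comap_eq (hJ r) (U := ⟨U', hU'⟩) hle]
    exact MorLib.IdealFG.isFG_comap (fitMor_isFiniteTypeIdeal G.s r) W.ι _
  -- invariance
  have hs' : G.s ⁻¹ᵁ W ≤ G.s ⁻¹ᵁ W := le_rfl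
  have ht' : G.s ⁻¹ᵁ W ≤ G.t ⁻¹ᵁ W := hWinv.le
  let RW := G.s ⁻¹ᵁ W
  let s' : (RW : Scheme.{u}) ⟶ W := G.s ∣_ W
  let t' : (RW : Scheme.{u}) ⟶ W := G.R.homOfLE ht' ≫ (G.t ∣_ W)
  have hs'ι : s' ≫ W.ι = RW.ι ≫ G.s := morphismRestrict_ι _ _
  have ht'ι : t' ≫ W.ι = RW.ι ≫ G.t := by
    rw [Category.assoc, morphismRestrict_ι, Scheme.homOfLE_ι_assoc]
  have hVs : ∀ r (a : RW), s' a ∈ V r → t' a ∈ V r := by
    intro r a ha
    obtain ⟨r', hr'⟩ := hVmem (t' a)
    have h1 : G.s a.1 ∈ stratum G r := by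
      have := interior_subset (ha : W.ι (s' a) ∈ O r)
      rwa [← Scheme.Hom.comp_apply, hs'ι, Scheme.Hom.comp_apply] at this
    have h2 : G.t a.1 ∈ stratum G r' := by
      have := interior_subset (hr' : W.ι (t' a) ∈ O r')
      rwa [← Scheme.Hom.comp_apply, ht'ι, Scheme.Hom.comp_apply] at this
    obtain rfl := stratum_eq G ((stratum_invariant G r a.1).1 h1) h2
    exact hr'
  have hJinv : J.comap s' = J.comap t' := by
    have hcov : TopologicalSpace.IsOpenCover (fun r : ULift.{u} ℕ => s' ⁻¹ᵁ V r.down) := by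
      refine TopologicalSpace.IsOpenCover.mk (top_le_iff.1 fun a _ => ?_)
      obtain ⟨r, hr⟩ := hVmem (s' a)
      exact Opens.mem_iSup.2 ⟨⟨r⟩, hr⟩
    let 𝒰 : (RW : Scheme.{u}).OpenCover := (RW : Scheme.{u}).openCoverOfIsOpenCover _ hcov
    refine DescLib.eq_of_cover 𝒰 fun ⟨r⟩ => ?_
    show (J.comap s').comap (s' ⁻¹ᵁ V r).ι = (J.comap t').comap (s' ⁻¹ᵁ V r).ι
    rw [← Scheme.IdealSheafData.comap_comp, ← Scheme.IdealSheafData.comap_comp]
    have hr1 : Set.range ((s' ⁻¹ᵁ V r).ι ≫ s') ⊆ Set.range (V r).ι := by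
      rw [Scheme.Opens.range_ι]; rintro _ ⟨a, rfl⟩; exact a.2
    have hr2 : Set.range ((s' ⁻¹ᵁ V r).ι ≫ t') ⊆ Set.range (V r).ι := by
      rw [Scheme.Opens.range_ι]; rintro _ ⟨a, rfl⟩; exact hVs r a.1 a.2
    have key : ∀ {P : Scheme.{u}} (m : P ⟶ W), Set.range m ⊆ Set.range (V r).ι →
        J.comap m = (fitMor G.s r).comap (m ≫ W.ι) := by
      intro P m hm
      conv_lhs => rw [← IsOpenImmersion.lift_fac (V r).ι m hm, Scheme.IdealSheafData.comap_comp, hJ r]
      rw [← Scheme.IdealSheafData.comap_comp, IsOpenImmersion.lift_fac, ← Scheme.IdealSheafData.comap_comp]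
    rw [key _ hr1, key _ hr2, Category.assoc, Category.assoc, hs'ι, ht'ι, ← Category.assoc,
      ← Category.assoc, Scheme.IdealSheafData.comap_comp, Scheme.IdealSheafData.comap_comp _ _ G.t,
      fitMor_comap_s_eq_t G r]
  -- identification of the two pullbacks
  have hsq_s : IsPullback RW.ι s' G.s W.ι := (isPullback_morphismRestrict G.s W).flip
  have hsq_t : IsPullback RW.ι t' G.t W.ι := by
    refine (isPullback_morphismRestrict G.t W).flip.of_iso (G.R.isoOfEq hWinv.symm) (Iso.refl _)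
      (Iso.refl _) (Iso.refl _) ?_ ?_ (by simp) (by simp)
    · simp [RW]
    · rw [← cancel_mono W.ι]
      simp [t', morphismRestrict_ι, RW]
  have hK : ∀ (q : (RW : Scheme.{u}) ⟶ W) (w : G.R ⟶ G.U), IsPullback RW.ι q w W.ι →
      IsPullback ((J.comap q).subschemeι ≫ RW.ι) ((J.comapIso q).hom ≫ pullback.snd q J.subschemeι) w
        (J.subschemeι ≫ W.ι) := by
    intro q w hq
    have h1 : IsPullback (J.comap q).subschemeι ((J.comapIso q).hom ≫ pullback.snd q J.subschemeι) q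
        J.subschemeι :=
      (IsPullback.of_hasPullback q J.subschemeι).of_iso (J.comapIso q).symm (Iso.refl _) (Iso.refl _)
        (Iso.refl _) (by simp [← Scheme.IdealSheafData.comapIso_hom_fst])
        (by simp only [Iso.refl_hom, Category.comp_id, Iso.symm_hom, Iso.inv_hom_id_assoc]) (by simp) (by simp)
    exact h1.paste_horiz hq
  have hφ : ∃ φ : pullback G.s (J.subschemeι ≫ W.ι) ≅ pullback G.t (J.subschemeι ≫ W.ι),
      φ.hom ≫ pullback.fst G.t (J.subschemeι ≫ W.ι) = pullback.fst G.s (J.subschemeι ≫ W.ι) := by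
    have key : ∀ {A B : (RW : Scheme.{u}).IdealSheafData} (h : A = B),
        (eqToIso (congrArg Scheme.IdealSheafData.subscheme h)).hom ≫ B.subschemeι = A.subschemeι := by
      rintro A _ rfl; simp
    refine ⟨(hK s' G.s hsq_s).isoPullback.symm ≪≫
      eqToIso (congrArg Scheme.IdealSheafData.subscheme hJinv) ≪≫ (hK t' G.t hsq_t).isoPullback, ?_⟩
    simp only [Iso.trans_hom, Category.assoc, Iso.symm_hom, IsPullback.isoPullback_hom_fst]
    rw [reassoc_of% (key hJinv), IsPullback.isoPullback_inv_fst]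
  -- finite locally free
  have hflf : ∀ {P : Scheme.{u}} (g' : P ⟶ G.R) (q : P ⟶ J.subscheme),
      IsPullback g' q G.s (J.subschemeι ≫ W.ι) → Mor2.IsFinLocFree q := by
    intro P g' q hq
    haveI : IsFinite q := MorphismProperty.of_isPullback hq inferInstance
    have hloc : ∀ r, Mor2.IsFinLocFree (q ∣_ (J.subschemeι ⁻¹ᵁ V r)) := fun r => by
      refine (isFinLocFreeOfDeg_of_stratum G
        ((isPullback_morphismRestrict q (J.subschemeι ⁻¹ᵁ V r)).flip.paste_horiz hq) r (fun x => ?_) ?_).1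
      · exact (interior_subset (x.2 : W.ι (J.subschemeι x.1) ∈ O r)).2
      · have hr : Set.range ((J.subschemeι ⁻¹ᵁ V r).ι ≫ J.subschemeι) ⊆ Set.range (V r).ι := by
          rw [Scheme.Opens.range_ι]; rintro _ ⟨a, rfl⟩; exact a.2
        rw [← Category.assoc, Scheme.IdealSheafData.comap_comp, ← IsOpenImmersion.lift_fac (V r).ι _ hr,
          Scheme.IdealSheafData.comap_comp, ← hJ r, ← Scheme.IdealSheafData.comap_comp,
          IsOpenImmersion.lift_fac, Scheme.IdealSheafData.comap_comp, comap_subschemeι_self,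
          Scheme.IdealSheafData.comap_bot]
    have hcov : iSup (fun r : ℕ => J.subschemeι ⁻¹ᵁ V r) = ⊤ := top_le_iff.1 fun x _ => by
      obtain ⟨r, hr⟩ := hVmem (J.subschemeι x)
      exact Opens.mem_iSup.2 ⟨r, hr⟩
    exact ⟨inferInstance, IsZariskiLocalAtTarget.of_iSup_eq_top (P := @Flat) _ hcov fun r => (hloc r).2.1,
      IsZariskiLocalAtTarget.of_iSup_eq_top (P := @LocallyOfFinitePresentation) _ hcov fun r => (hloc r).2.2⟩
  refine ⟨J, hsupp, hφ, hflf _ _ (IsPullback.of_hasPullback _ _), ?_,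
    fun h => MorLib.IdealFG.lfp_subschemeι (hfg h)⟩
  have h := (IsPullback.of_hasPullback G.t (J.subschemeι ≫ W.ι)).paste_horiz (isPullback_i_s G)
  rw [Category.comp_id] at h
  exact hflf _ _ h

theorem exists_invariant_thickening [IsFinite G.t] :
    ∃ (W : G.U.Opens) (W' : (↑W : Scheme.{u}).IdealSheafData), G.s ⁻¹ᵁ W = G.t ⁻¹ᵁ W ∧ W'.support = ⊤ ∧
      (∃ φ : pullback G.s (W'.subschemeι ≫ W.ι) ≅ pullback G.t (W'.subschemeι ≫ W.ι),
        φ.hom ≫ pullback.fst G.t (W'.subschemeι ≫ W.ι) = pullback.fst G.s (W'.subschemeι ≫ W.ι)) ∧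
      (∀ u : G.U, ∃ r : G.R, G.t r = u ∧ G.s r ∈ closure (W : Set G.U)) ∧
      Mor2.IsFinLocFree (pullback.snd G.s (W'.subschemeι ≫ W.ι)) ∧
      Mor2.IsFinLocFree (pullback.snd G.t (W'.subschemeι ≫ W.ι)) ∧
      (LocallyOfFinitePresentation G.s → LocallyOfFinitePresentation W'.subschemeι ∧
      ∀ u : G.U, (∀ r : G.R, G.s r = u → ∀ x : G.U, x ⤳ G.t r → x = G.t r) → u ∈ W) := by
  classical
  let O := stratumOpen G
  let C : Set G.U := ((⨆ r, O r : G.U.Opens) : Set G.U)ᶜ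
  have hC : IsClosed C := (⨆ r, O r).isOpen.isClosed_compl
  let sat : Set G.U := G.t '' (G.s ⁻¹' C)
  have hsat : IsClosed sat := G.t.isClosedMap _ (hC.preimage G.s.continuous)
  let W : G.U.Opens := ⟨satᶜ, hsat.isOpen_compl⟩
  have hWle : W ≤ ⨆ r, O r := fun x hx => by
    by_contra hn
    exact hx (mem_saturation_self G (show x ∈ C from hn))
  have hWinv : G.s ⁻¹ᵁ W = G.t ⁻¹ᵁ W := by
    ext a
    exact not_congr (mem_saturation_iff G C a)
  have hgen : LocallyOfFinitePresentation G.s → ∀ u : G.U, (∀ r : G.R, G.s r = u → ∀ x : G.U, x ⤳ G.t r → x = G.t r) → u ∈ W := by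
    intro hlfp u hu ⟨r, hrC, hru⟩
    have h1 : G.s (G.i r) = u := by rw [← Scheme.Hom.comp_apply, G.i_s]; exact hru
    have h2 := hu (G.i r) h1
    have h3 : G.t (G.i r) = G.s r := by rw [← Scheme.Hom.comp_apply, G.i_t]
    rw [h3] at h2
    exact hrC (mem_iSup_stratumOpen_of_generic G h2)
  have hdense : ∀ u : G.U, ∃ r : G.R, G.t r = u ∧ G.s r ∈ closure (W : Set G.U) := by
    let K : Set G.U := G.t '' (G.s ⁻¹' closure (W : Set G.U))
    suffices hK : ∀ u, u ∈ K by
      intro u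
      obtain ⟨r, hr, hru⟩ := hK u
      exact ⟨r, hru, hr⟩
    by_contra hne
    push Not at hne
    obtain ⟨u₀, hu₀⟩ := hne
    have hKc : IsClosed K := G.t.isClosedMap _ (isClosed_closure.preimage G.s.continuous)
    let n : G.U → ℕ := fun x => (exists_mem_stratum G x).choose
    have hn : ∀ x, x ∈ stratum G (n x) := fun x => (exists_mem_stratum G x).choose_spec
    have hP : ∃ m, ∃ x, x ∉ K ∧ n x = m := ⟨_, u₀, hu₀, rfl⟩
    obtain ⟨x, hxK, hxm⟩ := Nat.find_spec hP
    set m := Nat.find hP with hm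
    let O₀ : Set G.U := Kᶜ ∩ ((fitMor G.s (m + 1)).support : Set G.U)ᶜ
    have hO₀ : IsOpen O₀ := hKc.isOpen_compl.inter (fitMor G.s (m + 1)).support.isClosed.isOpen_compl
    have hsub : O₀ ⊆ stratum G m := by
      rintro y ⟨hyK, hy⟩
      have hle : m ≤ n y := Nat.find_le ⟨y, hyK, rfl⟩
      exact ⟨support_fitMor_antitone G hle (hn y).1, hy⟩
    have hinv : ∀ a : G.R, G.t a ∈ O₀ → G.s a ∈ O₀ := by
      intro a ha
      have hsK : G.s a ∉ K := fun h => ha.1 ((mem_saturation_iff G _ a).1 h)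
      refine ⟨hsK, ?_⟩
      exact ((stratum_invariant G m a).2 (hsub ha)).2
    have hxO : x ∈ O₀ := ⟨hxK, by have := (hn x).2; rwa [hxm] at this⟩
    have hxW : x ∈ W := by
      rintro ⟨a, haC, hax⟩
      refine haC (Opens.mem_iSup.2 ⟨m, ?_⟩)
      exact interior_maximal hsub hO₀ (hinv a (hax ▸ hxO))
    exact hxK (mem_saturation_self G (subset_closure hxW))
  obtain ⟨W', h1, h2, h3, h4, h5⟩ := exists_thickening_on G W hWle hWinv
  exact ⟨W, W', hWinv, h1, h2, hdense, h3, h4, fun h => ⟨h5 h, hgen h⟩⟩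

omit [IsFinite G.s] in
theorem isMax_of_generic {x : G.U} (hx : ∀ y : G.U, y ⤳ x → y = x) :
    closure ({x} : Set G.U) ∈ irreducibleComponents (G.U : Type u) := by
  refine ⟨isIrreducible_singleton.closure, fun T hT hle => ?_⟩
  obtain ⟨y, hy⟩ := QuasiSober.sober hT.closure isClosed_closure
  have hxy : y ⤳ x := hy.specializes (subset_closure (hle (subset_closure rfl)))
  rw [← hx y hxy, hy.def]
  exact subset_closure

/-- Finitely many points with generic orbits have an invariant affine neighbourhood inside any invariant open. -/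
theorem exists_invariant_affine_nhd [LocallyOfFinitePresentation G.s] [IsFinite G.t] [QuasiSeparatedSpace G.U]
    {m : ℕ} (u : Fin m → G.U)
    (hu : ∀ i (r : G.R), G.s r = u i → ∀ x : G.U, x ⤳ G.t r → x = G.t r)
    (W : G.U.Opens) (hW : ∀ i (r : G.R), G.s r = u i → G.t r ∈ W) :
    ∃ V : G.U.Opens, IsAffineOpen V ∧ V ≤ W ∧ (∀ i, u i ∈ V) ∧ G.s ⁻¹ᵁ V = G.t ⁻¹ᵁ V := by
  classical
  let T : Set G.U := G.t '' (G.s ⁻¹' Set.range u)
  have hT : T.Finite := ((Set.finite_range u).preimage' fun x _ => G.s.finite_preimage_singleton x).image _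
  have hTmax : ∀ x ∈ T, ∀ y : G.U, y ⤳ x → y = x := by
    rintro _ ⟨r, ⟨i, hi⟩, rfl⟩ y hy
    exact hu i r hi.symm y hy
  have hTW : T ⊆ W := by rintro _ ⟨r, ⟨i, hi⟩, rfl⟩; exact hW i r hi.symm
  haveI : Fintype T := hT.fintype
  let η : Fin (Fintype.card T) → G.U := fun i => ((Fintype.equivFin T).symm i).1
  obtain ⟨U, hU, hUd⟩ := GenNhd.exists_pairwise_disjoint η (fun i => isMax_of_generic G (hTmax _ ((Fintype.equivFin T).symm i).2))
    (Subtype.val_injective.comp (Fintype.equivFin T).symm.injective) ⊥ (isAffineOpen_bot G.U) fun i h => h.elim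
  let A : G.U.Opens := ⨆ i, U i
  have hA : IsAffineOpen A := IsAffineOpen.iSup_of_disjoint (fun i => (hU i).1) fun i j h => hUd i j h
  have hTA : T ⊆ A := fun x hx => Opens.mem_iSup.2 ⟨Fintype.equivFin T ⟨x, hx⟩, by
    simpa [η] using (hU (Fintype.equivFin T ⟨x, hx⟩)).2.1⟩
  have horb : ∀ r : G.R, G.s r ∈ T → G.t r ∈ T := by
    rintro r ⟨r', ⟨i, hi⟩, e⟩
    obtain ⟨r'', h₁, h₂⟩ := exists_comp G r r' e.symm
    exact ⟨r'', ⟨i, hi.trans h₂.symm⟩, h₁⟩
  let B : G.U.Opens := invCore G (A ⊓ W)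
  have hTB : T ⊆ B := fun x hx => mem_invCore.2 fun r hr => by
    have h := horb r (hr ▸ hx)
    exact ⟨hTA h, hTW h⟩
  have hB : IsInv G B := isInv_invCore _
  have hBA : B ≤ A := (invCore_le _).trans inf_le_left
  let G' := restrict G B hB
  haveI : IsFinite G'.s := IsZariskiLocalAtTarget.restrict (P := @IsFinite) (inferInstanceAs (IsFinite G.s)) B
  haveI : LocallyOfFinitePresentation G'.s :=
    IsZariskiLocalAtTarget.restrict (P := @LocallyOfFinitePresentation) (inferInstanceAs (LocallyOfFinitePresentation G.s)) B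
  haveI : IsAffine (A : Scheme.{u}) := hA
  let j : (B : Scheme.{u}) ⟶ Spec (CommRingCat.of Γ(G.U, A)) := G.U.homOfLE hBA ≫ hA.isoSpec.hom
  obtain ⟨I, hI⟩ := (PrimeSpectrum.isClosed_iff_zeroLocus_ideal _).1 j.opensRange.isOpen.isClosed_compl
  obtain ⟨h, -, haff, hsub, hinv⟩ := exists_invariant_basicOpen (G := G') ((B.ι) ⁻¹' T)
    (hT.preimage B.ι.isOpenEmbedding.injective.injOn)
    (fun r hr => by
      have e1 : B.ι (G'.s r) = G.s ((G.s ⁻¹ᵁ B).ι r) := congrArg (fun φ => φ r) (congrArg (fun φ : _ ⟶ G.U => (φ : _ → G.U)) (resS_ι G B))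
      have e2 : B.ι (G'.t r) = G.t ((G.s ⁻¹ᵁ B).ι r) := congrArg (fun φ => φ r) (congrArg (fun φ : _ ⟶ G.U => (φ : _ → G.U)) (resT_ι G B hB))
      show B.ι (G'.t r) ∈ T
      rw [e2]
      exact horb _ (e1 ▸ hr))
    (fun x hx y hy => B.ι.isOpenEmbedding.injective (hTmax _ hx _ (hy.map B.ι.continuous)))
    Γ(G.U, A) j I (fun x hx => by
      rw [← hI] at hx
      exact hx ⟨x, rfl⟩)
    (by
      refine (congrArg IsClosed ?_).mpr isClosed_univ
      rw [← hI]
      exact Set.compl_union_self (Set.range j))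
  refine ⟨B.ι ''ᵁ (j ⁻¹ᵁ PrimeSpectrum.basicOpen h), haff.image_of_isOpenImmersion _,
    (Scheme.Opens.ι_image_le _ _).trans ((invCore_le _).trans inf_le_right), fun i => ?_, ?_⟩
  · have hiT : u i ∈ T := ⟨G.e (u i), ⟨i, by rw [← Scheme.Hom.comp_apply, G.e_s]; rfl⟩,
      by rw [← Scheme.Hom.comp_apply, G.e_t]; rfl⟩
    exact ⟨⟨u i, hTB hiT⟩, hsub (show (⟨u i, hTB hiT⟩ : B) ∈ B.ι ⁻¹' T from hiT), rfl⟩
  · refine isInv_of_mem fun r hr => ?_
    obtain ⟨x, hx, hxe⟩ := hr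
    have hrB : r ∈ G.s ⁻¹ᵁ B := by
      show G.s r ∈ B
      rw [← hxe]; exact x.2
    have e1 : G'.s ⟨r, hrB⟩ = x := B.ι.isOpenEmbedding.injective
      ((congrArg (fun φ => φ (⟨r, hrB⟩ : (G.s ⁻¹ᵁ B))) (congrArg (fun φ : _ ⟶ G.U => (φ : _ → G.U)) (resS_ι G B))).trans hxe.symm)
    refine ⟨G'.t ⟨r, hrB⟩, (hinv.mem_iff _).1 (by rw [e1]; exact hx), ?_⟩
    exact congrArg (fun φ => φ (⟨r, hrB⟩ : (G.s ⁻¹ᵁ B))) (congrArg (fun φ : _ ⟶ G.U => (φ : _ → G.U)) (resT_ι G B hB))

/-- An invariant affine thickening around generic orbits. -/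
theorem exists_invariant_affine_thickening [LocallyOfFinitePresentation G.s] [IsFinite G.t]
    [QuasiSeparatedSpace G.U] {m : ℕ} (u : Fin m → G.U)
    (hu : ∀ i (r : G.R), G.s r = u i → ∀ x : G.U, x ⤳ G.t r → x = G.t r) :
    ∃ (V : G.U.Opens) (V' : (↑V : Scheme.{u}).IdealSheafData), IsAffineOpen V ∧ (∀ i, u i ∈ V) ∧
      G.s ⁻¹ᵁ V = G.t ⁻¹ᵁ V ∧ V'.support = ⊤ ∧ LocallyOfFinitePresentation V'.subschemeι ∧
      (∃ φ : pullback G.s (V'.subschemeι ≫ V.ι) ≅ pullback G.t (V'.subschemeι ≫ V.ι),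
        φ.hom ≫ pullback.fst G.t (V'.subschemeι ≫ V.ι) = pullback.fst G.s (V'.subschemeι ≫ V.ι)) ∧
      Mor2.IsFinLocFree (pullback.snd G.s (V'.subschemeι ≫ V.ι)) ∧
      Mor2.IsFinLocFree (pullback.snd G.t (V'.subschemeι ≫ V.ι)) := by
  obtain ⟨V, hV, hle, huV, hinv⟩ := exists_invariant_affine_nhd G u hu (⨆ r, stratumOpen G r)
    fun i r hr => mem_iSup_stratumOpen_of_generic G (hu i r hr)
  obtain ⟨V', h1, h2, h3, h4, h5⟩ := exists_thickening_on G V hle hinv
  exact ⟨V, V', hV, huV, hinv, h1, h5 inferInstance, h2, h3, h4⟩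

end Groth.Agent.GrpdLib
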