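import Groth.Agent.GrpdLib.Restrict
import Mathlib.AlgebraicGeometry.Morphisms.Integral

/-!
# Gluing the quotients of the invariant affine opens
-/

set_option backward.isDefEq.respectTransparency false
set_option backward.isDefEq.respectTransparency.types false

universe u

open CategoryTheory CategoryTheory.Limits AlgebraicGeometry Grpd TopologicalSpace

noncomputable section

namespace Groth.Agent.GrpdLib

variable {S : Scheme.{u}} (G : GroupoidScheme S)

/-- The invariant affine opens. -/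
abbrev InvAff : Type u := {W : G.U.Opens // IsAffineOpen W ∧ IsInv G W}

namespace InvAff

variable {G} (j : InvAff G)

/-- The groupoid over the open. -/
abbrev grp : GroupoidScheme S := restrict G j.1 j.2.2

/-- The affine quotient over the open. -/
abbrev M : Scheme.{u} := Spec (CommRingCat.of j.grp.invariants)

/-- The quotient map over the open. -/
abbrev π : j.1.toScheme ⟶ j.M := j.grp.toQuot

instance : IsAffine j.grp.U := j.2.1

variable [IsFinite G.s]

instance : IsAffine j.grp.R := j.2.1.preimage G.s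

instance : IsFinite j.grp.s := IsZariskiLocalAtTarget.restrict ‹_› j.1

variable [Flat G.s] [LocallyOfFinitePresentation G.s]

omit [IsFinite G.s] [LocallyOfFinitePresentation G.s] in
instance flat_s : Flat j.grp.s := IsZariskiLocalAtTarget.restrict ‹_› j.1

omit [IsFinite G.s] [Flat G.s] in
instance lfp_s : LocallyOfFinitePresentation j.grp.s := IsZariskiLocalAtTarget.restrict ‹_› j.1

theorem isIntegralHom_π : IsIntegralHom j.π := by
  show IsIntegralHom j.grp.toQuot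
  rw [isoSpec_hom_toQuot, MorphismProperty.cancel_left_of_respectsIso (P := @IsIntegralHom), IsIntegralHom.SpecMap_iff]
  exact fun a => (isIntegral_invariants j.grp).isIntegral a

theorem isLocQuot : IsLocQuot (resS G j.1) (resT G j.1 j.2.2) j.π := by
  have := isIntegralHom_π j
  have : IsAffine j.1.toScheme := j.2.1
  have : IsAffine (G.s ⁻¹ᵁ j.1).toScheme := j.2.1.preimage G.s
  have h : j.π.appTop = (Scheme.ΓSpecIso _).hom ≫ CommRingCat.ofHom j.grp.invariants.subtype := by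
    rw [← cancel_epi (Scheme.ΓSpecIso _).inv, Iso.inv_hom_id_assoc]
    show _ ≫ (j.grp.U.toSpecΓ ≫ Spec.map (CommRingCat.ofHom j.grp.invariants.subtype)).appTop = _
    rw [Scheme.Hom.comp_appTop, Scheme.toSpecΓ_appTop, Scheme.ΓSpecIso_naturality, Iso.inv_hom_id_assoc]
  refine isLocQuot_of_affine (t_toQuot_eq j.grp) (surjective_toQuot j.grp)
    j.π.isClosedMap (fun x y => (toQuot_eq_iff j.grp x y).1) ?_ fun a ha => ?_
  · rw [h]
    intro a b hab
    exact (ConcreteCategory.bijective_of_isIso (Scheme.ΓSpecIso (CommRingCat.of j.grp.invariants)).hom).1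
      (Subtype.ext hab)
  · refine ⟨(Scheme.ΓSpecIso (CommRingCat.of j.grp.invariants)).inv ⟨a, ha⟩, ?_⟩
    rw [h, CommRingCat.comp_apply, Iso.inv_hom_id_apply]
    rfl

theorem hom_ext {T : Scheme.{u}} {g₁ g₂ : j.M ⟶ T} (h : j.π ≫ g₁ = j.π ≫ g₂) : g₁ = g₂ :=
  ((isLocQuot j).existsUnique_desc_top (j.π ≫ g₂) (by rw [reassoc_of% (isLocQuot j).w])).unique h rfl

variable {j} {j' : InvAff G} (h : j ≤ j')

omit [IsFinite G.s] [Flat G.s] [LocallyOfFinitePresentation G.s] in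
theorem res_homOfLE (h : j ≤ j') :
    resS G j.1 ≫ G.U.homOfLE h = G.R.homOfLE (G.s.preimage_mono h) ≫ resS G j'.1 ∧
      resT G j.1 j.2.2 ≫ G.U.homOfLE h = G.R.homOfLE (G.s.preimage_mono h) ≫ resT G j'.1 j'.2.2 := by
  constructor <;> rw [← cancel_mono j'.1.ι, Category.assoc, Category.assoc, Scheme.homOfLE_ι]
  · rw [resS_ι, resS_ι, Scheme.homOfLE_ι_assoc]
  · rw [resT_ι, resT_ι, Scheme.homOfLE_ι_assoc]

theorem exists_trans : ∃ g : j.M ⟶ j'.M, j.π ≫ g = G.U.homOfLE h ≫ j'.π := by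
  obtain ⟨g, hg, -⟩ := (isLocQuot j).existsUnique_desc_top (G.U.homOfLE h ≫ j'.π) (by
    rw [reassoc_of% (res_homOfLE h).1, reassoc_of% (res_homOfLE h).2, (isLocQuot j').w])
  exact ⟨g, hg⟩

/-- The transition map. -/
def trans : j.M ⟶ j'.M := (exists_trans h).choose

theorem π_trans : j.π ≫ trans h = G.U.homOfLE h ≫ j'.π := (exists_trans h).choose_spec

theorem range_trans : Set.range (trans h) = j'.π '' ((j'.1.ι ⁻¹ᵁ j.1 : j'.1.toScheme.Opens) : Set j'.1.toScheme) := by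
  ext z
  constructor
  · rintro ⟨m, rfl⟩
    obtain ⟨w, rfl⟩ := (isLocQuot j).surj m
    refine ⟨G.U.homOfLE h w, ?_, ?_⟩
    · show j'.1.ι (G.U.homOfLE h w) ∈ j.1
      rw [← Scheme.Hom.comp_apply, Scheme.homOfLE_ι]
      exact w.2
    · rw [← Scheme.Hom.comp_apply, ← π_trans, Scheme.Hom.comp_apply]
  · rintro ⟨x, hx, rfl⟩
    refine ⟨j.π ⟨x.1, hx⟩, ?_⟩
    rw [← Scheme.Hom.comp_apply, π_trans, Scheme.Hom.comp_apply]
    congr 1
    apply j'.1.ι.isOpenEmbedding.injective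
    rw [← Scheme.Hom.comp_apply, Scheme.homOfLE_ι]
    rfl

theorem mem_of_π_eq {x y : j'.1.toScheme} (e : j'.π x = j'.π y) (hy : y.1 ∈ j.1) : x.1 ∈ j.1 := by
  obtain ⟨r, hrx, hry⟩ := (isLocQuot j').orbit x y e
  have h1 : G.s r.1 = y.1 := by
    rw [← hry]
    exact (congrArg (fun φ => φ r) (resS_ι G j'.1)).symm
  have h2 : G.t r.1 = x.1 := by
    rw [← hrx]
    exact (congrArg (fun φ => φ r) (resT_ι G j'.1 j'.2.2)).symm
  rw [← h2]
  exact (j.2.2.mem_iff r.1).1 (by rw [h1]; exact hy)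

theorem preimage_range_trans : j'.π ⁻¹' Set.range (trans h) = {x | x.1 ∈ j.1} := by
  rw [range_trans]
  ext x
  exact ⟨fun ⟨y, hy, e⟩ => mem_of_π_eq e.symm hy, fun hx => ⟨x, hx, rfl⟩⟩

theorem isOpenImmersion_trans : IsOpenImmersion (trans h) := by
  have hpre := preimage_range_trans h
  let O : j'.M.Opens := ⟨Set.range (trans h), (isLocQuot j').isOpen_of_preimage (by
    rw [hpre]; exact j.1.isOpen.preimage j'.1.ι.continuous)⟩
  let e : (j'.π ⁻¹ᵁ O).toScheme ⟶ j.1.toScheme := IsOpenImmersion.lift j.1.ι ((j'.π ⁻¹ᵁ O).ι ≫ j'.1.ι) (by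
    rintro _ ⟨z, rfl⟩
    rw [Scheme.Opens.range_ι]
    exact hpre.le z.2)
  let d : j.1.toScheme ⟶ (j'.π ⁻¹ᵁ O).toScheme := IsOpenImmersion.lift (j'.π ⁻¹ᵁ O).ι (G.U.homOfLE h) (by
    rintro _ ⟨z, rfl⟩
    rw [Scheme.Opens.range_ι]
    refine hpre.ge ?_
    show j'.1.ι (G.U.homOfLE h z) ∈ j.1
    rw [← Scheme.Hom.comp_apply, Scheme.homOfLE_ι]
    exact z.2)
  have hde : d ≫ e = 𝟙 _ := by
    rw [← cancel_mono j.1.ι, Category.assoc, Category.id_comp, IsOpenImmersion.lift_fac,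
      IsOpenImmersion.lift_fac_assoc, Scheme.homOfLE_ι]
  have hed : e ≫ d = 𝟙 _ := by
    rw [← cancel_mono (j'.π ⁻¹ᵁ O).ι, Category.assoc, Category.id_comp, IsOpenImmersion.lift_fac,
      ← cancel_mono j'.1.ι, Category.assoc, Scheme.homOfLE_ι, IsOpenImmersion.lift_fac]
  obtain ⟨g', hg'⟩ := (isLocQuot j').exists_desc (O := O) (e ≫ j.π) fun T r a b ha hb => by
    let k : T ⟶ (G.s ⁻¹ᵁ j.1).toScheme := IsOpenImmersion.lift (G.s ⁻¹ᵁ j.1).ι (r ≫ (G.s ⁻¹ᵁ j'.1).ι) (by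
      rintro _ ⟨z, rfl⟩
      rw [Scheme.Opens.range_ι]
      show G.s _ ∈ j.1
      rw [← Scheme.Hom.comp_apply, Category.assoc, ← resS_ι, reassoc_of% hb.symm, Scheme.Hom.comp_apply]
      exact hpre.le (b z).2)
    have ka : a ≫ e = k ≫ resT G j.1 j.2.2 := by
      rw [← cancel_mono j.1.ι, Category.assoc, Category.assoc, IsOpenImmersion.lift_fac, resT_ι,
        IsOpenImmersion.lift_fac_assoc, reassoc_of% ha, resT_ι, Category.assoc]
    have kb : b ≫ e = k ≫ resS G j.1 := by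
      rw [← cancel_mono j.1.ι, Category.assoc, Category.assoc, IsOpenImmersion.lift_fac, resS_ι,
        IsOpenImmersion.lift_fac_assoc, reassoc_of% hb, resS_ι, Category.assoc]
    rw [reassoc_of% ka, reassoc_of% kb, (isLocQuot j).w]
  let g₀ : j.M ⟶ O.toScheme := IsOpenImmersion.lift O.ι (trans h) (by rw [Scheme.Opens.range_ι]; exact subset_rfl)
  have hπ : j.π ≫ g₀ = d ≫ (j'.π ∣_ O) := by
    rw [← cancel_mono O.ι, Category.assoc, Category.assoc, IsOpenImmersion.lift_fac, morphismRestrict_ι,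
      IsOpenImmersion.lift_fac_assoc, π_trans]
  have h1 : g₀ ≫ g' = 𝟙 _ := hom_ext j (by rw [reassoc_of% hπ, hg', reassoc_of% hde, Category.comp_id])
  have h2 : g' ≫ g₀ = 𝟙 _ := (isLocQuot j').hom_ext _ _ (by
    rw [reassoc_of% hg', hπ, reassoc_of% hed, Category.comp_id])
  have : IsIso g₀ := ⟨g', h1, h2⟩
  rw [← IsOpenImmersion.lift_fac O.ι (trans h) (by rw [Scheme.Opens.range_ι]; exact subset_rfl)]
  exact inferInstanceAs (IsOpenImmersion (g₀ ≫ O.ι))

end InvAff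

variable [IsFinite G.s] [Flat G.s] [LocallyOfFinitePresentation G.s]

/-- The diagram of affine quotients. -/
def quotDiagram : InvAff G ⥤ Scheme.{u} where
  obj j := j.M
  map f := InvAff.trans (leOfHom f)
  map_id j := InvAff.hom_ext j (by rw [InvAff.π_trans, Scheme.homOfLE_rfl, Category.id_comp, Category.comp_id])
  map_comp f g := InvAff.hom_ext _ (by
    rw [InvAff.π_trans, reassoc_of% (InvAff.π_trans (leOfHom f)), InvAff.π_trans, Scheme.homOfLE_homOfLE_assoc])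

instance {i j : InvAff G} (f : i ⟶ j) : IsOpenImmersion ((quotDiagram G).map f) :=
  InvAff.isOpenImmersion_trans _

/-- Below two invariant affine opens there is one around each common point. -/
theorem exists_invAff_le (i j : InvAff G) (x : G.U) (hi : x ∈ i.1) (hj : x ∈ j.1) :
    ∃ l : InvAff G, l ≤ i ∧ l ≤ j ∧ x ∈ l.1 := by
  let O : Set G.U := G.t '' (G.s ⁻¹' {x})
  have hO : O.Finite := (G.s.finite_preimage_singleton x).image _
  have hOi : O ⊆ i.1 := fun _ ⟨r, hr, e⟩ => e ▸ (i.2.2.mem_iff r).1 (by rw [show G.s r = x from hr]; exact hi)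
  have hOj : O ⊆ j.1 := fun _ ⟨r, hr, e⟩ => e ▸ (j.2.2.mem_iff r).1 (by rw [show G.s r = x from hr]; exact hj)
  obtain ⟨f, hOf, hfj⟩ := exists_basicOpen_of_finite i.2.1 hO j.1 hOi hOj
  obtain ⟨W, hW, hxW, hinv, hWf⟩ := exists_invariant_affineOpen x (G.U.basicOpen f) (i.2.1.basicOpen f)
    fun r hr => hOf ⟨r, hr, rfl⟩
  exact ⟨⟨W, hW, hinv⟩, hWf.trans (G.U.basicOpen_le f), hWf.trans hfj, hxW⟩

instance : ((quotDiagram G) ⋙ Scheme.forget).IsLocallyDirected := by
  constructor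
  intro i j k fi fj xi xj e
  change InvAff.trans (leOfHom fi) xi = InvAff.trans (leOfHom fj) xj at e
  obtain ⟨ui, rfl⟩ := (InvAff.isLocQuot i).surj xi
  obtain ⟨uj, rfl⟩ := (InvAff.isLocQuot j).surj xj
  rw [← Scheme.Hom.comp_apply, ← Scheme.Hom.comp_apply, InvAff.π_trans, InvAff.π_trans, Scheme.Hom.comp_apply,
    Scheme.Hom.comp_apply] at e
  have hval : ∀ {a : InvAff G} (h : a ≤ k) (u : a.1.toScheme), (G.U.homOfLE h u).1 = u.1 := fun h u => by
    exact congrArg (fun φ => φ u) (Scheme.homOfLE_ι G.U h)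
  have hj : ui.1 ∈ j.1 := by
    have := InvAff.mem_of_π_eq (j := j) e (by rw [hval]; exact uj.2)
    rwa [hval] at this
  obtain ⟨l, hli, hlj, hl⟩ := exists_invAff_le G i j ui.1 ui.2 hj
  refine ⟨l, homOfLE hli, homOfLE hlj, l.π ⟨ui.1, hl⟩, ?_, ?_⟩
  · change InvAff.trans _ _ = _
    rw [← Scheme.Hom.comp_apply, InvAff.π_trans, Scheme.Hom.comp_apply]
    congr 1
    exact Subtype.ext (congrArg (fun φ => φ (⟨ui.1, hl⟩ : l.1.toScheme)) (Scheme.homOfLE_ι G.U hli))
  · change InvAff.trans _ _ = _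
    apply (InvAff.isOpenImmersion_trans (leOfHom fj)).base_open.injective
    change InvAff.trans (leOfHom fj) _ = InvAff.trans (leOfHom fj) _
    rw [← Scheme.Hom.comp_apply, ← Scheme.Hom.comp_apply, ← Scheme.Hom.comp_apply, InvAff.π_trans,
      ← Category.assoc, InvAff.π_trans, Category.assoc, InvAff.π_trans, Scheme.homOfLE_homOfLE_assoc,
      Scheme.Hom.comp_apply, Scheme.Hom.comp_apply, ← e]
    congr 1
    exact Subtype.ext ((hval (hlj.trans (leOfHom fj)) _).trans (hval (leOfHom fi) ui).symm)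

/-- The quotient scheme. -/
def quotScheme : Scheme.{u} := colimit (quotDiagram G)

/-- The inclusion of an affine quotient. -/
def InvAff.inc (j : InvAff G) : j.M ⟶ quotScheme G := colimit.ι (quotDiagram G) j

instance (j : InvAff G) : IsOpenImmersion (InvAff.inc G j) :=
  inferInstanceAs (IsOpenImmersion (colimit.ι (quotDiagram G) j))

theorem InvAff.trans_inc {i j : InvAff G} (h : i ≤ j) : InvAff.trans h ≫ InvAff.inc G j = InvAff.inc G i :=
  colimit.w (quotDiagram G) (homOfLE h)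

theorem exists_quotMap (hc : ∀ x : G.U, ∃ j : InvAff G, x ∈ j.1) :
    ∃ p : G.U ⟶ quotScheme G, ∀ j : InvAff G, j.1.ι ≫ p = j.π ≫ InvAff.inc G j := by
  refine exists_glue (fun j : InvAff G => j.1) (eq_top_iff.2 fun x _ => Opens.mem_iSup.2 (hc x))
    (fun j => j.π ≫ InvAff.inc G j) fun i j => Scheme.hom_ext_of_forall _ _ fun x => ?_
  obtain ⟨l, hli, hlj, hl⟩ := exists_invAff_le G i j x.1 x.2.1 x.2.2
  have hle : l.1 ≤ i.1 ⊓ j.1 := le_inf hli hlj
  refine ⟨(i.1 ⊓ j.1).ι ⁻¹ᵁ l.1, hl, ?_⟩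
  have key : G.U.homOfLE hle ≫ G.U.homOfLE inf_le_left ≫ i.π ≫ InvAff.inc G i =
      G.U.homOfLE hle ≫ G.U.homOfLE inf_le_right ≫ j.π ≫ InvAff.inc G j := by
    rw [Scheme.homOfLE_homOfLE_assoc, Scheme.homOfLE_homOfLE_assoc, ← reassoc_of% (InvAff.π_trans hli),
      ← reassoc_of% (InvAff.π_trans hlj), InvAff.trans_inc, InvAff.trans_inc]
  have hk : ((i.1 ⊓ j.1).ι ∣_ l.1) ≫ G.U.homOfLE hle = ((i.1 ⊓ j.1).ι ⁻¹ᵁ l.1).ι := by
    rw [← cancel_mono (i.1 ⊓ j.1).ι, Category.assoc, Scheme.homOfLE_ι, morphismRestrict_ι]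
  rw [← hk, Category.assoc, Category.assoc, key]

section

variable {G} {p : G.U ⟶ quotScheme G} (hp : ∀ j : InvAff G, j.1.ι ≫ p = j.π ≫ InvAff.inc G j)
include hp

theorem quotMap_apply (j : InvAff G) (u : j.1.toScheme) : p u.1 = InvAff.inc G j (j.π u) := by
  show p (j.1.ι u) = _
  rw [← Scheme.Hom.comp_apply, hp, Scheme.Hom.comp_apply]

theorem quotMap_mem_range_iff (hc : ∀ x : G.U, ∃ j : InvAff G, x ∈ j.1) (j : InvAff G) (x : G.U) :
    p x ∈ Set.range (InvAff.inc G j) ↔ x ∈ j.1 := by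
  refine ⟨?_, fun hx => ⟨j.π ⟨x, hx⟩, (quotMap_apply hp j ⟨x, hx⟩).symm⟩⟩
  rintro ⟨m, hm⟩
  obtain ⟨i, hi⟩ := hc x
  obtain ⟨u, rfl⟩ := (InvAff.isLocQuot j).surj m
  rw [show p x = InvAff.inc G i (i.π ⟨x, hi⟩) from quotMap_apply hp i ⟨x, hi⟩] at hm
  obtain ⟨l, fj, fi, z, hzj, hzi⟩ := (Scheme.IsLocallyDirected.ι_eq_ι_iff (quotDiagram G)).1 hm
  change InvAff.trans (leOfHom fi) z = i.π ⟨x, hi⟩ at hzi
  have : (⟨x, hi⟩ : i.1.toScheme) ∈ i.π ⁻¹' Set.range (InvAff.trans (leOfHom fi)) := ⟨z, hzi⟩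
  rw [InvAff.preimage_range_trans] at this
  exact leOfHom fj this

end

end Groth.Agent.GrpdLib
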