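import Groth.Agent.GrpdLib.StabTorsor
import Mathlib.AlgebraicGeometry.Morphisms.UniversallyOpen

/-!
# Morphisms of groupoids and translates of open sets, over a field
-/

set_option backward.isDefEq.respectTransparency false
set_option backward.isDefEq.respectTransparency.types false

universe u

open CategoryTheory CategoryTheory.Limits AlgebraicGeometry Grpd

namespace Groth.Agent.GrpdLib

variable {S : Scheme.{u}}

theorem hom_comm_e {G₁ G₂ : GroupoidScheme S} (a : GroupoidScheme.Hom G₁ G₂) :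
    G₁.e ≫ a.fR = a.fU ≫ G₂.e := by
  have hxs : (G₁.e ≫ a.fR) ≫ G₂.s = a.fU := by rw [Category.assoc, a.comm_s, reassoc_of% G₁.e_s]
  have hxt : (G₁.e ≫ a.fR) ≫ G₂.t = a.fU := by rw [Category.assoc, a.comm_t, reassoc_of% G₁.e_t]
  set x := G₁.e ≫ a.fR with hx
  have hee : G₁.e ≫ G₁.s = G₁.e ≫ G₁.t := by rw [G₁.e_s, G₁.e_t]
  have h1 : pullback.lift G₁.e G₁.e hee ≫ G₁.c = G₁.e :=
    (c_congr G₁ hee rfl (by rw [reassoc_of% G₁.e_s])).trans (G₁.comp_e G₁.e)
  have h2 : pullback.lift x x (hxs.trans hxt.symm) ≫ G₂.c = x := by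
    have := a.comm_c G₁.e G₁.e hee
    rw [h1] at this
    exact this.symm
  have h3 := G₂.assoc (x ≫ G₂.i) x x (by rw [Category.assoc, G₂.i_s]) (hxs.trans hxt.symm)
  have h4 : x = x ≫ G₂.s ≫ G₂.e := by
    calc x = pullback.lift (x ≫ G₂.t ≫ G₂.e) x
            (by simp only [Category.assoc, G₂.e_s, Category.comp_id]) ≫ G₂.c := (G₂.e_comp x).symm
      _ = _ := c_congr G₂ _ (show _ = pullback.lift (x ≫ G₂.i) x (by rw [Category.assoc, G₂.i_s]) ≫ G₂.c by
            rw [G₂.i_comp, ← Category.assoc, ← Category.assoc, hxs, hxt]) rfl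
      _ = _ := h3
      _ = pullback.lift (x ≫ G₂.i) x (by rw [Category.assoc, G₂.i_s]) ≫ G₂.c := c_congr G₂ _ rfl h2
      _ = _ := G₂.i_comp x
  rw [h4, ← Category.assoc, hxs]

/-- Translating the pairs `(z, r)` with `s (α z) = t r` identifies them with a base change of `t ∘ α`. -/
theorem isPullback_translate (G : GroupoidScheme S) {Z : Scheme.{u}} (α : Z ⟶ G.R) :
    IsPullback (pullback.fst (α ≫ G.s) G.t)
      (pullback.lift (pullback.fst (α ≫ G.s) G.t ≫ α) (pullback.snd (α ≫ G.s) G.t)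
        (by rw [Category.assoc, pullback.condition]) ≫ G.c) (α ≫ G.t) G.t := by
  have left : IsPullback (pullback.fst (α ≫ G.s) G.t)
      (pullback.lift (pullback.fst (α ≫ G.s) G.t ≫ α) (pullback.snd (α ≫ G.s) G.t)
        (by rw [Category.assoc, pullback.condition])) α (pullback.fst G.s G.t) := by
    refine IsPullback.of_bot ?_ (pullback.lift_fst _ _ _).symm (IsPullback.of_hasPullback G.s G.t)
    rw [pullback.lift_snd]
    exact IsPullback.of_hasPullback _ _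
  exact left.paste_vert (isPullback_fst_c G)

/-- Over a field, `(z, r) ↦ α z ∘ r` is universally open. -/
theorem universallyOpen_translate (G : GroupoidScheme S) (k : Type u) [Field k] (eU : G.U ≅ Spec (CommRingCat.of k))
    {Z : Scheme.{u}} (α : Z ⟶ G.R) :
    UniversallyOpen (pullback.lift (pullback.fst (α ≫ G.s) G.t ≫ α) (pullback.snd (α ≫ G.s) G.t)
        (by rw [Category.assoc, pullback.condition]) ≫ G.c) := by
  have : Nonempty G.U := ⟨eU.inv (IsLocalRing.closedPoint k)⟩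
  have : IsIntegral G.U := isIntegral_of_isOpenImmersion eU.hom
  have : Subsingleton G.U := eU.hom.homeomorph.subsingleton
  exact MorphismProperty.of_isPullback (P := @UniversallyOpen) (isPullback_translate G α) inferInstance

/-- Over a field, translates of an open set of arrows are open. -/
theorem isOpen_range_translate (G : GroupoidScheme S) (k : Type u) [Field k] (eU : G.U ≅ Spec (CommRingCat.of k))
    (W : G.R.Opens) {Z : Scheme.{u}} (a : Z ⟶ G.R) :
    IsOpen (Set.range ⇑(pullback.lift (pullback.fst (a ≫ G.s) (W.ι ≫ G.t) ≫ a)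
      (pullback.snd (a ≫ G.s) (W.ι ≫ G.t) ≫ W.ι)
      ((Category.assoc _ _ _).trans (pullback.condition.trans (Category.assoc _ _ _).symm)) ≫ G.c)) := by
  set M : pullback (a ≫ G.s) (W.ι ≫ G.t) ⟶ pullback (a ≫ G.s) G.t :=
    pullback.map _ _ _ _ (𝟙 Z) W.ι (𝟙 G.U) (by simp) (by simp) with hM
  have hMo : IsOpenImmersion M := by
    rw [hM]; infer_instance
  have := universallyOpen_translate G k eU a
  have e : pullback.lift (pullback.fst (a ≫ G.s) (W.ι ≫ G.t) ≫ a)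
      (pullback.snd (a ≫ G.s) (W.ι ≫ G.t) ≫ W.ι)
      ((Category.assoc _ _ _).trans (pullback.condition.trans (Category.assoc _ _ _).symm)) ≫ G.c =
      M ≫ (pullback.lift (pullback.fst (a ≫ G.s) G.t ≫ a) (pullback.snd (a ≫ G.s) G.t)
        (by rw [Category.assoc, pullback.condition]) ≫ G.c) := by
    refine (congrArg (· ≫ G.c) ?_).trans (Category.assoc _ _ _)
    apply pullback.hom_ext <;> simp [hM]
  rw [e]
  have h1 : IsOpenMap ⇑(M ≫ (pullback.lift (pullback.fst (a ≫ G.s) G.t ≫ a) (pullback.snd (a ≫ G.s) G.t)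
        (by rw [Category.assoc, pullback.condition]) ≫ G.c)) := Scheme.Hom.isOpenMap _
  exact h1.isOpen_range

theorem exists_field_lift {X Y : Scheme.{u}} (f : X ⟶ Y) (K : Type u) [Field K]
    (p : Spec (CommRingCat.of K) ⟶ Y) (h : p (IsLocalRing.closedPoint K) ∈ Set.range ⇑f) :
    ∃ (L : Type u) (_ : Field L) (g : Spec (CommRingCat.of L) ⟶ Spec (CommRingCat.of K))
      (q : Spec (CommRingCat.of L) ⟶ X), q ≫ f = g ≫ p := by
  obtain ⟨x, hx⟩ := h
  obtain ⟨z, -, -⟩ := Scheme.Pullback.exists_preimage_pullback (f := f) (g := p) x (IsLocalRing.closedPoint K) hx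
  exact ⟨(pullback f p).residueField z, inferInstance, (pullback f p).fromSpecResidueField z ≫ pullback.snd f p,
    (pullback f p).fromSpecResidueField z ≫ pullback.fst f p, by simp [pullback.condition]⟩

theorem isClosed_range_of_isOpen {G₁ G₂ : GroupoidScheme S} (k : Type u) [Field k]
    (eU : G₂.U ≅ Spec (CommRingCat.of k)) (a : GroupoidScheme.Hom G₁ G₂) [IsIso a.fU]
    (hopen : IsOpen (Set.range ⇑a.fR)) : IsClosed (Set.range ⇑a.fR) := by
  rw [← isOpen_compl_iff, isOpen_iff_forall_mem_open]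
  intro r hr
  let W : G₂.R.Opens := ⟨Set.range ⇑a.fR, hopen⟩
  let ρ := G₂.R.fromSpecResidueField r
  refine ⟨_, ?_, isOpen_range_translate G₂ k eU W ρ, ?_⟩
  · rintro x ⟨z, rfl⟩ hx
    apply hr
    let K := (pullback (ρ ≫ G₂.s) (W.ι ≫ G₂.t)).residueField z
    let ζ := (pullback (ρ ≫ G₂.s) (W.ι ≫ G₂.t)).fromSpecResidueField z
    let ρ' : Spec (CommRingCat.of K) ⟶ G₂.R := ζ ≫ pullback.fst _ _ ≫ ρ
    let ω : Spec (CommRingCat.of K) ⟶ G₂.R := ζ ≫ pullback.snd _ _ ≫ W.ι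
    have hρω : ρ' ≫ G₂.s = ω ≫ G₂.t := by
      show (ζ ≫ pullback.fst (ρ ≫ G₂.s) (W.ι ≫ G₂.t) ≫ ρ) ≫ G₂.s = _
      simp only [ω, Category.assoc, pullback.condition]
    let χ : Spec (CommRingCat.of K) ⟶ G₂.R := pullback.lift ρ' ω hρω ≫ G₂.c
    have hχ : χ (IsLocalRing.closedPoint K) ∈ Set.range ⇑a.fR := by
      have e : χ = ζ ≫ (pullback.lift (pullback.fst (ρ ≫ G₂.s) (W.ι ≫ G₂.t) ≫ ρ)
        (pullback.snd (ρ ≫ G₂.s) (W.ι ≫ G₂.t) ≫ W.ι)
        ((Category.assoc _ _ _).trans (pullback.condition.trans (Category.assoc _ _ _).symm)) ≫ G₂.c) := by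
        simp only [χ, ← Category.assoc]
        congr 1
        apply pullback.hom_ext <;> simp [ρ', ω]
      rw [e, Scheme.Hom.comp_apply]
      convert hx
      exact Scheme.fromSpecResidueField_apply _ _
    have hω : ω (IsLocalRing.closedPoint K) ∈ Set.range ⇑a.fR := by
      show W.ι _ ∈ Set.range ⇑a.fR
      exact (Subtype.prop _ : (_ : G₂.R) ∈ W)
    obtain ⟨L₁, _, g₁, ω₁, hω₁⟩ := exists_field_lift a.fR K ω hω
    have hχ' : (g₁ ≫ χ) (IsLocalRing.closedPoint L₁) ∈ Set.range ⇑a.fR := by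
      rw [Scheme.Hom.comp_apply, Subsingleton.elim (g₁ (IsLocalRing.closedPoint L₁)) (IsLocalRing.closedPoint K)]
      exact hχ
    obtain ⟨L, _, g₂, χ₁, hχ₁⟩ := exists_field_lift a.fR L₁ (g₁ ≫ χ) hχ'
    let ω₂ := g₂ ≫ ω₁
    have hω₂ : ω₂ ≫ a.fR = (g₂ ≫ g₁) ≫ ω := by simp only [ω₂, Category.assoc, hω₁]
    have hχ₂ : χ₁ ≫ a.fR = (g₂ ≫ g₁) ≫ χ := by simp only [hχ₁, Category.assoc]
    have hs₂ : χ ≫ G₂.s = ω ≫ G₂.s := G₂.comp_s ρ' ω hρω
    have hs : χ₁ ≫ G₁.s = (ω₂ ≫ G₁.i) ≫ G₁.t := by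
      rw [Category.assoc, G₁.i_t, ← cancel_mono a.fU, Category.assoc, ← a.comm_s, reassoc_of% hχ₂,
        Category.assoc ω₂ G₁.s, ← a.comm_s, reassoc_of% hω₂, hs₂]
    let γ := pullback.lift χ₁ (ω₂ ≫ G₁.i) hs ≫ G₁.c
    have hγ : γ ≫ a.fR = (g₂ ≫ g₁) ≫ ρ' := by
      have hcc := a.comm_c γ ω₂ (show γ ≫ G₁.s = ω₂ ≫ G₁.t by
        simp only [γ]; rw [G₁.comp_s, Category.assoc, G₁.i_s])
      have e1 : pullback.lift γ ω₂ (show γ ≫ G₁.s = ω₂ ≫ G₁.t by
        simp only [γ]; rw [G₁.comp_s, Category.assoc, G₁.i_s]) ≫ G₁.c = χ₁ := by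
        refine (G₁.assoc χ₁ (ω₂ ≫ G₁.i) ω₂ hs (by rw [Category.assoc, G₁.i_s])).trans ?_
        refine (c_congr G₁ _ rfl (G₁.i_comp ω₂)).trans ((c_congr G₁ _ rfl ?_).trans (G₁.comp_e χ₁))
        rw [← Category.assoc χ₁, hs]; simp only [Category.assoc, reassoc_of% G₁.i_t]
      rw [e1, hχ₂] at hcc
      have hcomp : (g₂ ≫ g₁) ≫ χ = pullback.lift ((g₂ ≫ g₁) ≫ ρ') ((g₂ ≫ g₁) ≫ ω)
          (by simp only [Category.assoc, hρω]) ≫ G₂.c := by
        rw [show χ = pullback.lift ρ' ω hρω ≫ G₂.c from rfl, ← Category.assoc]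
        congr 1
        apply pullback.hom_ext <;> simp
      rw [hcomp] at hcc
      have h := (isPullback_snd_c G₂).hom_ext
        (k := pullback.lift ((g₂ ≫ g₁) ≫ ρ') ((g₂ ≫ g₁) ≫ ω) (by simp only [Category.assoc, hρω]))
        (l := pullback.lift (γ ≫ a.fR) (ω₂ ≫ a.fR) (by
          rw [Category.assoc γ, a.comm_s, Category.assoc ω₂ a.fR, a.comm_t, ← Category.assoc γ,
            ← Category.assoc ω₂]
          congr 1
          exact (G₁.comp_s _ _ hs).trans (by rw [Category.assoc, G₁.i_s])))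
        (by simp [hω₂]) hcc
      have := congrArg (· ≫ pullback.fst G₂.s G₂.t) h
      simpa using this.symm
    refine ⟨γ (IsLocalRing.closedPoint L), ?_⟩
    rw [← Scheme.Hom.comp_apply, hγ]
    have hr' : ∀ y, ρ y = r := fun y => Scheme.fromSpecResidueField_apply _ _
    simp only [ρ', Scheme.Hom.comp_apply]
    exact hr' _
  · have hsub : Set.range ⇑(ρ ≫ G₂.s ≫ G₂.e) ⊆ Set.range ⇑W.ι := by
      rintro _ ⟨y, rfl⟩
      rw [Scheme.Opens.range_ι]
      refine ⟨G₁.e (inv a.fU ((ρ ≫ G₂.s) y)), ?_⟩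
      rw [← Scheme.Hom.comp_apply G₁.e, hom_comm_e, ← Scheme.Hom.comp_apply, IsIso.inv_hom_id_assoc]
      rfl
    let w := IsOpenImmersion.lift W.ι (ρ ≫ G₂.s ≫ G₂.e) hsub
    have hw : w ≫ W.ι = ρ ≫ G₂.s ≫ G₂.e := IsOpenImmersion.lift_fac ..
    let z := pullback.lift (𝟙 _) w (show 𝟙 _ ≫ ρ ≫ G₂.s = w ≫ W.ι ≫ G₂.t by
      rw [reassoc_of% hw, G₂.e_t, Category.comp_id, Category.id_comp])
    refine ⟨z (IsLocalRing.closedPoint _), ?_⟩
    rw [← Scheme.Hom.comp_apply]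
    have e : z ≫ (pullback.lift (pullback.fst (ρ ≫ G₂.s) (W.ι ≫ G₂.t) ≫ ρ)
        (pullback.snd (ρ ≫ G₂.s) (W.ι ≫ G₂.t) ≫ W.ι)
        ((Category.assoc _ _ _).trans (pullback.condition.trans (Category.assoc _ _ _).symm)) ≫ G₂.c) = ρ := by
      refine Eq.trans ?_ (G₂.comp_e ρ)
      refine (Category.assoc _ _ _).symm.trans (congrArg (· ≫ G₂.c) ?_)
      apply pullback.hom_ext <;> simp [z, hw] <;> exact Category.id_comp _
    rw [e]
    exact Scheme.fromSpecResidueField_apply _ _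

end Groth.Agent.GrpdLib
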