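import Groth.Agent.GrpdLib.BaseChange

/-!
# Invariants of a base change of a finite locally free groupoid
-/

set_option backward.isDefEq.respectTransparency false
set_option backward.isDefEq.respectTransparency.types false

universe u

open CategoryTheory CategoryTheory.Limits Polynomial
open scoped TensorProduct Matrix

noncomputable section

namespace Groth.Agent.GrpdLib

namespace Frame

variable {A B : Type u} [CommRing A] [CommRing B] {α : A →+* B} {n n' : ℕ}
  {A' B' : Type u} [CommRing A'] [CommRing B'] {α' : A' →+* B'}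

/-- The rank polynomial `det (1 + (X - 1) P)` of the idempotent matrix `P`. -/
def rkPoly (F : Frame α n) : A[X] := (1 + (X - 1 : A[X]) • (F.mat 1).map C).det

theorem eval₂_rkPoly (F : Frame α n) {E : Type u} [CommRing E] (h : A →+* E) (x : E) :
    F.rkPoly.eval₂ h x = (1 + (x - 1) • (F.mat 1).map h).det := by
  rw [← coe_eval₂RingHom, rkPoly, RingHom.map_det]
  congr 1
  ext i j
  simp only [RingHom.mapMatrix_apply, Matrix.map_apply, Matrix.add_apply, Matrix.smul_apply,
    smul_eq_mul, map_add, map_mul, map_sub, map_one, coe_eval₂RingHom, eval₂_X, eval₂_C]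
  congr 1
  by_cases hij : i = j <;> simp [Matrix.one_apply, hij]

theorem norm_map (F : Frame α n) (a : A) : F.norm (α a) = F.rkPoly.eval a := by
  have h : α a - 1 = α (a - 1) * 1 := by rw [map_sub, map_one, mul_one]
  rw [Polynomial.eval, eval₂_rkPoly, norm, h, F.mat_smul]
  congr 3

theorem IsMap.rkPoly {F : Frame α n} {F' : Frame α' n} {h : A →+* A'} {g : B →+* B'}
    (H : IsMap F F' h g) : F'.rkPoly = F.rkPoly.map h := by
  have h1 : F.rkPoly.map h = F.rkPoly.eval₂ (C.comp h) X := rfl
  rw [h1, eval₂_rkPoly, Frame.rkPoly]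
  congr 3
  rw [← map_one g, H.mat, Matrix.map_map]
  rfl

theorem rkPoly_eq (F : Frame α n) (F' : Frame α n') : F.rkPoly = F'.rkPoly := by
  rw [rkPoly, rkPoly, F.mat_eq_mul F', ← F.mul_eq_mat F', Matrix.map_mul, Matrix.map_mul,
    ← Matrix.smul_mul, Matrix.det_one_add_mul_comm, Matrix.mul_smul]

theorem rkPoly_mul (F : Frame α n) {E : Type u} [CommRing E] (h : A →+* E) (x y : E) :
    F.rkPoly.eval₂ h (x * y) = F.rkPoly.eval₂ h x * F.rkPoly.eval₂ h y := by
  simp only [eval₂_rkPoly, ← Matrix.det_mul]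
  congr 1
  have hP : (F.mat 1).map h * (F.mat 1).map h = (F.mat 1).map h := by
    rw [← Matrix.map_mul, ← F.mat_mul, one_mul]
  simp only [add_mul, mul_add, one_mul, mul_one, Matrix.smul_mul, Matrix.mul_smul, hP, smul_smul]
  rw [add_assoc]
  congr 1
  rw [← add_smul, ← add_smul]
  congr 1
  ring

theorem rkPoly_coeff_mul_self (F : Frame α n) (k : ℕ) :
    C (F.rkPoly.coeff k) * F.rkPoly = C (F.rkPoly.coeff k) * X ^ k := by
  have h := F.rkPoly_mul ((C : A[X] →+* A[X][X]).comp C) (C X) X
  have h1 : F.rkPoly.eval₂ ((C : A[X] →+* A[X][X]).comp C) (C X) = C F.rkPoly := by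
    rw [← hom_eval₂, eval₂_C_X]
  have h2 : F.rkPoly.eval₂ ((C : A[X] →+* A[X][X]).comp C) X = F.rkPoly.map C := rfl
  rw [h1, h2, eval₂_eq_sum_range] at h
  have h3 := congrArg (fun p => p.coeff k) h
  simp only [coeff_C_mul, coeff_map, finset_sum_coeff, mul_pow, ← map_pow, RingHom.comp_apply,
    ← mul_assoc, ← map_mul, coeff_C_mul_X_pow] at h3
  simp only [coeff_X_pow, mul_ite, mul_one, mul_zero, Finset.sum_ite_eq] at h3
  refine (mul_comm _ _).trans (h3.symm.trans ?_)
  split_ifs with hk
  · rfl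
  · rw [F.rkPoly.coeff_eq_zero_of_natDegree_lt (by simpa using hk), map_zero, zero_mul]

theorem rkPoly_sum (F : Frame α n) :
    ∑ k ∈ Finset.range (F.rkPoly.natDegree + 1), F.rkPoly.coeff k = 1 := by
  have h : F.rkPoly.eval₂ (RingHom.id A) 1 = 1 := by
    rw [eval₂_rkPoly, sub_self, zero_smul, add_zero, Matrix.det_one]
  rw [eval₂_eq_sum_range] at h
  simpa using h

theorem coeff_mul_eval₂_pow (F : Frame α n) {E : Type u} [CommRing E] (h : A →+* E) (z : E) (k j : ℕ) :
    h (F.rkPoly.coeff k) * F.rkPoly.eval₂ h z ^ j = h (F.rkPoly.coeff k) * z ^ (k * j) := by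
  have h1 := congrArg (eval₂ h z) (F.rkPoly_coeff_mul_self k)
  simp only [eval₂_mul, eval₂_C, eval₂_X_pow] at h1
  induction j with
  | zero => simp
  | succ j ih =>
    calc h (F.rkPoly.coeff k) * F.rkPoly.eval₂ h z ^ (j + 1)
        = h (F.rkPoly.coeff k) * F.rkPoly.eval₂ h z ^ j * F.rkPoly.eval₂ h z := by ring
      _ = z ^ (k * j) * (h (F.rkPoly.coeff k) * F.rkPoly.eval₂ h z) := by rw [ih]; ring
      _ = _ := by rw [h1]; ring

end Frame

namespace AffData

variable (D : AffData.{u}) (K : Subring D.A) (hK : ∀ a, a ∈ K ↔ D.s a = D.t a)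
  (R : Type u) [CommRing R] [Algebra K R]

attribute [local instance] algB algC

theorem rkPoly_map_eq {n : ℕ} (F : Frame D.s n) : F.rkPoly.map D.t = F.rkPoly.map D.s := by
  obtain ⟨F₁, H₁⟩ := F.exists_isMap D.t D.p₁ D.sq₁
  obtain ⟨F₂, H₂⟩ := F.exists_isMap D.s D.m D.sq₂
  rw [← H₁.rkPoly, ← H₂.rkPoly]
  exact F₁.rkPoly_eq F₂

theorem rkPoly_coeff_zero {n : ℕ} (F : Frame D.s n) : F.rkPoly.coeff 0 = 0 := by
  rw [coeff_zero_eq_eval_zero, ← F.norm_map, map_zero]
  exact F.norm_eq_zero D.e (RingHom.id _) D.e_s (map_zero _)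

/-- Change of the algebra in a base change. -/
abbrev rmap {M : Type u} [CommRing M] [Algebra K M] {R' : Type u} [CommRing R'] [Algebra K R']
    (φ : R →ₐ[K] R') : M ⊗[K] R →+* M ⊗[K] R' :=
  (Algebra.TensorProduct.map (AlgHom.id K M) φ).toRingHom

theorem isPushout_rmap {M N : Type u} [CommRing M] [CommRing N] [Algebra K M] [Algebra K N]
    (f : M →ₐ[K] N) {R' : Type u} [CommRing R'] [Algebra K R'] (φ : R →ₐ[K] R') :
    IsPushout (CommRingCat.ofHom (rmap (M := M) D K R φ)) (CommRingCat.ofHom (tmap R f))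
      (CommRingCat.ofHom (tmap R' f)) (CommRingCat.ofHom (rmap (M := N) D K R φ)) := by
  refine (IsPushout.of_top ?_ ?_ (isPushout_tmap R f)).flip
  · have eM : CommRingCat.ofHom (Algebra.TensorProduct.includeLeft : M →ₐ[K] M ⊗[K] R).toRingHom ≫
        CommRingCat.ofHom (rmap D K R φ) =
        CommRingCat.ofHom (Algebra.TensorProduct.includeLeft : M →ₐ[K] M ⊗[K] R').toRingHom := by
      refine CommRingCat.hom_ext (RingHom.ext fun m => ?_)
      change Algebra.TensorProduct.map (AlgHom.id K M) φ (m ⊗ₜ[K] 1) = m ⊗ₜ[K] 1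
      simp
    have eN : CommRingCat.ofHom (Algebra.TensorProduct.includeLeft : N →ₐ[K] N ⊗[K] R).toRingHom ≫
        CommRingCat.ofHom (rmap D K R φ) =
        CommRingCat.ofHom (Algebra.TensorProduct.includeLeft : N →ₐ[K] N ⊗[K] R').toRingHom := by
      refine CommRingCat.hom_ext (RingHom.ext fun m => ?_)
      change Algebra.TensorProduct.map (AlgHom.id K N) φ (m ⊗ₜ[K] 1) = m ⊗ₜ[K] 1
      simp
    rw [eM, eN]
    exact isPushout_tmap R' f
  · have h : (Algebra.TensorProduct.map (AlgHom.id K N) φ).comp (Algebra.TensorProduct.map f (AlgHom.id K R)) =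
        (Algebra.TensorProduct.map f (AlgHom.id K R')).comp (Algebra.TensorProduct.map (AlgHom.id K M) φ) :=
      Algebra.TensorProduct.ext' fun x r => by simp
    exact CommRingCat.hom_ext (congrArg AlgHom.toRingHom h)

omit [CommRing R] [Algebra K R] in
theorem exists_lift_polynomial (R : Type u) [CommRing R] [Algebra K R] (f : D.A ⊗[K] R) :
    ∃ g : D.A ⊗[K] MvPolynomial (Option R) K,
      Algebra.TensorProduct.map (AlgHom.id K D.A)
        (MvPolynomial.aeval (fun o => o.elim X Polynomial.C) : MvPolynomial (Option R) K →ₐ[K] R[X]) g =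
      Algebra.TensorProduct.map (AlgHom.id K D.A) (IsScalarTower.toAlgHom K R R[X]) f := by
  induction f using TensorProduct.induction_on with
  | zero => exact ⟨0, by simp⟩
  | tmul a c => exact ⟨a ⊗ₜ MvPolynomial.X (some c), by simp⟩
  | add a b ha hb =>
    obtain ⟨x, hx⟩ := ha
    obtain ⟨y, hy⟩ := hb
    exact ⟨x + y, by simp only [map_add, hx, hy]⟩

include hK in
/-- An invariant element of a base change is a root of a power of a linear polynomial over the base. -/
theorem exists_pow_eq {n : ℕ} (F : Frame D.s n) (f : D.A ⊗[K] R)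
    (hf : (D.baseChange K hK R).s f = (D.baseChange K hK R).t f) :
    ∃ (N : ℕ) (P : R[X]), 0 < N ∧
      P.map (Algebra.TensorProduct.includeRight : R →ₐ[K] D.A ⊗[K] R).toRingHom = (X - Polynomial.C f) ^ N := by
  classical
  let S := MvPolynomial (Option R) K
  let π : S →ₐ[K] R[X] := MvPolynomial.aeval fun o => o.elim X Polynomial.C
  let ι : R →ₐ[K] R[X] := IsScalarTower.toAlgHom K R R[X]
  obtain ⟨g, hg⟩ := exists_lift_polynomial D K R f
  let z : D.A ⊗[K] S := 1 ⊗ₜ[K] MvPolynomial.X none - g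
  let z' : D.A ⊗[K] R[X] := 1 ⊗ₜ[K] X - Algebra.TensorProduct.map (AlgHom.id K D.A) ι f
  have hz : rmap D K S π z = z' := by
    show Algebra.TensorProduct.map (AlgHom.id K D.A) π z = z'
    simp only [z, z', map_sub, hg, Algebra.TensorProduct.map_tmul, map_one, π, ι, S]
    rw [MvPolynomial.aeval_X]
    rfl
  -- `z'` is invariant
  have hnat : ∀ (M : D.A →ₐ[K] D.B) (x : D.A ⊗[K] R),
      tmap R[X] M (rmap D K R ι x) = rmap D K R ι (tmap R M x) := by
    intro M x
    have h : (Algebra.TensorProduct.map M (AlgHom.id K R[X])).comp (Algebra.TensorProduct.map (AlgHom.id K D.A) ι) =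
        (Algebra.TensorProduct.map (AlgHom.id K D.B) ι).comp (Algebra.TensorProduct.map M (AlgHom.id K R)) :=
      Algebra.TensorProduct.ext' fun a r => by simp
    exact congrArg (fun φ => φ x) h
  have hz' : tmap R[X] (tK D K hK) z' = tmap R[X] (sK D K) z' := by
    have h1 : ∀ M : D.A →ₐ[K] D.B, tmap R[X] M z' = 1 ⊗ₜ[K] X - rmap D K R ι (tmap R M f) := fun M => by
      rw [← hnat M f]
      show Algebra.TensorProduct.map M (AlgHom.id K R[X]) z' = _
      simp [z']
    rw [h1, h1]
    exact congrArg (fun w => (1 : D.B) ⊗ₜ[K] (X : R[X]) - rmap D K R ι w) hf.symm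
  -- frames
  obtain ⟨FS, HS⟩ := F.exists_isMap _ _ (isPushout_tmap S (sK D K)).flip
  obtain ⟨FX, HX⟩ := FS.exists_isMap _ _ (isPushout_rmap D K S (sK D K) π)
  obtain ⟨r, hr⟩ := D.mem_range_includeRight K hK S (FS.norm (tmap S (tK D K hK) z))
    (AffData.t_norm_eq (D := D.baseChange K hK S) FS z).symm
  have hQ : F.rkPoly.eval₂ (Algebra.TensorProduct.includeLeft : D.A →ₐ[K] D.A ⊗[K] R[X]).toRingHom z' =
      1 ⊗ₜ[K] π r := by
    have h2 : rmap D K S π (tmap S (tK D K hK) z) = tmap R[X] (sK D K) z' := by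
      rw [← hz', ← hz]
      have h : (Algebra.TensorProduct.map (tK D K hK) (AlgHom.id K R[X])).comp (Algebra.TensorProduct.map (AlgHom.id K D.A) π) =
          (Algebra.TensorProduct.map (AlgHom.id K D.B) π).comp (Algebra.TensorProduct.map (tK D K hK) (AlgHom.id K S)) :=
        Algebra.TensorProduct.ext' fun a x => by simp
      exact (congrArg (fun φ => φ z) h).symm
    have h3 : FX.norm (tmap R[X] (sK D K) z') = rmap D K S π (1 ⊗ₜ[K] r) := by
      rw [← h2, HX.norm, ← hr]
    rw [Frame.norm_map, HX.rkPoly, HS.rkPoly, Polynomial.map_map] at h3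
    have h4 : (rmap (M := D.A) D K S π).comp
        (Algebra.TensorProduct.includeLeft : D.A →ₐ[K] D.A ⊗[K] S).toRingHom =
        (Algebra.TensorProduct.includeLeft : D.A →ₐ[K] D.A ⊗[K] R[X]).toRingHom := by
      refine RingHom.ext fun a => ?_
      change Algebra.TensorProduct.map (AlgHom.id K D.A) π (a ⊗ₜ[K] 1) = a ⊗ₜ[K] 1
      simp
    rw [h4, Polynomial.eval_map] at h3
    rw [h3]
    change Algebra.TensorProduct.map (AlgHom.id K D.A) π ((1 : D.A) ⊗ₜ[K] r) = _
    simp
  -- the exponent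
  let d := F.rkPoly.natDegree
  let N := d.factorial
  have he : ∀ k, F.rkPoly.coeff k ∈ K := fun k => (hK _).2 (by
    have := congrArg (fun Q => Q.coeff k) (rkPoly_map_eq D F)
    simpa only [coeff_map] using this.symm)
  let P : R[X] := ∑ k ∈ Finset.range (d + 1), (⟨_, he k⟩ : K) • π r ^ (N / k)
  refine ⟨N, P, Nat.factorial_pos _, ?_⟩
  have key : (1 : D.A) ⊗ₜ[K] P = z' ^ N := by
    have e1 : ∀ (k : K) (w : R[X]), (1 : D.A) ⊗ₜ[K] (k • w) =
        (Algebra.TensorProduct.includeLeft : D.A →ₐ[K] D.A ⊗[K] R[X]).toRingHom (k : D.A) * ((1 : D.A) ⊗ₜ[K] w) := by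
      intro k w
      change _ = ((k : D.A) ⊗ₜ[K] (1 : R[X])) * _
      rw [Algebra.TensorProduct.tmul_mul_tmul, mul_one, one_mul, ← TensorProduct.smul_tmul,
        Algebra.smul_def, mul_one]
      rfl
    have e2 : ∀ (w : R[X]) (j : ℕ), (1 : D.A) ⊗ₜ[K] (w ^ j) = ((1 : D.A) ⊗ₜ[K] w) ^ j := fun w j => by
      rw [Algebra.TensorProduct.tmul_pow, one_pow]
    simp only [P, TensorProduct.tmul_sum, e1, e2, ← hQ, Frame.coeff_mul_eval₂_pow]
    calc _ = ∑ k ∈ Finset.range (d + 1),
          (Algebra.TensorProduct.includeLeft : D.A →ₐ[K] D.A ⊗[K] R[X]).toRingHom (F.rkPoly.coeff k) * z' ^ N := by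
            refine Finset.sum_congr rfl fun k hk => ?_
            rcases Nat.eq_zero_or_pos k with rfl | hpos
            · rw [rkPoly_coeff_zero D F, map_zero, zero_mul, zero_mul]
            · rw [Nat.mul_div_cancel' (Nat.dvd_factorial hpos (by simpa [Nat.lt_succ_iff] using hk))]
      _ = _ := by rw [← Finset.sum_mul, ← map_sum, F.rkPoly_sum, map_one, one_mul]
  let ψ : D.A ⊗[K] R[X] →ₐ[K] (D.A ⊗[K] R)[X] :=
    Algebra.TensorProduct.lift
      ((IsScalarTower.toAlgHom K (D.A ⊗[K] R) (D.A ⊗[K] R)[X]).comp Algebra.TensorProduct.includeLeft)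
      (mapAlgHom (Algebra.TensorProduct.includeRight : R →ₐ[K] D.A ⊗[K] R)) (fun _ _ => Commute.all _ _)
  have e3 : ∀ Q : R[X], ψ ((1 : D.A) ⊗ₜ[K] Q) =
      Q.map (Algebra.TensorProduct.includeRight : R →ₐ[K] D.A ⊗[K] R).toRingHom := fun Q => by
    simp [ψ, mapAlgHom, ← Algebra.TensorProduct.one_def]
  have e4 : ψ.comp (Algebra.TensorProduct.map (AlgHom.id K D.A) ι) =
      IsScalarTower.toAlgHom K (D.A ⊗[K] R) (D.A ⊗[K] R)[X] :=
    Algebra.TensorProduct.ext' fun a c => by
      simp [ψ, ι, mapAlgHom, ← map_mul]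
  rw [← e3, key, map_pow, map_sub, e3, Polynomial.map_X]
  exact congrArg (fun w => (X - w) ^ N) (congrArg (fun φ => φ f) e4)

theorem includeRight_field_injective (k L L' : Type u) [Field k] [Field L] [Field L'] [Algebra k L]
    [Algebra k L'] :
    Function.Injective (Algebra.TensorProduct.includeRight : L' →ₐ[k] L ⊗[k] L') :=
  Algebra.TensorProduct.includeRight_injective (algebraMap k L).injective

/-- The kernel of the base change of an injective integral map is nil. -/
theorem isNilpotent_of_includeRight_eq_zero {K A : Type u} [CommRing K] [CommRing A] [Algebra K A]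
    (hsurj : Function.Surjective (PrimeSpectrum.comap (algebraMap K A))) (R : Type u) [CommRing R]
    [Algebra K R] (c : R) (hc : (Algebra.TensorProduct.includeRight : R →ₐ[K] A ⊗[K] R) c = 0) :
    IsNilpotent c := by
  rw [nilpotent_iff_mem_prime]
  intro p hp
  obtain ⟨q, hq⟩ := hsurj (PrimeSpectrum.comap (algebraMap K R) ⟨p, hp⟩)
  have hq' : p.comap (algebraMap K R) = q.asIdeal.comap (algebraMap K A) :=
    (congrArg PrimeSpectrum.asIdeal hq).symm
  let p₀ := p.comap (algebraMap K R)
  let a : p₀.ResidueField →+* q.asIdeal.ResidueField := Ideal.ResidueField.map p₀ q.asIdeal (algebraMap K A) hq'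
  let b : p₀.ResidueField →+* p.ResidueField := Ideal.ResidueField.map p₀ p (algebraMap K R) rfl
  let : Algebra p₀.ResidueField q.asIdeal.ResidueField := a.toAlgebra
  let : Algebra p₀.ResidueField p.ResidueField := b.toAlgebra
  have : IsScalarTower K p₀.ResidueField q.asIdeal.ResidueField :=
    IsScalarTower.of_algebraMap_eq fun x => by
      rw [RingHom.algebraMap_toAlgebra, IsScalarTower.algebraMap_apply K A q.asIdeal.ResidueField]
      exact (Ideal.ResidueField.map_algebraMap ..).symm
  have : IsScalarTower K p₀.ResidueField p.ResidueField :=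
    IsScalarTower.of_algebraMap_eq fun x => by
      rw [RingHom.algebraMap_toAlgebra, IsScalarTower.algebraMap_apply K R p.ResidueField]
      exact (Ideal.ResidueField.map_algebraMap ..).symm
  let T := q.asIdeal.ResidueField ⊗[p₀.ResidueField] p.ResidueField
  let φ : A ⊗[K] R →ₐ[K] T := Algebra.TensorProduct.lift
    (((Algebra.TensorProduct.includeLeft : q.asIdeal.ResidueField →ₐ[p₀.ResidueField] T).restrictScalars K).comp
      (IsScalarTower.toAlgHom K A _))
    (((Algebra.TensorProduct.includeRight : p.ResidueField →ₐ[p₀.ResidueField] T).restrictScalars K).comp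
      (IsScalarTower.toAlgHom K R _)) (fun _ _ => Commute.all _ _)
  have h := congrArg φ hc
  rw [map_zero, Algebra.TensorProduct.includeRight_apply, Algebra.TensorProduct.lift_tmul, map_one, one_mul] at h
  have hinj : Function.Injective (Algebra.TensorProduct.includeRight : p.ResidueField →ₐ[p₀.ResidueField] T) :=
    includeRight_field_injective p₀.ResidueField q.asIdeal.ResidueField p.ResidueField
  exact Ideal.algebraMap_residueField_eq_zero.1 (hinj (h.trans (map_zero _).symm))

end AffData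

end Groth.Agent.GrpdLib
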