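import Groth.Agent.GrpdLib.InvOpen
import Mathlib.AlgebraicGeometry.Sites.Etale
import Mathlib.AlgebraicGeometry.Morphisms.UniversallyOpen
import Mathlib.AlgebraicGeometry.Sites.Fpqc

/-!
# The largest open where a local property holds is invariant
-/

set_option backward.isDefEq.respectTransparency false
set_option backward.isDefEq.respectTransparency.types false

universe u

open CategoryTheory CategoryTheory.Limits AlgebraicGeometry Grpd

namespace Groth.Agent.GrpdLib

theorem exists_isPullback_restrict {X XR R U : Scheme.{u}} {a : XR ⟶ X} {q : XR ⟶ R} {f : X ⟶ U} {m : R ⟶ U}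
    (h : IsPullback a q f m) {W : U.Opens} {T : R.Opens} (k : T.toScheme ⟶ W.toScheme)
    (hk : k ≫ W.ι = T.ι ≫ m) : ∃ a', IsPullback a' (q ∣_ T) (f ∣_ W) k := by
  have h1 := (isPullback_morphismRestrict q T).flip.paste_horiz h
  rw [← hk] at h1
  have h2 := (isPullback_morphismRestrict f W).flip
  refine ⟨h2.lift ((q ⁻¹ᵁ T).ι ≫ a) ((q ∣_ T) ≫ k) (by rw [Category.assoc, h.w, Category.assoc, hk, morphismRestrict_ι_assoc]), ?_⟩
  refine IsPullback.of_right ?_ ?_ h2
  · rw [IsPullback.lift_fst]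
    exact h1
  · rw [IsPullback.lift_snd]

variable {S : Scheme.{u}} (G : GroupoidScheme S)

theorem isInv_largest {P : MorphismProperty Scheme.{u}} {Q : MorphismProperty Scheme.{u}}
    (hcomp : ∀ {X Y Z : Scheme.{u}} (i : X ⟶ Y) [IsOpenImmersion i] (g : Y ⟶ Z), Q g → Q (i ≫ g))
    [IsZariskiLocalAtTarget Q] [P.IsLocalAtTarget (Scheme.precoverage Q)]
    (hQ : ∀ {X Y : Scheme.{u}} (g : X ⟶ Y), Q g → IsOpenMap g)
    (hs : Q G.s) (ht : Q G.t)
    {X : Scheme.{u}} (f : X ⟶ G.U) {XR : Scheme.{u}} {a b : XR ⟶ X} {q : XR ⟶ G.R}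
    (ha : IsPullback a q f G.s) (hb : IsPullback b q f G.t)
    (W : G.U.Opens) (hW : P (f ∣_ W)) (hmax : ∀ W' : G.U.Opens, P (f ∣_ W') → W' ≤ W) : IsInv G W := by
  suffices hts : ∀ r : G.R, G.t r ∈ W → G.s r ∈ W by
    refine isInv_of_mem fun r hr => ?_
    have := hts (G.i r) (by rw [← Scheme.Hom.comp_apply, G.i_t]; exact hr)
    rwa [← Scheme.Hom.comp_apply, G.i_s] at this
  let T : G.R.Opens := G.t ⁻¹ᵁ W
  let W' : G.U.Opens := ⟨G.s '' T, hQ G.s hs _ T.isOpen⟩
  have hle : T ≤ G.s ⁻¹ᵁ W' := fun r hr => ⟨r, hr, rfl⟩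
  let k := G.s.resLE W' T hle
  obtain ⟨a', ha'⟩ := exists_isPullback_restrict ha k (Scheme.Hom.resLE_comp_ι ..)
  obtain ⟨b', hb'⟩ := exists_isPullback_restrict hb (G.t ∣_ W) (morphismRestrict_ι ..)
  have hQt : Q (G.t ∣_ W) := IsZariskiLocalAtTarget.restrict ht W
  have htsurj : Surjective (G.t ∣_ W) := by
    refine IsZariskiLocalAtTarget.restrict (P := @Surjective) ⟨fun x => ⟨G.e x, ?_⟩⟩ W
    rw [← Scheme.Hom.comp_apply, G.e_t]
    rfl
  have hcovt : Presieve.singleton (G.t ∣_ W) ∈ Scheme.precoverage Q W.toScheme :=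
    (Scheme.singleton_mem_precoverage_iff _ _).2 ⟨htsurj.surj, hQt⟩
  have hq : P (q ∣_ T) := by
    have : HasPullback (f ∣_ W) (G.t ∣_ W) := hb'.hasPullback
    rw [← hb'.isoPullback_hom_snd, P.cancel_left_of_respectsIso]
    exact MorphismProperty.IsLocalAtTarget.pullbackSnd hcovt ⟨⟩ hW
  have hQk : Q k := hcomp _ _ (IsZariskiLocalAtTarget.restrict hs W')
  have hksurj : Function.Surjective k := by
    rintro ⟨x, r, hr, rfl⟩
    refine ⟨⟨r, hr⟩, ?_⟩
    apply W'.ι.isOpenEmbedding.injective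
    rw [← Scheme.Hom.comp_apply, Scheme.Hom.resLE_comp_ι]
    rfl
  have hcovk : Presieve.singleton k ∈ Scheme.precoverage Q W'.toScheme :=
    (Scheme.singleton_mem_precoverage_iff _ _).2 ⟨hksurj, hQk⟩
  have hW' : P (f ∣_ W') := by
    refine MorphismProperty.IsLocalAtTarget.of_forall_pullbackSnd hcovk ?_
    rintro _ _ _ ⟨⟩
    rw [← ha'.isoPullback_inv_snd, P.cancel_left_of_respectsIso]
    exact hq
  exact fun r hr => hmax W' hW' ⟨r, hr, rfl⟩

theorem isInv_largest_of_cases (K : Precoverage Scheme.{u})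
    (hK : K = Scheme.zariskiPrecoverage ∨ K = Scheme.etalePrecoverage ∨ K = Scheme.precoverage @Smooth ∨
      K = Scheme.fppfPrecoverage)
    (P : MorphismProperty Scheme.{u}) [P.IsLocalAtTarget K]
    (hs : Presieve.singleton G.s ∈ K G.U) (ht : Presieve.singleton G.t ∈ K G.U)
    {X : Scheme.{u}} (f : X ⟶ G.U) {XR : Scheme.{u}} {a b : XR ⟶ X} {q : XR ⟶ G.R}
    (ha : IsPullback a q f G.s) (hb : IsPullback b q f G.t)
    (W : G.U.Opens) (hW : P (f ∣_ W)) (hmax : ∀ W' : G.U.Opens, P (f ∣_ W') → W' ≤ W) : IsInv G W := by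
  rcases hK with rfl | rfl | rfl | rfl
  · have : P.IsLocalAtTarget (Scheme.precoverage @IsOpenImmersion) := ‹_›
    exact isInv_largest G (Q := @IsOpenImmersion) (fun i _ g hg => inferInstance)
      (fun g _ => g.isOpenEmbedding.isOpenMap)
      ((Scheme.singleton_mem_precoverage_iff _ _).1 hs).2 ((Scheme.singleton_mem_precoverage_iff _ _).1 ht).2
      f ha hb W hW hmax
  · have : P.IsLocalAtTarget (Scheme.precoverage @Etale) := ‹_›
    exact isInv_largest G (Q := @Etale) (fun i _ g hg => inferInstance) (fun g _ => g.isOpenMap)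
      ((Scheme.singleton_mem_precoverage_iff _ _).1 hs).2 ((Scheme.singleton_mem_precoverage_iff _ _).1 ht).2
      f ha hb W hW hmax
  · exact isInv_largest G (Q := @Smooth) (fun i _ g hg => inferInstance) (fun g _ => g.isOpenMap)
      ((Scheme.singleton_mem_precoverage_iff _ _).1 hs).2 ((Scheme.singleton_mem_precoverage_iff _ _).1 ht).2
      f ha hb W hW hmax
  · have : P.IsLocalAtTarget (Scheme.precoverage (@Flat ⊓ @LocallyOfFinitePresentation : MorphismProperty Scheme.{u})) := ‹_›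
    exact isInv_largest G (Q := (@Flat ⊓ @LocallyOfFinitePresentation : MorphismProperty Scheme.{u}))
      (fun i _ g ⟨_, _⟩ => ⟨inferInstance, inferInstance⟩) (fun g ⟨_, _⟩ => g.isOpenMap)
      ((Scheme.singleton_mem_precoverage_iff _ _).1 hs).2 ((Scheme.singleton_mem_precoverage_iff _ _).1 ht).2
      f ha hb W hW hmax

end Groth.Agent.GrpdLib
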