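import Groth.Agent.GrpdLib.BaseChange
import Groth.Agent.GrpdLib.Basis

/-!
# An affine finite locally free equivalence relation has a finite locally free quotient
-/

set_option backward.isDefEq.respectTransparency false
set_option backward.isDefEq.respectTransparency.types false

universe u

open CategoryTheory CategoryTheory.Limits
open scoped TensorProduct

noncomputable section

namespace Groth.Agent.GrpdLib

/-- A family which spans modulo every maximal ideal spans. -/
theorem span_eq_top_of_maximal {R M : Type u} [CommRing R] [AddCommGroup M] [Module R M] [Module.Finite R M]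
    (N : Submodule R M) (h : ∀ P : Ideal R, P.IsMaximal → N ⊔ P • ⊤ = ⊤) : N = ⊤ := by
  have hcol : N.colon (⊤ : Submodule R M) = ⊤ := by
    by_contra hne
    obtain ⟨P, hP, hle⟩ := Ideal.exists_le_maximal _ hne
    have hle' : (⊤ : Submodule R (M ⧸ N)) ≤ P • ⊤ := by
      have h2 := congrArg (Submodule.map N.mkQ) (h P hP)
      rw [Submodule.map_sup, Submodule.map_smul'', Submodule.map_top, N.range_mkQ, N.mkQ_map_self, bot_sup_eq] at h2
      exact h2.ge
    obtain ⟨r, hr1, hr⟩ := Submodule.exists_sub_one_mem_and_smul_eq_zero_of_fg_of_le_smul P _ Module.Finite.fg_top hle'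
    have hrN : r ∈ N.colon (⊤ : Submodule R M) := Submodule.mem_colon.2 fun z _ => by
      have := hr (Submodule.Quotient.mk z) trivial
      rwa [← Submodule.Quotient.mk_smul, Submodule.Quotient.mk_eq_zero] at this
    have h1 : (1 : R) ∈ P := by simpa using P.sub_mem (hle hrN) hr1
    exact hP.ne_top (P.eq_top_of_isUnit_mem h1 isUnit_one)
  rw [eq_top_iff]
  intro z _
  have h1 : (1 : R) ∈ N.colon (⊤ : Submodule R M) := hcol ▸ trivial
  simpa using Submodule.mem_colon.1 h1 z trivial

/-- Descending the basis property of a family along a field extension of the residue field. -/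
theorem span_sup_eq_top_and_finrank {A B L B' : Type u} [CommRing A] [CommRing B] [Field L] [CommRing B']
    [Algebra A B] [Module.Finite A B] {h : A →+* L} {α' : L →+* B'} {g : B →+* B'}
    (hpo : IsPushout (CommRingCat.ofHom h) (CommRingCat.ofHom (algebraMap A B)) (CommRingCat.ofHom α')
      (CommRingCat.ofHom g))
    (p : Ideal A) [p.IsMaximal] (hp : RingHom.ker h = p) {r : ℕ} (y : Fin r → B) :
    (letI := α'.toAlgebra; LinearIndependent L (g ∘ y) ∧ Module.finrank L B' = r) ↔
      Submodule.span A (Set.range y) ⊔ p • ⊤ = (⊤ : Submodule A B) ∧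
        Module.finrank p.ResidueField (p.Fiber B) = r := by
  algebraize [h, α', g, α'.comp h]
  have htow : IsScalarTower A B B' := IsScalarTower.of_algebraMap_eq' (congrArg CommRingCat.Hom.hom hpo.w)
  have hpush : Algebra.IsPushout A L B B' := CommRingCat.isPushout_iff_isPushout.1 hpo
  let i : p.ResidueField →+* L := Ideal.ResidueField.lift p h hp.ge fun a ha => by
    rw [Submonoid.mem_comap, IsUnit.mem_submonoid_iff, isUnit_iff_ne_zero]
    exact fun h0 => ha (hp ▸ h0)
  have hi : ∀ a, i (algebraMap A p.ResidueField a) = h a := fun a => by simp [i]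
  algebraize [i, α'.comp i]
  have : IsScalarTower A p.ResidueField L :=
    IsScalarTower.of_algebraMap_eq' (RingHom.ext fun a => (hi a).symm)
  have : IsScalarTower A p.ResidueField B' :=
    IsScalarTower.of_algebraMap_eq' (RingHom.ext fun a =>
      (congrArg α' (hi a)).symm)
  let f : B →ₗ[A] p.Fiber B := TensorProduct.mk A p.ResidueField B 1
  have hf : IsBaseChange p.ResidueField f := TensorProduct.isBaseChange A B p.ResidueField
  let f' : p.Fiber B →ₗ[p.ResidueField] B' := hf.lift (IsScalarTower.toAlgHom A B B').toLinearMap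
  have hf' : IsBaseChange L f' := by
    refine hf.of_comp ?_
    have : (f' : p.Fiber B →ₗ[A] B') ∘ₗ f = (IsScalarTower.toAlgHom A B B').toLinearMap :=
      LinearMap.ext fun b => hf.lift_eq _ b
    rw [this]
    exact hpush.out
  have hcomp : g ∘ y = f' ∘ (f ∘ y) := funext fun j => (hf.lift_eq (IsScalarTower.toAlgHom A B B').toLinearMap (y j)).symm
  have hrk : Module.finrank L B' = Module.finrank p.ResidueField (p.Fiber B) := by
    rw [← hf'.equiv.finrank_eq, Module.finrank_baseChange]
  have hker : ∀ b, f b = 0 → b ∈ p • (⊤ : Submodule A B) := fun b hb => by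
    have hex : Function.Exact (p.subtype.rTensor B) ((Algebra.linearMap A p.ResidueField).rTensor B) := by
      refine rTensor_exact B ?_ p.algebraMap_residueField_surjective
      intro a
      rw [Algebra.linearMap_apply, Ideal.algebraMap_residueField_eq_zero]
      exact ⟨fun ha => ⟨⟨a, ha⟩, rfl⟩, fun ⟨a', ha'⟩ => ha' ▸ a'.2⟩
    obtain ⟨w, hw⟩ := (hex (1 ⊗ₜ[A] b)).1 (by simpa [f] using hb)
    have hb' : TensorProduct.lid A B (p.subtype.rTensor B w) = b := by rw [hw]; simp
    rw [← hb']
    clear hw hb'
    induction w using TensorProduct.induction_on with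
    | zero => simp
    | add a c ha hc => simpa using Submodule.add_mem _ ha hc
    | tmul a c => simpa using Submodule.smul_mem_smul a.2 (Submodule.mem_top (x := c))
  have hzero : ∀ b ∈ p • (⊤ : Submodule A B), f b = 0 := fun b hb => by
    refine Submodule.smul_induction_on hb (fun a ha c _ => ?_) fun c d hc hd => by rw [map_add, hc, hd, add_zero]
    rw [map_smul]
    show a • ((1 : p.ResidueField) ⊗ₜ[A] c) = 0
    rw [TensorProduct.smul_tmul', Algebra.smul_def, mul_one, Ideal.algebraMap_residueField_eq_zero.2 ha,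
      TensorProduct.zero_tmul]
  rw [hcomp]
  constructor
  · rintro ⟨hli, hr⟩
    have hli' : LinearIndependent p.ResidueField (f ∘ y) :=
      (hli.restrict_scalars' p.ResidueField).of_comp f'
    have hspan : Submodule.span p.ResidueField (Set.range (f ∘ y)) = ⊤ :=
      hli'.span_eq_top_of_card_eq_finrank' (by rw [Fintype.card_fin, ← hrk, hr])
    refine ⟨eq_top_iff.2 fun b _ => ?_, hrk ▸ hr⟩
    obtain ⟨c, hc⟩ := (Submodule.mem_span_range_iff_exists_fun _).1
      (hspan.ge (Submodule.mem_top (x := f b)))
    choose a ha using fun j => p.algebraMap_residueField_surjective (c j)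
    have h0 : f (b - ∑ j, a j • y j) = 0 := by
      rw [map_sub, sub_eq_zero, map_sum, ← hc]
      refine Finset.sum_congr rfl fun j _ => ?_
      rw [map_smul, ← ha, algebraMap_smul]
      rfl
    rw [← add_sub_cancel (∑ j, a j • y j) b]
    refine Submodule.add_mem_sup ?_ (hker _ h0)
    exact Submodule.sum_mem _ fun j _ => Submodule.smul_mem _ _ (Submodule.subset_span ⟨j, rfl⟩)
  · rintro ⟨hspan, hr⟩
    have hs : Submodule.span p.ResidueField (Set.range (f ∘ y)) = ⊤ := by
      have hfb : ∀ b, f b ∈ Submodule.span p.ResidueField (Set.range (f ∘ y)) := fun b => by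
        obtain ⟨c, hc, d, hd, rfl⟩ := Submodule.mem_sup.1 (hspan.ge (Submodule.mem_top (x := b)))
        rw [map_add, hzero d hd, add_zero]
        have : f c ∈ (Submodule.span A (Set.range y)).map f := ⟨c, hc, rfl⟩
        rw [Submodule.map_span, ← Set.range_comp] at this
        exact Submodule.span_le_restrictScalars A p.ResidueField _ this
      refine eq_top_iff.2 fun z hz0 => ?_
      clear hz0
      induction z using hf.inductionOn with
      | zero => exact zero_mem _
      | tmul b => exact hfb b
      | smul a z hz => exact Submodule.smul_mem _ a hz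
      | add z z' hz hz' => exact add_mem hz hz'
    let b₀ := Module.Basis.mk (linearIndependent_of_top_le_span_of_card_eq_finrank hs.ge
      (by rw [Fintype.card_fin, hr])) hs.ge
    let b₁ := hf'.basis b₀
    have hb₁ : ⇑b₁ = f' ∘ (f ∘ y) := funext fun j => by
      rw [hf'.basis_apply, Function.comp_apply, Module.Basis.mk_apply]
    exact ⟨hb₁ ▸ b₁.linearIndependent, hrk.trans hr⟩

namespace AffData

variable (D : AffData.{u}) (K : Subring D.A) (hK : ∀ a, a ∈ K ↔ D.s a = D.t a)

/-- The hypotheses describing an equivalence relation: `B` is generated by `s(A)` and `t(A)`. -/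
structure IsRel : Prop where
  fin : letI := D.s.toAlgebra; Module.Finite D.A D.B
  proj : letI := D.s.toAlgebra; Module.Projective D.A D.B
  gen : letI := D.s.toAlgebra; Submodule.span D.A (Set.range D.t) = ⊤
  int : ∀ a : D.A, IsIntegral K a
  orbit : ∀ p q : Ideal D.A, p.IsPrime → q.IsPrime → p.comap K.subtype = q.comap K.subtype →
    ∃ r : Ideal D.B, r.IsPrime ∧ r.comap D.t = p ∧ r.comap D.s = q

variable {D K} (H : IsRel D K) (m : Ideal K) [m.IsMaximal]
include H

omit [m.IsMaximal] in
theorem IsRel.isMaximal_of_comap (hm : m.IsMaximal) {p : Ideal D.A} [p.IsPrime] (h : p.comap K.subtype = m) :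
    p.IsMaximal :=
  have : Algebra.IsIntegral K D.A := ⟨H.int⟩
  Ideal.isMaximal_of_isIntegral_of_isMaximal_comap (R := K) p (by rw [show algebraMap K D.A = K.subtype from rfl, h]; exact hm)

theorem IsRel.exists_family :
    ∃ (r : ℕ) (x : Fin r → D.A), letI := D.s.toAlgebra;
      ∀ (p : Ideal D.A) [p.IsPrime], p.comap K.subtype = m →
        Submodule.span D.A (Set.range (D.t ∘ x)) ⊔ p • ⊤ = (⊤ : Submodule D.A D.B) ∧
          Module.rankAtStalk D.B ⟨p, inferInstance⟩ = r := by
  let h1 : Algebra D.A D.B := D.s.toAlgebra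
  have := H.fin
  have hint : Algebra.IsIntegral K D.A := ⟨H.int⟩
  obtain ⟨u, hu, hum⟩ := Ideal.exists_ideal_over_maximal_of_isIntegral (S := D.A) m (by
    rw [(RingHom.injective_iff_ker_eq_bot (algebraMap K D.A)).1 (fun a b => Subtype.ext)]
    exact bot_le)
  let f : D.B →ₗ[D.A] u.Fiber D.B := TensorProduct.mk D.A u.ResidueField D.B 1
  have hspan : Submodule.span u.ResidueField (f '' Set.range D.t) = ⊤ := by
    refine eq_top_iff.2 fun z hz0 => ?_
    clear hz0
    induction z using (TensorProduct.isBaseChange D.A D.B u.ResidueField).inductionOn with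
    | zero => exact zero_mem _
    | tmul b =>
      refine Submodule.span_le_restrictScalars D.A u.ResidueField _ ?_
      rw [← Submodule.map_span, H.gen]
      exact ⟨b, trivial, rfl⟩
    | smul a z hz => exact Submodule.smul_mem _ a hz
    | add z z' hz hz' => exact add_mem hz hz'
  obtain ⟨y, hy, hys, hyli⟩ := Submodule.exists_fun_fin_finrank_span_eq u.ResidueField (f '' Set.range D.t)
  choose b hb hfb using hy
  choose x hx using hb
  refine ⟨_, x, fun p _ hp => ?_⟩
  have hu' : Submodule.span D.A (Set.range (D.t ∘ x)) ⊔ u • ⊤ = (⊤ : Submodule D.A D.B) ∧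
      Module.finrank u.ResidueField (u.Fiber D.B) =
        Module.finrank u.ResidueField (Submodule.span u.ResidueField (f '' Set.range D.t)) := by
    have hpo := CommRingCat.isPushout_tensorProduct D.A u.ResidueField D.B
    have halg : ((Algebra.TensorProduct.includeLeftRingHom :
        u.ResidueField →+* u.ResidueField ⊗[D.A] D.B).toAlgebra : Algebra u.ResidueField (u.Fiber D.B)) =
        Algebra.TensorProduct.leftAlgebra := Algebra.algebra_ext _ _ fun _ => rfl
    have key := span_sup_eq_top_and_finrank hpo u u.ker_algebraMap_residueField (D.t ∘ x)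
    rw [halg] at key
    refine key.1 ⟨?_, ?_⟩
    · rw [show (Algebra.TensorProduct.includeRight.toRingHom ∘ D.t ∘ x) = y from
        funext fun j => (congrArg f (hx j)).trans (hfb j)]
      exact hyli
    · rw [hspan, finrank_top]
  obtain ⟨ρ, hρ, hρp, hρu⟩ := H.orbit p u inferInstance inferInstance (hp.trans hum.symm)
  have := H.isMaximal_of_comap m inferInstance hp
  let L := ρ.ResidueField
  let : Algebra D.B D.C := D.p₂.toAlgebra
  have hpo : IsPushout (CommRingCat.ofHom (algebraMap D.B L)) (CommRingCat.ofHom D.p₂)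
      (CommRingCat.ofHom (algebraMap L (L ⊗[D.B] D.C)))
      (CommRingCat.ofHom (Algebra.TensorProduct.includeRight : D.C →ₐ[D.B] L ⊗[D.B] D.C).toRingHom) :=
    CommRingCat.isPushout_tensorProduct D.B L D.C
  have h₁ := D.sq₁.paste_horiz hpo
  have h₂ := D.sq₂.paste_horiz hpo
  rw [← CommRingCat.ofHom_comp, ← CommRingCat.ofHom_comp] at h₁ h₂
  have hker : ∀ (φ : D.A →+* D.B) (q : Ideal D.A), ρ.comap φ = q → RingHom.ker ((algebraMap D.B L).comp φ) = q :=
    fun φ q hq => by rw [← RingHom.comap_ker, Ideal.ker_algebraMap_residueField, hq]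
  have e₂ := (span_sup_eq_top_and_finrank h₂ u (hker D.s u hρu) (D.t ∘ x)).2 hu'
  have e : ∀ (g : D.C →+* L ⊗[D.B] D.C), (g.comp D.p₁) ∘ (D.t ∘ x) = (g.comp D.m) ∘ (D.t ∘ x) :=
    fun g => funext fun j => congrArg g (D.m_t_apply (x j)).symm
  obtain ⟨e₃, e₄⟩ := (span_sup_eq_top_and_finrank h₁ p (hker D.t p hρp) (D.t ∘ x)).1
    (by rw [e]; exact e₂)
  have := H.proj
  exact ⟨e₃, by rw [Module.rankAtStalk_eq]; exact e₄⟩

attribute [local instance] algB algC

set_option maxHeartbeats 800000 in
include hK in
theorem IsRel.basis_localization :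
    ∃ (r : ℕ) (x : Fin r → D.A), letI := (D.baseChange K hK (Localization.AtPrime m)).s.toAlgebra;
      ∃ b : Module.Basis (Fin r) (D.baseChange K hK (Localization.AtPrime m)).A
        (D.baseChange K hK (Localization.AtPrime m)).B,
        ∀ i, b i = (D.baseChange K hK (Localization.AtPrime m)).t (x i ⊗ₜ[K] 1) := by
  obtain ⟨r, x, hx⟩ := H.exists_family m
  let h1 : Algebra D.A D.B := D.s.toAlgebra
  have := H.fin
  have := H.proj
  let R := Localization.AtPrime m
  let A' := D.A ⊗[K] R
  let B' := D.B ⊗[K] R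
  let iA : D.A →+* A' := Algebra.TensorProduct.includeLeftRingHom
  let iB : D.B →+* B' := Algebra.TensorProduct.includeLeftRingHom
  let s' : A' →+* B' := tmap R (sK D K)
  let : Algebra A' B' := s'.toAlgebra
  have : IsScalarTower D.A A' B' := ⟨fun a z w => by
    show s' (a • z) * w = a • (s' z * w)
    rw [← smul_mul_assoc]
    congr 1
    induction z using TensorProduct.induction_on with
    | zero => simp
    | add z z' hz hz' => simp only [smul_add, map_add, hz, hz']
    | tmul b c =>
      show (Algebra.TensorProduct.map (sK D K) (AlgHom.id K R)) (a • b ⊗ₜ[K] c) =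
        a • (Algebra.TensorProduct.map (sK D K) (AlgHom.id K R)) (b ⊗ₜ[K] c)
      rw [TensorProduct.smul_tmul', Algebra.TensorProduct.map_tmul, Algebra.TensorProduct.map_tmul,
        TensorProduct.smul_tmul']
      congr 1
      rw [Algebra.smul_def, Algebra.smul_def, map_mul]
      rfl⟩
  have hsq := isPushout_tmap R (sK D K)
  have hpush : Algebra.IsPushout D.A A' D.B B' := CommRingCat.isPushout_iff_isPushout.1 hsq.flip
  have hfin : Module.Finite A' B' := Module.Finite.of_surjective hpush.out.equiv.toLinearMap hpush.out.equiv.surjective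
  have hproj : Module.Projective A' B' := Module.Projective.of_equiv hpush.out.equiv
  refine ⟨r, x, ?_⟩
  let y : Fin r → B' := fun i => iB (D.t (x i))
  -- maximal ideals lie over `m`
  have hmax : ∀ P : Ideal A', P.IsMaximal → (P.comap iA).comap K.subtype = m := by
    intro P hP
    have hint : Algebra.IsIntegral K D.A := ⟨H.int⟩
    let inR : R →+* A' := (Algebra.TensorProduct.includeRight : R →ₐ[K] A').toRingHom
    have hRint : inR.IsIntegral := by
      intro z
      induction z using TensorProduct.induction_on with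
      | zero => exact inR.isIntegralElem_zero
      | add a b ha hb => exact ha.add inR hb
      | tmul a c =>
        rw [show a ⊗ₜ[K] c = iA a * inR c by
          show a ⊗ₜ[K] c = (a ⊗ₜ[K] (1 : R)) * ((1 : D.A) ⊗ₜ[K] c)
          simp]
        refine RingHom.IsIntegralElem.mul inR ?_ inR.isIntegralElem_map
        obtain ⟨q, hq, hq0⟩ := hint.isIntegral a
        refine ⟨q.map (algebraMap K R), hq.map _, ?_⟩
        rw [Polynomial.eval₂_map]
        have := congrArg iA hq0
        rw [map_zero, Polynomial.hom_eval₂] at this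
        convert! this using 2
        ext k
        simp [inR, iA]
        rfl
    have h1 := Ideal.isMaximal_comap_of_isIntegral_of_isMaximal' inR hRint P
    rw [IsLocalRing.eq_maximalIdeal h1 |> fun e => show (P.comap iA).comap K.subtype =
        (P.comap inR).comap (algebraMap K R) by
      rw [Ideal.comap_comap, Ideal.comap_comap]
      congr 1
      ext k
      simp [inR, iA]
      rfl,
      IsLocalRing.eq_maximalIdeal h1]
    exact IsLocalization.AtPrime.comap_maximalIdeal R m
  have hspanA : Submodule.span A' (Set.range y) = ⊤ := by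
    refine span_eq_top_of_maximal _ fun P hP => eq_top_iff.2 fun z hz0 => ?_
    clear hz0
    have hp := (hx (P.comap iA) (hmax P hP)).1
    induction z using hpush.out.inductionOn with
    | zero => exact zero_mem _
    | smul a z hz => exact Submodule.smul_mem _ a hz
    | add z z' hz hz' => exact add_mem hz hz'
    | tmul b =>
      obtain ⟨c, hc, d, hd, rfl⟩ := Submodule.mem_sup.1 (hp.ge (Submodule.mem_top (x := b)))
      rw [map_add]
      refine Submodule.add_mem_sup ?_ ?_
      · have : (IsScalarTower.toAlgHom D.A D.B B').toLinearMap c ∈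
            (Submodule.span D.A (Set.range (D.t ∘ x))).map (IsScalarTower.toAlgHom D.A D.B B').toLinearMap :=
          ⟨c, hc, rfl⟩
        rw [Submodule.map_span, ← Set.range_comp] at this
        exact Submodule.span_le_restrictScalars D.A A' _ this
      · refine Submodule.smul_induction_on hd (fun a ha e _ => ?_) fun e e' he he' => ?_
        · rw [map_smul, ← algebraMap_smul A' a]
          exact Submodule.smul_mem_smul ha Submodule.mem_top
        · rw [map_add]
          exact add_mem he he'
  let φ : (Fin r → A') →ₗ[A'] B' := Fintype.linearCombination A' y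
  have hφs : Function.Surjective φ := by
    rw [← LinearMap.range_eq_top, Fintype.range_linearCombination, hspanA]
  have : Module.Flat A' B' := Module.Flat.of_projective
  have hφ : Function.Bijective φ := by
    refine Module.bijective_of_surjective_of_rankAtStalk_eq hφs fun P hP => ?_
    have : Nontrivial A' := ⟨⟨0, 1, fun h01 => hP.ne_top (P.eq_top_iff_one.2 (h01 ▸ P.zero_mem))⟩⟩
    rw [Module.rankAtStalk_eq_finrank_of_free, Module.rankAtStalk_isBaseChange hpush.out,
      show PrimeSpectrum.comap (algebraMap D.A A') ⟨P, inferInstance⟩ = ⟨P.comap iA, inferInstance⟩ from rfl,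
      (hx (P.comap iA) (hmax P hP)).2]
    simp
  show ∃ b : Module.Basis (Fin r) A' B', ∀ i, b i = _
  refine ⟨(Pi.basisFun A' (Fin r)).map (LinearEquiv.ofBijective φ hφ), fun i => ?_⟩
  have h2 : φ (Pi.basisFun A' (Fin r) i) = y i := by
    rw [Pi.basisFun_apply, Fintype.linearCombination_apply_single, one_smul]
  rw [Module.Basis.map_apply]
  refine h2.trans ?_
  show D.t (x i) ⊗ₜ[K] (1 : R) = (Algebra.TensorProduct.map (tK D K hK) (AlgHom.id K R)) (x i ⊗ₜ[K] 1)
  rw [Algebra.TensorProduct.map_tmul]
  rfl

include hK in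
theorem IsRel.flat : Module.Flat K D.A := by
  refine Module.flat_of_localized_maximal _ fun m hm => ?_
  obtain ⟨r, x, hb⟩ := H.basis_localization hK m
  let R := Localization.AtPrime m
  let D' := D.baseChange K hK R
  let K' : Subring D'.A := RingHom.eqLocus D'.s D'.t
  obtain ⟨bA, hbA⟩ := D'.exists_basis (fun i => x i ⊗ₜ[K] (1 : R)) K' (fun _ => Iff.rfl) hb
  let inR : R →ₐ[K] D.A ⊗[K] R := Algebra.TensorProduct.includeRight
  have hinj : Function.Injective inR := by
    have := Module.Flat.rTensor_preserves_injective_linearMap (M := R) (Algebra.linearMap K D.A)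
      (fun a b => Subtype.ext)
    intro a b hab
    have h2 : (1 : K) ⊗ₜ[K] a = (1 : K) ⊗ₜ[K] b := this (by simpa [inR] using hab)
    simpa using congrArg (TensorProduct.lid K R) h2
  have hmem : ∀ c : R, inR c ∈ K' := fun c => by
    show (tmap R (sK D K)) (1 ⊗ₜ c) = (tmap R (tK D K hK)) (1 ⊗ₜ c)
    simp
  let Φ : (Fin r → R) →ₗ[K] D.A ⊗[K] R :=
    ∑ i, (LinearMap.mulRight K (x i ⊗ₜ[K] (1 : R))).comp (inR.toLinearMap.comp (LinearMap.proj i))
  have hΦ : ∀ c : Fin r → R, Φ c = ∑ i, (⟨inR (c i), hmem _⟩ : K') • bA i := fun c => by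
    simp only [Φ, LinearMap.sum_apply, hbA]
    rfl
  have hbij : Function.Bijective Φ := by
    refine ⟨fun c c' h => funext fun i => hinj ?_, fun z => ?_⟩
    · rw [hΦ, hΦ] at h
      have := congrArg (fun z => (bA.repr z i : D'.A)) h
      simp only [map_sum, map_smul, Module.Basis.repr_self] at this
      simpa [Finsupp.single_apply] using this
    · choose c hc using fun i : Fin r => D.mem_range_includeRight K hK R (bA.repr z i : D'.A) (bA.repr z i).2
      refine ⟨c, ?_⟩
      rw [hΦ]
      refine Eq.trans (Finset.sum_congr rfl fun i _ => ?_) (bA.sum_repr z)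
      congr 1
      exact Subtype.ext (hc i)
  have : Module.Flat K (Fin r → R) := Module.Flat.trans K R (Fin r → R)
  have : Module.Flat K (D.A ⊗[K] R) := Module.Flat.of_linearEquiv (LinearEquiv.ofBijective Φ hbij).symm
  have : Module.Flat K (R ⊗[K] D.A) := Module.Flat.of_linearEquiv (TensorProduct.comm K R D.A)
  exact Module.Flat.of_linearEquiv ((LocalizedModule.equivTensorProduct m.primeCompl D.A).restrictScalars K)

/-- The comparison map from `A ⊗_K A`. -/
def tensorHom (D : AffData.{u}) (K : Subring D.A) (hK : ∀ a, a ∈ K ↔ D.s a = D.t a) :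
    D.A ⊗[K] D.A →ₐ[K] D.B :=
  Algebra.TensorProduct.lift (tK D K hK) (sK D K) fun _ _ => Commute.all _ _

include hK in
theorem IsRel.surjective_tensorHom : Function.Surjective (tensorHom D K hK) := by
  intro b
  let h1 : Algebra D.A D.B := D.s.toAlgebra
  induction (H.gen ▸ Submodule.mem_top : b ∈ Submodule.span D.A (Set.range D.t)) using Submodule.span_induction with
  | mem y hy => obtain ⟨a, rfl⟩ := hy; exact ⟨a ⊗ₜ 1, by simp [tensorHom, tK, sK]⟩
  | zero => exact ⟨0, map_zero _⟩
  | add y y' _ _ hy hy' => obtain ⟨z, rfl⟩ := hy; obtain ⟨z', rfl⟩ := hy'; exact ⟨z + z', map_add _ _ _⟩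
  | smul a y _ hy =>
    obtain ⟨z, rfl⟩ := hy
    refine ⟨(1 ⊗ₜ a) * z, ?_⟩
    rw [map_mul, Algebra.smul_def]
    congr 1
    simp [tensorHom, tK, sK]
    rfl

set_option maxHeartbeats 800000 in
include hK in
theorem IsRel.injective_tensorHom : Function.Injective (tensorHom D K hK) := by
  rw [injective_iff_map_eq_zero]
  intro z hz
  refine Module.eq_of_localization_maximal (R := K) (fun P _ => LocalizedModule P.primeCompl (D.A ⊗[K] D.A))
    (fun P _ => LocalizedModule.mkLinearMap P.primeCompl (D.A ⊗[K] D.A)) z 0 fun m hm => ?_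
  rw [map_zero]
  obtain ⟨r, x, hb⟩ := H.basis_localization hK m
  let R := Localization.AtPrime m
  let D' := D.baseChange K hK R
  let K' : Subring D'.A := RingHom.eqLocus D'.s D'.t
  obtain ⟨bA, hbA⟩ := D'.exists_basis (fun i => x i ⊗ₜ[K] (1 : R)) K' (fun _ => Iff.rfl) hb
  let ι₁ : D.A ⊗[K] R →+* (D.A ⊗[K] D.A) ⊗[K] R :=
    tmap R (Algebra.TensorProduct.includeLeft : D.A →ₐ[K] D.A ⊗[K] D.A)
  let ι₂ : D.A ⊗[K] R →+* (D.A ⊗[K] D.A) ⊗[K] R :=
    tmap R (Algebra.TensorProduct.includeRight : D.A →ₐ[K] D.A ⊗[K] D.A)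
  have hrep : ∀ y : (D.A ⊗[K] D.A) ⊗[K] R, ∃ w : Fin r → D.A ⊗[K] R,
      y = ∑ i, ι₁ (x i ⊗ₜ[K] 1) * ι₂ (w i) := by
    intro y
    induction y using TensorProduct.induction_on with
    | zero => exact ⟨0, by simp⟩
    | add a b ha hb =>
      obtain ⟨w, rfl⟩ := ha
      obtain ⟨w', rfl⟩ := hb
      exact ⟨w + w', by simp [mul_add, Finset.sum_add_distrib]⟩
    | tmul y c =>
      induction y using TensorProduct.induction_on with
      | zero => exact ⟨0, by simp⟩
      | add a b ha hb =>
        obtain ⟨w, hw⟩ := ha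
        obtain ⟨w', hw'⟩ := hb
        exact ⟨w + w', by rw [TensorProduct.add_tmul, hw, hw']; simp [mul_add, Finset.sum_add_distrib]⟩
      | tmul a a' =>
        choose d hd using fun i : Fin r =>
          D.mem_range_includeRight K hK R (bA.repr (a ⊗ₜ[K] (1 : R) : D'.A) i : D'.A) (bA.repr _ i).2
        refine ⟨fun i => ((1 : D.A) ⊗ₜ[K] d i) * (a' ⊗ₜ[K] c), ?_⟩
        have e : (a ⊗ₜ[K] (1 : R) : D.A ⊗[K] R) = ∑ i, ((1 : D.A) ⊗ₜ[K] d i) * (x i ⊗ₜ[K] 1) := by
          refine (bA.sum_repr (a ⊗ₜ[K] (1 : R) : D'.A)).symm.trans (Finset.sum_congr rfl fun i _ => ?_)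
          rw [hd i, hbA]
          rfl
        calc (a ⊗ₜ[K] a') ⊗ₜ[K] c = ι₁ (a ⊗ₜ[K] 1) * ι₂ (a' ⊗ₜ[K] c) := by simp [ι₁, ι₂]
          _ = _ := by
            rw [e, map_sum, Finset.sum_mul]
            refine Finset.sum_congr rfl fun i _ => ?_
            rw [map_mul, map_mul]
            have : ι₁ ((1 : D.A) ⊗ₜ[K] d i) = ι₂ ((1 : D.A) ⊗ₜ[K] d i) := by
              simp [ι₁, ι₂, Algebra.TensorProduct.one_def]
            rw [this]
            ring
  obtain ⟨w, hw⟩ := hrep (z ⊗ₜ[K] 1)
  let ψ := tmap R (tensorHom D K hK)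
  have h1 : ∀ v, ψ (ι₁ v) = D'.t v := fun v => by
    induction v using TensorProduct.induction_on with
    | zero => simp
    | add a b ha hb => simp only [map_add, ha, hb]
    | tmul a c => simp [ψ, ι₁, D', baseChange, tensorHom, sK, tK]
  have h2 : ∀ v, ψ (ι₂ v) = D'.s v := fun v => by
    induction v using TensorProduct.induction_on with
    | zero => simp
    | add a b ha hb => simp only [map_add, ha, hb]
    | tmul a c => simp [ψ, ι₂, D', baseChange, tensorHom, sK, tK]
  have h0 := congrArg ψ hw
  simp only [ψ, AlgHom.toRingHom_eq_coe, RingHom.coe_coe, Algebra.TensorProduct.map_tmul, hz,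
    TensorProduct.zero_tmul] at h0
  rw [map_sum] at h0
  obtain ⟨bB, hbB⟩ := hb
  let : Algebra D'.A D'.B := D'.s.toAlgebra
  have hw0 : ∀ i, w i = 0 := by
    refine Fintype.linearIndependent_iff.1 bB.linearIndependent w (Eq.trans ?_ h0.symm)
    refine Finset.sum_congr rfl fun i _ => ?_
    rw [Algebra.smul_def, hbB, map_mul, mul_comm]
    exact (congrArg₂ (· * ·) (h1 _) (h2 _)).symm
  have hzero : z ⊗ₜ[K] (1 : R) = 0 := by rw [hw]; simp [hw0]
  apply (LocalizedModule.equivTensorProduct m.primeCompl (D.A ⊗[K] D.A)).injective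
  rw [map_zero, LocalizedModule.mkLinearMap_apply, LocalizedModule.equivTensorProduct_apply_mk]
  have h3 := congrArg (TensorProduct.comm K (D.A ⊗[K] D.A) R) hzero
  rw [TensorProduct.comm_tmul, LinearEquiv.map_zero] at h3
  rw [Localization.mk_one]
  exact h3

end AffData

end Groth.Agent.GrpdLib
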