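import Mathlib

/-!
# Open subobjects of schemes and descent of open subschemes
-/

set_option backward.isDefEq.respectTransparency false
set_option backward.isDefEq.respectTransparency.types false

universe u

open CategoryTheory CategoryTheory.Limits AlgebraicGeometry

namespace Groth.Agent.GrpdLib.OpenSubobj

variable {X X' : Scheme.{u}}

theorem mk_eq_mk_range {Z : Scheme.{u}} (i : Z ⟶ X) [IsOpenImmersion i] :
    Subobject.mk i = Subobject.mk i.opensRange.ι :=
  Subobject.mk_eq_mk_of_comm _ _ i.isoOpensRange (Scheme.Hom.isoOpensRange_hom_ι i)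

theorem eq_mk_range (Y : Subobject X) [IsOpenImmersion Y.arrow] :
    Y = Subobject.mk Y.arrow.opensRange.ι :=
  (Subobject.mk_arrow Y).symm.trans (mk_eq_mk_range _)

theorem isOpenImmersion_mk_arrow (U : X.Opens) : IsOpenImmersion (Subobject.mk U.ι).arrow := by
  rw [← Subobject.underlyingIso_hom_comp_eq_mk]
  infer_instance

theorem mk_ι_inj {U V : X.Opens} (h : Subobject.mk U.ι = Subobject.mk V.ι) : U = V := by
  have e := Subobject.ofMkLEMk_comp (le_of_eq h)
  have e' := Subobject.ofMkLEMk_comp (ge_of_eq h)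
  refine le_antisymm ?_ ?_
  · rw [← U.opensRange_ι, ← V.opensRange_ι]
    intro x hx
    obtain ⟨y, rfl⟩ := hx
    exact ⟨Subobject.ofMkLEMk _ _ (le_of_eq h) y, by rw [← Scheme.Hom.comp_apply, e]⟩
  · rw [← U.opensRange_ι, ← V.opensRange_ι]
    intro x hx
    obtain ⟨y, rfl⟩ := hx
    exact ⟨Subobject.ofMkLEMk _ _ (ge_of_eq h) y, by rw [← Scheme.Hom.comp_apply, e']⟩

theorem pullback_mk (f : X ⟶ X') (U : X'.Opens) :
    (Subobject.pullback f).obj (Subobject.mk U.ι) = Subobject.mk (f ⁻¹ᵁ U).ι :=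
  Subobject.pullback_obj_mk (isPullback_morphismRestrict f U)

theorem bijOn_pullback (π : X ⟶ X') [Flat π] [Surjective π] [QuasiCompact π] :
    Set.BijOn (Subobject.pullback π).obj
      {Y' : Subobject X' | IsOpenImmersion Y'.arrow}
      {Y : Subobject X | IsOpenImmersion Y.arrow ∧
        (Subobject.pullback (pullback.fst π π)).obj Y = (Subobject.pullback (pullback.snd π π)).obj Y} := by
  refine ⟨fun Y' hY' => ?_, fun Y₁ h₁ Y₂ h₂ h => ?_, fun Y ⟨hY, hY'⟩ => ?_⟩
  · haveI : IsOpenImmersion Y'.arrow := hY'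
    rw [eq_mk_range Y']
    refine ⟨?_, ?_⟩
    · rw [pullback_mk]; exact isOpenImmersion_mk_arrow _
    · rw [← Subobject.pullback_comp, ← Subobject.pullback_comp, pullback.condition]
  · haveI i₁ : IsOpenImmersion Y₁.arrow := h₁
    haveI i₂ : IsOpenImmersion Y₂.arrow := h₂
    rw [eq_mk_range Y₁, eq_mk_range Y₂, pullback_mk, pullback_mk] at h
    rw [eq_mk_range Y₁, eq_mk_range Y₂]
    have e : Scheme.Hom.opensRange Y₁.arrow = Scheme.Hom.opensRange Y₂.arrow := by
      ext x
      obtain ⟨y, rfl⟩ := π.surjective x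
      exact iff_of_eq (congrArg (fun W : X.Opens => y ∈ W) (mk_ι_inj h))
    rw [e]
  · have := hY
    set U := Y.arrow.opensRange with hU
    rw [eq_mk_range Y, ← hU, pullback_mk, pullback_mk] at hY'
    have heq := mk_ι_inj hY'
    have hsat : π ⁻¹' (π '' (U : Set X)) = U := by
      refine Set.Subset.antisymm ?_ (Set.subset_preimage_image _ _)
      rintro x ⟨x₀, hx₀, hx⟩
      obtain ⟨z, hz₁, hz₂⟩ := Scheme.Pullback.exists_preimage_pullback (f := π) (g := π) x₀ x hx
      have h1 : z ∈ pullback.fst π π ⁻¹ᵁ U := by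
        show pullback.fst π π z ∈ U
        rw [hz₁]; exact hx₀
      rw [heq] at h1
      rw [← hz₂]; exact h1
    have hop : IsOpen (π '' (U : Set X)) := by
      rw [← (Flat.isQuotientMap_of_surjective π).isOpen_preimage, hsat]
      exact U.2
    refine ⟨Subobject.mk (Scheme.Opens.ι (⟨_, hop⟩ : X'.Opens)), isOpenImmersion_mk_arrow _, ?_⟩
    have e : π ⁻¹ᵁ (⟨_, hop⟩ : X'.Opens) = U := TopologicalSpace.Opens.ext hsat
    rw [pullback_mk, e, eq_mk_range Y, hU]

end Groth.Agent.GrpdLib.OpenSubobj
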