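import Groth.Agent.GrpdLib.Affine

/-!
# Geometric points of the quotient of an affine finite locally free groupoid
-/

set_option backward.isDefEq.respectTransparency false
set_option backward.isDefEq.respectTransparency.types false

universe u

open CategoryTheory CategoryTheory.Limits AlgebraicGeometry Grpd Polynomial

namespace Groth.Agent.GrpdLib

variable {A B : Type u} [CommRing A] [CommRing B] {α : A →+* B} {n : ℕ}

namespace Frame

/-- Coefficientwise application of an additive map to a polynomial. -/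
noncomputable def polyMap (f : B →+ A) : B[X] →+ A[X] where
  toFun p := ∑ k ∈ p.support, C (f (p.coeff k)) * X ^ k
  map_zero' := by simp
  map_add' p q := by
    ext k
    simp only [finsetSum_coeff, coeff_C_mul, coeff_X_pow, mul_ite, mul_one, mul_zero, Finset.sum_ite_eq,
      mem_support_iff, ne_eq, coeff_add]
    by_cases h1 : p.coeff k = 0 <;> by_cases h2 : q.coeff k = 0 <;> by_cases h3 : p.coeff k + q.coeff k = 0 <;>
      simp_all [← map_add]

theorem coeff_polyMap (f : B →+ A) (p : B[X]) (k : ℕ) : (polyMap f p).coeff k = f (p.coeff k) := by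
  simp only [polyMap, AddMonoidHom.coe_mk, ZeroHom.coe_mk, finsetSum_coeff, coeff_C_mul, coeff_X_pow, mul_ite,
    mul_one, mul_zero, Finset.sum_ite_eq, mem_support_iff, ne_eq]
  by_cases h : p.coeff k = 0 <;> simp [h]

/-- The frame on polynomial rings. -/
noncomputable def poly (F : Frame α n) : Frame (mapRingHom α) n where
  u i := C (F.u i)
  v i := polyMap (F.v i)
  v_smul i a x := by
    ext k
    simp only [coe_mapRingHom, coeff_polyMap, coeff_mul, coeff_map, map_sum, F.v_smul]
  sum_v x := by
    ext k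
    simp only [coe_mapRingHom, finsetSum_coeff, coeff_mul_C, coeff_map, coeff_polyMap]
    exact F.sum_v _

theorem IsMap.poly {A' B' : Type u} [CommRing A'] [CommRing B'] {α' : A' →+* B'} {F : Frame α n}
    {F' : Frame α' n} {h : A →+* A'} {g : B →+* B'} (H : IsMap F F' h g) :
    IsMap F.poly F'.poly (mapRingHom h) (mapRingHom g) where
  u_eq i := by simp [Frame.poly, H.u_eq]
  v_eq i x := by
    ext k
    simp [Frame.poly, coeff_polyMap, H.v_eq]

/-- Evaluation of the polynomial frame. -/
theorem IsMap.eval {K B' : Type u} [CommRing K] [CommRing B'] {β : K →+* B'} {F : Frame α n} {F' : Frame β n}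
    {h : A →+* K} {g : B →+* B'} (H : IsMap F F' h g) (x : K) :
    IsMap F.poly F' (eval₂RingHom h x) (eval₂RingHom g (β x)) where
  u_eq i := by simp [Frame.poly, H.u_eq]
  v_eq i p := by
    induction p using Polynomial.induction_on' with
    | add p q hp hq => simp only [map_add, hp, hq]
    | monomial k b =>
      have h1 : (F.poly.v i) (monomial k b) = monomial k (F.v i b) := by
        ext l
        simp [Frame.poly, coeff_polyMap, coeff_monomial, apply_ite (F.v i)]
      rw [h1]
      simp only [coe_eval₂RingHom, eval₂_monomial]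
      rw [mul_comm, ← map_pow, F'.v_smul, H.v_eq, mul_comm]

/-- A nonzero root of the padded characteristic polynomial is an eigenvalue. -/
theorem not_isUnit_sub_of_isRoot {K : Type u} [Field K] {β : K →+* B} (F : Frame β n) (b : B) {w : K}
    (hw : w ≠ 0) (h : (F.cp b).IsRoot w) : ¬ IsUnit (b - β w) := by
  rw [Polynomial.IsRoot, cp, Matrix.eval_charpoly] at h
  obtain ⟨v, hv, hv'⟩ := Matrix.exists_mulVec_eq_zero_iff.2 h
  have hM : ∀ i, ∑ j, F.mat b i j * v j = w * v i := by
    intro i
    have := congrFun hv' i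
    rw [Matrix.sub_mulVec, Pi.sub_apply, Pi.zero_apply, sub_eq_zero, Matrix.scalar_apply,
      Matrix.mulVec_diagonal] at this
    exact this.symm
  let x := ∑ j, β (v j) * F.u j
  have h1 : b * x = β w * x := by
    rw [← F.sum_v (b * x)]
    conv_rhs => rw [show x = ∑ i, β (v i) * F.u i from rfl, Finset.mul_sum]
    refine Finset.sum_congr rfl fun i _ => ?_
    rw [← mul_assoc, ← map_mul, ← hM i, show b * x = ∑ j, β (v j) * (b * F.u j) by
      rw [show x = ∑ j, β (v j) * F.u j from rfl, Finset.mul_sum]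
      exact Finset.sum_congr rfl fun j _ => by ring]
    rw [map_sum (F.v i)]
    simp only [F.v_smul, mat_apply, mul_comm (v _)]
  intro hu
  have hx : x = 0 := by
    have : (b - β w) * x = 0 := by rw [sub_mul, h1, sub_self]
    exact hu.mul_right_eq_zero.1 this
  refine hv (funext fun i => ?_)
  have h2 : w * v i = 0 := by
    rw [← hM i]
    have : F.v i (b * x) = 0 := by rw [hx, mul_zero, map_zero]
    rw [show b * x = ∑ j, β (v j) * (b * F.u j) by
      rw [show x = ∑ j, β (v j) * F.u j from rfl, Finset.mul_sum]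
      exact Finset.sum_congr rfl fun j _ => by ring, map_sum] at this
    simp only [F.v_smul] at this
    refine (Finset.sum_congr rfl fun j _ => ?_).trans this
    rw [mat_apply, mul_comm]
  exact (mul_eq_zero.1 h2).resolve_left hw

end Frame

/-- Field-valued points with the same restriction to the invariants are related by an arrow. -/
theorem AffData.exists_point (D : AffData.{u}) (F : Frame D.s n) (hfin : D.s.Finite) {k : Type u} [Field k]
    [IsAlgClosed k] (x₀ x₁ : D.A →+* k) (hx : ∀ a, D.s a = D.t a → x₀ a = x₁ a) :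
    ∃ χ : D.B →+* k, χ.comp D.t = x₀ ∧ χ.comp D.s = x₁ := by
  classical
  let : Algebra D.A D.B := D.s.toAlgebra
  have : Module.Finite D.A D.B := hfin
  let : Algebra D.A k := x₁.toAlgebra
  have : Finite (D.B →ₐ[D.A] k) := by
    obtain ⟨s, hs⟩ := (Algebra.FiniteType.out : (⊤ : Subalgebra D.A D.B).FG)
    have hroots : ∀ b : D.B, ∀ φ : D.B →ₐ[D.A] k,
        φ b ∈ ((F.cp b).map x₁).roots.toFinset := fun b φ => by
      rw [Multiset.mem_toFinset, mem_roots ((F.cp_monic b).map _).ne_zero, IsRoot, Polynomial.eval_map]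
      have h := congrArg φ (F.aeval_cp b)
      rwa [map_zero, show φ ((F.cp b).eval₂ D.s b) = (F.cp b).eval₂ (φ.toRingHom.comp D.s) (φ b) from
        Polynomial.hom_eval₂ _ _ φ.toRingHom b, show φ.toRingHom.comp D.s = x₁ from φ.comp_algebraMap] at h
    refine Finite.of_injective
      (fun φ : D.B →ₐ[D.A] k => fun b : s => (⟨φ b, hroots b φ⟩ : ((F.cp (b : D.B)).map x₁).roots.toFinset))
      fun φ ψ h => AlgHom.ext_of_adjoin_eq_top hs fun b hb => congrArg Subtype.val (congrFun h ⟨b, hb⟩)
  by_contra hne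
  push Not at hne
  have hne' : ∀ φ : D.B →ₐ[D.A] k, ∃ g, x₀ g ≠ φ (D.t g) := fun φ => by
    by_contra hall
    push Not at hall
    exact hne φ.toRingHom (RingHom.ext fun a => (hall a).symm) φ.comp_algebraMap
  choose g hg using hne'
  let := Fintype.ofFinite (D.B →ₐ[D.A] k)
  let idx : (D.B →ₐ[D.A] k) ≃ Fin (Fintype.card (D.B →ₐ[D.A] k)) := Fintype.equivFin _
  let f : D.A[X] := 1 + ∑ φ, Polynomial.C (g φ) * X ^ ((idx φ : ℕ) + 1)
  let K := AlgebraicClosure (RatFunc k)
  let ι : k →+* K := algebraMap k K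
  let T : K := algebraMap k[X] K X
  let w : K := f.eval₂ (ι.comp x₀) T
  -- the invariant characteristic polynomial
  let P := F.poly.cp (f.map D.t)
  obtain ⟨F₁, H₁⟩ := F.exists_isMap D.t D.p₁ D.sq₁
  obtain ⟨F₂, H₂⟩ := F.exists_isMap D.s D.m D.sq₂
  have hP : P.map (mapRingHom D.t) = P.map (mapRingHom D.s) := by
    rw [← H₁.poly.cp, ← H₂.poly.cp]
    simp only [coe_mapRingHom, map_map, D.m_t]
    exact F₁.poly.cp_eq F₂.poly _
  have hcoef : ∀ i j, D.s ((P.coeff i).coeff j) = D.t ((P.coeff i).coeff j) := fun i j => by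
    have := congrArg (fun Q => (Q.coeff i).coeff j) hP
    simpa using this.symm
  have hΦ : P.map (eval₂RingHom (ι.comp x₀) T) = P.map (eval₂RingHom (ι.comp x₁) T) := by
    ext i
    simp only [coeff_map, coe_eval₂RingHom]
    rw [eval₂_eq_sum, eval₂_eq_sum]
    refine Finset.sum_congr rfl fun j _ => ?_
    simp only [RingHom.comp_apply, hx _ (hcoef i j)]
  have hroot : (P.map (eval₂RingHom (ι.comp x₁) T)).IsRoot w := by
    rw [← hΦ, IsRoot, Polynomial.eval_map]
    have h := congrArg (eval₂RingHom ((ι.comp x₀).comp D.e) T) (F.poly.aeval_cp (f.map D.t))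
    rw [map_zero, Polynomial.hom_eval₂] at h
    have hc : (eval₂RingHom ((ι.comp x₀).comp D.e) T).comp (mapRingHom D.s) = eval₂RingHom (ι.comp x₀) T := by
      refine Polynomial.ringHom_ext (fun a => ?_) ?_ <;> simp [D.e_s_apply]
    have hv : eval₂RingHom ((ι.comp x₀).comp D.e) T (f.map D.t) = w := by
      simp only [coe_eval₂RingHom, eval₂_map, RingHom.comp_assoc, D.e_t, RingHom.comp_id, w]
    rwa [hc, hv] at h
  have hev : ∀ (Φ : D.A →+* k), f.eval₂ (ι.comp Φ) T = algebraMap k[X] K (f.map Φ) := by
    intro Φ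
    have : ((algebraMap k[X] K).comp (mapRingHom Φ)) = eval₂RingHom (ι.comp Φ) T := by
      refine Polynomial.ringHom_ext (fun a => ?_) (by simp [T])
      simp [ι, IsScalarTower.algebraMap_apply k k[X] K]
    exact (congrArg (fun F => F f) this).symm
  have hinj : Function.Injective (algebraMap k[X] K) := by
    rw [IsScalarTower.algebraMap_eq k[X] (RatFunc k) K]
    exact (algebraMap (RatFunc k) K).injective.comp (IsFractionRing.injective k[X] (RatFunc k))
  have hw : w ≠ 0 := by
    rw [show w = f.eval₂ (ι.comp x₀) T from rfl, hev, ← map_zero (algebraMap k[X] K)]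
    intro h
    have := congrArg (fun q => q.coeff 0) (hinj h)
    simp [f, finsetSum_coeff, coeff_X_pow] at this
  -- base change to `K`
  let : Algebra D.A K := (ι.comp x₁).toAlgebra
  let B' := TensorProduct D.A K D.B
  let gB : D.B →+* B' := (Algebra.TensorProduct.includeRight : D.B →ₐ[D.A] B').toRingHom
  have hpo : IsPushout (CommRingCat.ofHom (ι.comp x₁)) (CommRingCat.ofHom D.s)
      (CommRingCat.ofHom (algebraMap K B')) (CommRingCat.ofHom gB) := CommRingCat.isPushout_tensorProduct D.A K D.B
  obtain ⟨F', H⟩ := F.exists_isMap _ gB hpo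
  have H' := H.eval T
  rw [← H'.cp] at hroot
  have hnu := F'.not_isUnit_sub_of_isRoot _ hw hroot
  obtain ⟨M, hM, hmem⟩ := exists_max_ideal_of_mem_nonunits hnu
  have : Field (B' ⧸ M) := Ideal.Quotient.field M
  have hint : (algebraMap K (B' ⧸ M)).IsIntegral := by
    have : Algebra.IsIntegral K (B' ⧸ M) := inferInstance
    exact Algebra.isIntegral_def.1 this
  have hbij : Function.Bijective (algebraMap K (B' ⧸ M)) :=
    ⟨(algebraMap K (B' ⧸ M)).injective, IsAlgClosed.algebraMap_bijective_of_isIntegral.2⟩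
  let π : B' →+* K := (RingEquiv.ofBijective _ hbij).symm.toRingHom.comp (Ideal.Quotient.mk M)
  have hπ : ∀ x : K, π (algebraMap K B' x) = x := fun x => (RingEquiv.ofBijective _ hbij).symm_apply_apply x
  have hπs : ∀ a, π (gB (D.s a)) = ι (x₁ a) := fun a => by
    rw [show gB (D.s a) = algebraMap K B' (ι (x₁ a)) from (congrArg (fun φ => φ.hom a) hpo.w).symm, hπ]
  -- the point takes values in `k`
  have hval : ∀ b, ∃ c : k, ι c = π (gB b) := by
    intro b
    have h0 := congrArg (π.comp gB) (F.aeval_cp b)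
    rw [map_zero, Polynomial.hom_eval₂, show (π.comp gB).comp D.s = ι.comp x₁ from RingHom.ext hπs,
      ← Polynomial.eval₂_map] at h0
    have hmem : π (gB b) ∈ (((F.cp b).map x₁).map ι).roots :=
      (mem_roots (((F.cp_monic b).map _).map _).ne_zero).2 (by rw [IsRoot, Polynomial.eval_map]; exact h0)
    rw [(IsAlgClosed.splits _).roots_map ι, Multiset.mem_map] at hmem
    obtain ⟨c, -, hc⟩ := hmem
    exact ⟨c, hc⟩
  choose χ₀ hχ₀ using hval
  have hιinj : Function.Injective ι := ι.injective
  let χ : D.B →ₐ[D.A] k :=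
    { toFun := χ₀
      map_one' := hιinj (by rw [hχ₀, map_one, map_one, map_one])
      map_mul' := fun b b' => hιinj (by rw [map_mul ι, hχ₀, hχ₀, hχ₀, map_mul, map_mul])
      map_zero' := hιinj (by rw [hχ₀, map_zero, map_zero, map_zero])
      map_add' := fun b b' => hιinj (by rw [map_add ι, hχ₀, hχ₀, hχ₀, map_add, map_add])
      commutes' := fun a => hιinj ((hχ₀ _).trans (hπs a)) }
  have hπf : π (eval₂RingHom gB (algebraMap K B' T) (f.map D.t)) = algebraMap k[X] K (f.map (χ.toRingHom.comp D.t)) := by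
    rw [← hev, coe_eval₂RingHom, eval₂_map, Polynomial.hom_eval₂, hπ]
    congr 1
    exact RingHom.ext fun a => (hχ₀ _).symm
  have h0 : π (eval₂RingHom gB (algebraMap K B' T) (f.map D.t) - algebraMap K B' w) = 0 := by
    show (RingEquiv.ofBijective _ hbij).symm (Ideal.Quotient.mk M _) = 0
    rw [Ideal.Quotient.eq_zero_iff_mem.2 hmem, map_zero]
  rw [map_sub, hπ, hπf, show w = f.eval₂ (ι.comp x₀) T from rfl, hev, sub_eq_zero] at h0
  have hco := congrArg (fun q => q.coeff ((idx χ : ℕ) + 1)) (hinj h0)
  simp [f, finsetSum_coeff, coeff_X_pow, coeff_one, Fin.val_inj, idx.injective.eq_iff] at hco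
  exact hg χ hco.symm

end Groth.Agent.GrpdLib
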