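import Groth.Prelude.Def_Grpd

/-!
# Pulling a groupoid back along a morphism to its objects
-/

set_option backward.isDefEq.respectTransparency false
set_option backward.isDefEq.respectTransparency.types false

universe u

open CategoryTheory CategoryTheory.Limits AlgebraicGeometry Grpd

noncomputable section

namespace Groth.Agent.GrpdLib

variable {S : Scheme.{u}} (G : GroupoidScheme S) {U' : Scheme.{u}} (g : U' ⟶ G.U)

/-- Arrows with target in `U'`, to their source. -/
def srcMap : pullback G.t g ⟶ G.U := pullback.fst G.t g ≫ G.s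

/-- Arrows with both ends in `U'`. -/
abbrev pbR : Scheme.{u} := pullback (srcMap G g) g

/-- The underlying arrow. -/
def pbMid : pbR G g ⟶ G.R := pullback.fst (srcMap G g) g ≫ pullback.fst G.t g

/-- The new target. -/
def pbT : pbR G g ⟶ U' := pullback.fst (srcMap G g) g ≫ pullback.snd G.t g

/-- The new source. -/
def pbS : pbR G g ⟶ U' := pullback.snd (srcMap G g) g

theorem pbMid_t : pbMid G g ≫ G.t = pbT G g ≫ g := by simp only [pbMid, pbT, Category.assoc, pullback.condition]

theorem pbMid_s : pbMid G g ≫ G.s = pbS G g ≫ g := by rw [pbMid, pbS, Category.assoc]; exact pullback.condition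

variable {T : Scheme.{u}}

/-- An arrow with both ends in `U'`. -/
def pbMk (r : T ⟶ G.R) (a b : T ⟶ U') (ha : r ≫ G.t = a ≫ g) (hb : r ≫ G.s = b ≫ g) : T ⟶ pbR G g :=
  pullback.lift (pullback.lift r a ha) b (by rw [srcMap, ← Category.assoc, pullback.lift_fst, hb])

section
variable (r : T ⟶ G.R) (a b : T ⟶ U') (ha : r ≫ G.t = a ≫ g) (hb : r ≫ G.s = b ≫ g)

@[reassoc (attr := simp)]
theorem pbMk_mid : pbMk G g r a b ha hb ≫ pbMid G g = r := by simp [pbMk, pbMid]

@[reassoc (attr := simp)]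
theorem pbMk_t : pbMk G g r a b ha hb ≫ pbT G g = a := by simp [pbMk, pbT]

@[reassoc (attr := simp)]
theorem pbMk_s : pbMk G g r a b ha hb ≫ pbS G g = b := by simp [pbMk, pbS]

end

theorem pb_hom_ext {x y : T ⟶ pbR G g} (hm : x ≫ pbMid G g = y ≫ pbMid G g) (ht : x ≫ pbT G g = y ≫ pbT G g)
    (hs : x ≫ pbS G g = y ≫ pbS G g) : x = y := by
  apply pullback.hom_ext
  · apply pullback.hom_ext
    · simpa [pbMid] using hm
    · simpa [pbT] using ht
  · exact hs

theorem lift_c_congr' {α α' β β' : T ⟶ G.R} (h : α ≫ G.s = β ≫ G.t) (ha : α = α') (hb : β = β') :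
    pullback.lift α β h ≫ G.c = pullback.lift α' β' (ha ▸ hb ▸ h) ≫ G.c := by
  subst ha hb
  rfl

theorem pbMid_comm {α β : T ⟶ pbR G g} (h : α ≫ pbS G g = β ≫ pbT G g) :
    (α ≫ pbMid G g) ≫ G.s = (β ≫ pbMid G g) ≫ G.t := by
  rw [Category.assoc, pbMid_s, Category.assoc, pbMid_t, reassoc_of% h]

/-- Composition of arrows with both ends in `U'`. -/
def pbC : pullback (pbS G g) (pbT G g) ⟶ pbR G g :=
  pbMk G g
    (pullback.lift (pullback.fst (pbS G g) (pbT G g) ≫ pbMid G g) (pullback.snd (pbS G g) (pbT G g) ≫ pbMid G g)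
      (pbMid_comm G g pullback.condition) ≫ G.c)
    (pullback.fst (pbS G g) (pbT G g) ≫ pbT G g) (pullback.snd (pbS G g) (pbT G g) ≫ pbS G g)
    (by rw [G.comp_t, Category.assoc, pbMid_t]; simp only [Category.assoc])
    (by rw [G.comp_s, Category.assoc, pbMid_s, Category.assoc])

theorem lift_pbC_mid (α β : T ⟶ pbR G g) (h : α ≫ pbS G g = β ≫ pbT G g) :
    (pullback.lift α β h ≫ pbC G g) ≫ pbMid G g =
      pullback.lift (α ≫ pbMid G g) (β ≫ pbMid G g) (pbMid_comm G g h) ≫ G.c := by
  rw [Category.assoc, pbC, pbMk_mid, ← Category.assoc]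
  congr 1
  apply pullback.hom_ext <;> simp

theorem lift_pbC_t (α β : T ⟶ pbR G g) (h : α ≫ pbS G g = β ≫ pbT G g) :
    (pullback.lift α β h ≫ pbC G g) ≫ pbT G g = α ≫ pbT G g := by
  rw [Category.assoc, pbC, pbMk_t, pullback.lift_fst_assoc]

theorem lift_pbC_s (α β : T ⟶ pbR G g) (h : α ≫ pbS G g = β ≫ pbT G g) :
    (pullback.lift α β h ≫ pbC G g) ≫ pbS G g = β ≫ pbS G g := by
  rw [Category.assoc, pbC, pbMk_s, pullback.lift_snd_assoc]

/-- The identity arrows. -/
def pbE : U' ⟶ pbR G g :=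
  pbMk G g (g ≫ G.e) (𝟙 U') (𝟙 U') (by rw [Category.assoc, G.e_t, Category.comp_id, Category.id_comp])
    (by rw [Category.assoc, G.e_s, Category.comp_id, Category.id_comp])

/-- The inverse. -/
def pbI : pbR G g ⟶ pbR G g :=
  pbMk G g (pbMid G g ≫ G.i) (pbS G g) (pbT G g) (by rw [Category.assoc, G.i_t, pbMid_s])
    (by rw [Category.assoc, G.i_s, pbMid_t])

theorem pbI_mid : pbI G g ≫ pbMid G g = pbMid G g ≫ G.i := pbMk_mid ..
theorem pbI_t : pbI G g ≫ pbT G g = pbS G g := pbMk_t ..
theorem pbI_s : pbI G g ≫ pbS G g = pbT G g := pbMk_s ..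
theorem pbE_mid : pbE G g ≫ pbMid G g = g ≫ G.e := pbMk_mid ..
theorem pbE_t : pbE G g ≫ pbT G g = 𝟙 U' := pbMk_t ..
theorem pbE_s : pbE G g ≫ pbS G g = 𝟙 U' := pbMk_s ..

/-- The groupoid pulled back to `U'`. -/
def pullBackGrpd : GroupoidScheme S where
  U := U'
  R := pbR G g
  pU := g ≫ G.pU
  pR := pbMid G g ≫ G.pR
  s := pbS G g
  t := pbT G g
  e := pbE G g
  i := pbI G g
  c := pbC G g
  s_over := by rw [← Category.assoc, ← pbMid_s, Category.assoc, G.s_over]
  t_over := by rw [← Category.assoc, ← pbMid_t, Category.assoc, G.t_over]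
  comp_s α β h := lift_pbC_s G g α β h
  comp_t α β h := lift_pbC_t G g α β h
  assoc α β γ h₁ h₂ := by
    refine pb_hom_ext G g ?_ ?_ ?_
    · refine (lift_pbC_mid G g _ _ _).trans (Eq.trans ?_ (lift_pbC_mid G g _ _ _).symm)
      refine (lift_c_congr' G _ (lift_pbC_mid G g α β h₁) rfl).trans (Eq.trans ?_
        (lift_c_congr' G _ rfl (lift_pbC_mid G g β γ h₂)).symm)
      exact G.assoc _ _ _ _ _
    · rw [lift_pbC_t, lift_pbC_t, lift_pbC_t]
    · rw [lift_pbC_s, lift_pbC_s, lift_pbC_s]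
  e_s := pbE_s G g
  e_t := pbE_t G g
  comp_e α := by
    refine pb_hom_ext G g ?_ ?_ ?_
    · refine (lift_pbC_mid G g _ _ _).trans ((lift_c_congr' G _ rfl ?_).trans (G.comp_e _))
      rw [Category.assoc, Category.assoc, pbE_mid, Category.assoc, reassoc_of% (pbMid_s G g)]
    · rw [lift_pbC_t]
    · rw [lift_pbC_s, Category.assoc, Category.assoc, pbE_s, Category.comp_id]
  e_comp α := by
    refine pb_hom_ext G g ?_ ?_ ?_
    · refine (lift_pbC_mid G g _ _ _).trans ((lift_c_congr' G _ ?_ rfl).trans (G.e_comp _))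
      rw [Category.assoc, Category.assoc, pbE_mid, Category.assoc, reassoc_of% (pbMid_t G g)]
    · rw [lift_pbC_t, Category.assoc, Category.assoc, pbE_t, Category.comp_id]
    · rw [lift_pbC_s]
  i_s := pbI_s G g
  i_t := pbI_t G g
  comp_i α := by
    refine pb_hom_ext G g ?_ ?_ ?_
    · refine (lift_pbC_mid G g _ _ _).trans ((lift_c_congr' G _ rfl ?_).trans ((G.comp_i _).trans ?_))
      · rw [Category.assoc, pbI_mid]; simp only [Category.assoc]
      · rw [Category.assoc, Category.assoc, Category.assoc, pbE_mid, reassoc_of% (pbMid_t G g)]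
    · rw [lift_pbC_t, Category.assoc, Category.assoc, pbE_t, Category.comp_id]
    · rw [lift_pbC_s, Category.assoc, Category.assoc, Category.assoc, pbI_s, pbE_s, Category.comp_id]
  i_comp α := by
    refine pb_hom_ext G g ?_ ?_ ?_
    · refine (lift_pbC_mid G g _ _ _).trans ((lift_c_congr' G _ ?_ rfl).trans ((G.i_comp _).trans ?_))
      · rw [Category.assoc, pbI_mid]; simp only [Category.assoc]
      · rw [Category.assoc, Category.assoc, Category.assoc, pbE_mid, reassoc_of% (pbMid_s G g)]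
    · rw [lift_pbC_t, Category.assoc, Category.assoc, Category.assoc, pbI_t, pbE_t, Category.comp_id]
    · rw [lift_pbC_s, Category.assoc, Category.assoc, pbE_s, Category.comp_id]

theorem mono_j_pullBackGrpd [Mono G.j] : Mono (pullBackGrpd G g).j := by
  refine ⟨fun {T} x y h => ?_⟩
  have h₁ : x ≫ pbT G g = y ≫ pbT G g := by
    have := congrArg (fun φ => φ ≫ pullback.fst _ _) h
    simp only [GroupoidScheme.j, Category.assoc, pullback.lift_fst] at this
    exact this
  have h₂ : x ≫ pbS G g = y ≫ pbS G g := by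
    have := congrArg (fun φ => φ ≫ pullback.snd _ _) h
    simp only [GroupoidScheme.j, Category.assoc, pullback.lift_snd] at this
    exact this
  refine pb_hom_ext G g ((cancel_mono G.j).1 (pullback.hom_ext ?_ ?_)) h₁ h₂
  · simp only [GroupoidScheme.j, Category.assoc, pullback.lift_fst]
    exact ((congrArg (x ≫ ·) (pbMid_t G g)).trans ((Category.assoc _ _ _).symm.trans
      ((congrArg (· ≫ g) h₁).trans (Category.assoc _ _ _)))).trans (congrArg (y ≫ ·) (pbMid_t G g)).symm
  · simp only [GroupoidScheme.j, Category.assoc, pullback.lift_snd]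
    exact ((congrArg (x ≫ ·) (pbMid_s G g)).trans ((Category.assoc _ _ _).symm.trans
      ((congrArg (· ≫ g) h₂).trans (Category.assoc _ _ _)))).trans (congrArg (y ≫ ·) (pbMid_s G g)).symm

end Groth.Agent.GrpdLib
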