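import Groth.Agent.GrpdLib.ClosureImage
import Groth.Agent.GrpSchLib.FieldReduced
import Groth.Agent.AlgSpDec.RedInduced
import Mathlib.AlgebraicGeometry.Morphisms.SchemeTheoreticallyDominant

/-!
# Groupoids on images of groupoid morphisms over a field
-/

set_option backward.isDefEq.respectTransparency false
set_option backward.isDefEq.respectTransparency.types false

universe u

open CategoryTheory CategoryTheory.Limits AlgebraicGeometry Grpd

noncomputable section

namespace Groth.Agent.GrpdLib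

variable {S : Scheme.{u}}

/-- The pair groupoid `U ×_S U`. -/
def pairGpd {U : Scheme.{u}} (pU : U ⟶ S) : GroupoidScheme S where
  U := U
  R := pullback pU pU
  pU := pU
  pR := pullback.fst pU pU ≫ pU
  s := pullback.snd pU pU
  t := pullback.fst pU pU
  e := pullback.lift (𝟙 U) (𝟙 U) rfl
  i := pullback.lift (pullback.snd pU pU) (pullback.fst pU pU) pullback.condition.symm
  c := pullback.lift (pullback.fst (pullback.snd pU pU) (pullback.fst pU pU) ≫ pullback.fst pU pU)
    (pullback.snd (pullback.snd pU pU) (pullback.fst pU pU) ≫ pullback.snd pU pU)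
    (by rw [Category.assoc, Category.assoc, pullback.condition, pullback.condition_assoc, pullback.condition])
  s_over := pullback.condition.symm
  t_over := rfl
  comp_s α β h := by simp
  comp_t α β h := by simp
  assoc α β γ h₁ h₂ := by apply pullback.hom_ext <;> simp
  e_s := by simp
  e_t := by simp
  comp_e α := by apply pullback.hom_ext <;> simp
  e_comp α := by apply pullback.hom_ext <;> simp
  i_s := by simp
  i_t := by simp
  comp_i α := by apply pullback.hom_ext <;> simp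
  i_comp α := by apply pullback.hom_ext <;> simp

/-- The morphism `(t, s)` to the pair groupoid. -/
def jHom (G : GroupoidScheme S) : GroupoidScheme.Hom G (pairGpd G.pU) where
  fU := 𝟙 G.U
  fR := G.j
  fU_over := Category.id_comp _
  comm_s := by rw [show (pairGpd G.pU).s = pullback.snd G.pU G.pU from rfl, j_snd, Category.comp_id]
  comm_t := by rw [show (pairGpd G.pU).t = pullback.fst G.pU G.pU from rfl, j_fst, Category.comp_id]
  comm_c α β h := by
    apply pullback.hom_ext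
    · refine (Category.assoc _ _ _).trans ((congrArg (_ ≫ ·) (j_fst G)).trans ((G.comp_t α β h).trans ?_))
      symm
      show (pullback.lift _ _ _ ≫ pullback.lift _ _ _) ≫ pullback.fst _ _ = _
      rw [Category.assoc, pullback.lift_fst]
      exact (pullback.lift_fst_assoc _ _ _ _).trans ((Category.assoc _ _ _).trans (congrArg (α ≫ ·) (j_fst G)))
    · refine (Category.assoc _ _ _).trans ((congrArg (_ ≫ ·) (j_snd G)).trans ((G.comp_s α β h).trans ?_))
      symm
      show (pullback.lift _ _ _ ≫ pullback.lift _ _ _) ≫ pullback.snd _ _ = _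
      rw [Category.assoc, pullback.lift_snd]
      exact (pullback.lift_snd_assoc _ _ _ _).trans ((Category.assoc _ _ _).trans (congrArg (β ≫ ·) (j_snd G)))

/-- Closed or open pieces of arrows which contain identities and are stable under inverse and composition. -/
structure SubData (G : GroupoidScheme S) where
  /-- The piece. -/
  Z : Scheme.{u}
  /-- The inclusion. -/
  ι : Z ⟶ G.R
  [mono : Mono ι]
  /-- The identity. -/
  e : G.U ⟶ Z
  e_ι : e ≫ ι = G.e
  /-- The inverse. -/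
  i : Z ⟶ Z
  i_ι : i ≫ ι = ι ≫ G.i
  /-- The composition. -/
  c : pullback (ι ≫ G.s) (ι ≫ G.t) ⟶ Z
  c_ι : c ≫ ι = pullback.lift (pullback.fst (ι ≫ G.s) (ι ≫ G.t) ≫ ι) (pullback.snd (ι ≫ G.s) (ι ≫ G.t) ≫ ι)
    (by rw [Category.assoc, Category.assoc, pullback.condition]) ≫ G.c

attribute [instance] SubData.mono

variable {G : GroupoidScheme S} (D : SubData G)

theorem SubData.lift_c_ι {T : Scheme.{u}} (α β : T ⟶ D.Z) (h : α ≫ D.ι ≫ G.s = β ≫ D.ι ≫ G.t) :
    (pullback.lift α β h ≫ D.c) ≫ D.ι =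
      pullback.lift (α ≫ D.ι) (β ≫ D.ι) (by rw [Category.assoc, Category.assoc, h]) ≫ G.c := by
  rw [Category.assoc, D.c_ι, ← Category.assoc]
  congr 1
  apply pullback.hom_ext <;> simp

/-- The sub-groupoid. -/
def SubData.toGpd : GroupoidScheme S where
  U := G.U
  R := D.Z
  pU := G.pU
  pR := D.ι ≫ G.pR
  s := D.ι ≫ G.s
  t := D.ι ≫ G.t
  e := D.e
  i := D.i
  c := D.c
  s_over := by rw [Category.assoc, G.s_over]
  t_over := by rw [Category.assoc, G.t_over]
  comp_s α β h := by rw [← Category.assoc, D.lift_c_ι, G.comp_s, Category.assoc]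
  comp_t α β h := by rw [← Category.assoc, D.lift_c_ι, G.comp_t, Category.assoc]
  assoc α β γ h₁ h₂ := by
    rw [← cancel_mono D.ι]
    refine (D.lift_c_ι _ _ _).trans (Eq.trans ?_ (D.lift_c_ι _ _ _).symm)
    refine (c_congr G _ (D.lift_c_ι α β h₁) rfl).trans (Eq.trans ?_ (c_congr G _ rfl (D.lift_c_ι β γ h₂)).symm)
    exact G.assoc _ _ _ _ _
  e_s := by rw [reassoc_of% D.e_ι, G.e_s]
  e_t := by rw [reassoc_of% D.e_ι, G.e_t]
  comp_e α := by
    rw [← cancel_mono D.ι, D.lift_c_ι]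
    refine (c_congr G _ rfl ?_).trans (G.comp_e (α ≫ D.ι))
    simp only [Category.assoc, D.e_ι]
  e_comp α := by
    rw [← cancel_mono D.ι, D.lift_c_ι]
    refine (c_congr G _ ?_ rfl).trans (G.e_comp (α ≫ D.ι))
    simp only [Category.assoc, D.e_ι]
  i_s := by rw [reassoc_of% D.i_ι, G.i_s]
  i_t := by rw [reassoc_of% D.i_ι, G.i_t]
  comp_i α := by
    rw [← cancel_mono D.ι, D.lift_c_ι]
    refine (c_congr G _ rfl ?_).trans ((G.comp_i (α ≫ D.ι)).trans ?_)
    · simp only [Category.assoc, D.i_ι]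
    · simp only [Category.assoc, D.e_ι]
  i_comp α := by
    rw [← cancel_mono D.ι, D.lift_c_ι]
    refine (c_congr G _ ?_ rfl).trans ((G.i_comp (α ≫ D.ι)).trans ?_)
    · simp only [Category.assoc, D.i_ι]
    · simp only [Category.assoc, D.e_ι]

/-- The inclusion of the sub-groupoid. -/
def SubData.hom : GroupoidScheme.Hom D.toGpd G where
  fU := 𝟙 G.U
  fR := D.ι
  fU_over := Category.id_comp _
  comm_s := (Category.comp_id _).symm
  comm_t := (Category.comp_id _).symm
  comm_c α β h := D.lift_c_ι α β h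

theorem flat_of_field {k : Type u} [Field k] {U X : Scheme.{u}} (eU : U ≅ Spec (CommRingCat.of k)) (f : X ⟶ U) :
    Flat f := by
  have : Nonempty U := ⟨eU.inv (IsLocalRing.closedPoint k)⟩
  have : IsIntegral U := isIntegral_of_isOpenImmersion eU.hom
  have : Subsingleton U := eU.hom.homeomorph.subsingleton
  infer_instance

theorem ker_toImage {X Y : Scheme.{u}} (f : X ⟶ Y) [QuasiCompact f] : IsSchemeTheoreticallyDominant f.toImage := by
  refine ⟨Scheme.IdealSheafData.ext_of_iSup_eq_top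
    (fun U : Y.affineOpens => (⟨f.imageι ⁻¹ᵁ U.1, U.2.preimage f.imageι⟩ : f.image.affineOpens)) ?_ fun U => ?_⟩
  · rw [← Scheme.Hom.preimage_iSup, iSup_affineOpens_eq_top]
    rfl
  · rw [Scheme.Hom.ker_apply]
    exact ((RingHom.injective_iff_ker_eq_bot _).1 (f.toImage_app_injective U)).trans (by simp)

/-- The scheme theoretic image of a quasi-compact groupoid morphism over a field is a groupoid. -/
theorem exists_image_groupoid {G₁ G₂ : GroupoidScheme S} (k : Type u) [Field k]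
    (eU : G₂.U ≅ Spec (CommRingCat.of k)) (a : GroupoidScheme.Hom G₁ G₂) [IsIso a.fU] [QuasiCompact a.fR] :
    ∃ (D : SubData G₂) (φ : GroupoidScheme.Hom G₁ D.toGpd), φ.fU = a.fU ∧ φ.fR ≫ D.ι = a.fR ∧
      IsClosedImmersion D.ι ∧ D.ι.ker = a.fR.ker := by
  let T := a.fR.toImage
  let ι := a.fR.imageι
  have hT : T ≫ ι = a.fR := a.fR.toImage_imageι
  have := ker_toImage a.fR
  have : IsClosedImmersion ι := inferInstanceAs (IsClosedImmersion a.fR.ker.subschemeι)
  have hker : ι.ker = a.fR.ker := a.fR.ker.ker_subschemeι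
  have dom : ∀ {P Q : Scheme.{u}} (d : P ⟶ Q) (m : Q ⟶ G₂.R), IsSchemeTheoreticallyDominant d → ∀ n : P ⟶ G₁.R,
      d ≫ m = n ≫ a.fR → ι.ker ≤ m.ker := fun d m hd n h => by
    have h1 := congrArg Scheme.Hom.ker h
    rw [Scheme.Hom.ker_comp, hd.ker_eq_bot, Scheme.IdealSheafData.map_bot] at h1
    rw [h1, hker]
    exact Scheme.Hom.le_ker_comp n a.fR
  let s₂ := ι ≫ G₂.s
  let t₂ := ι ≫ G₂.t
  have hts : (T ≫ s₂) = G₁.s ≫ a.fU := by rw [← Category.assoc, hT, a.comm_s]
  have htt : (T ≫ t₂) = G₁.t ≫ a.fU := by rw [← Category.assoc, hT, a.comm_t]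
  let D1 : pullback (T ≫ s₂) (T ≫ t₂) ⟶ pullback s₂ (T ≫ t₂) :=
    pullback.map _ _ _ _ T (𝟙 _) (𝟙 _) (by simp) (by simp)
  let D2 : pullback s₂ (T ≫ t₂) ⟶ pullback s₂ t₂ := pullback.map _ _ _ _ (𝟙 _) T (𝟙 _) (by simp) (by simp)
  have sq1 : IsPullback (pullback.fst (T ≫ s₂) (T ≫ t₂)) D1 T (pullback.fst s₂ (T ≫ t₂)) := by
    refine IsPullback.of_bot ?_ (pullback.lift_fst _ _ _).symm (IsPullback.of_hasPullback s₂ (T ≫ t₂))
    rw [show D1 ≫ pullback.snd s₂ (T ≫ t₂) = pullback.snd (T ≫ s₂) (T ≫ t₂) by simp [D1]]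
    exact IsPullback.of_hasPullback _ _
  have sq2 : IsPullback (pullback.snd s₂ (T ≫ t₂)) D2 T (pullback.snd s₂ t₂) := by
    refine IsPullback.of_bot ?_ (pullback.lift_snd _ _ _).symm (IsPullback.of_hasPullback s₂ t₂).flip
    rw [show D2 ≫ pullback.fst s₂ t₂ = pullback.fst s₂ (T ≫ t₂) by simp [D2]]
    exact (IsPullback.of_hasPullback _ _).flip
  have : Flat (T ≫ t₂) := flat_of_field eU _
  have : Flat s₂ := flat_of_field eU _
  have : Flat (pullback.fst s₂ (T ≫ t₂)) := inferInstance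
  have : Flat (pullback.snd s₂ t₂) := inferInstance
  have := IsSchemeTheoreticallyDominant.of_isPullback sq1
  have := IsSchemeTheoreticallyDominant.of_isPullback sq2
  let M : pullback s₂ t₂ ⟶ G₂.R := pullback.lift (pullback.fst s₂ t₂ ≫ ι) (pullback.snd s₂ t₂ ≫ ι)
    (by rw [Category.assoc, Category.assoc, pullback.condition]) ≫ G₂.c
  have hn : pullback.fst (T ≫ s₂) (T ≫ t₂) ≫ G₁.s = pullback.snd (T ≫ s₂) (T ≫ t₂) ≫ G₁.t := by
    rw [← cancel_mono a.fU, Category.assoc, Category.assoc, ← hts, ← htt, pullback.condition]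
  have hM : (D1 ≫ D2) ≫ M = (pullback.lift _ _ hn ≫ G₁.c) ≫ a.fR := by
    refine Eq.trans ?_ (a.comm_c _ _ hn).symm
    refine (Category.assoc _ _ _).symm.trans ?_
    congr 1
    apply pullback.hom_ext <;> simp [D1, D2, hT]
  have hker_c : ι.ker ≤ M.ker := dom (D1 ≫ D2) M inferInstance _ hM
  have hker_i : ι.ker ≤ (ι ≫ G₂.i).ker :=
    dom T _ inferInstance G₁.i (by rw [← Category.assoc, hT, hom_comm_i])
  let D : SubData G₂ :=
    { Z := a.fR.image
      ι := ι
      e := inv a.fU ≫ G₁.e ≫ T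
      e_ι := by rw [Category.assoc, Category.assoc, hT, hom_comm_e, IsIso.inv_hom_id_assoc]
      i := IsClosedImmersion.lift ι _ hker_i
      i_ι := IsClosedImmersion.lift_fac _ _ _
      c := IsClosedImmersion.lift ι M hker_c
      c_ι := IsClosedImmersion.lift_fac _ _ _ }
  refine ⟨D, ⟨a.fU, T, a.fU_over, hts, htt, fun α β h => ?_⟩, rfl, hT, inferInstanceAs (IsClosedImmersion ι), hker⟩
  rw [← cancel_mono D.ι]
  refine Eq.trans ?_ (D.lift_c_ι _ _ _).symm
  change ((_ ≫ G₁.c) ≫ T) ≫ ι = _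
  rw [Category.assoc _ T ι, hT, a.comm_c]
  exact c_congr G₂ _ (by rw [Category.assoc]; exact congrArg (α ≫ ·) hT.symm) (by rw [Category.assoc]; exact congrArg (β ≫ ·) hT.symm)

/-- The reduced closure of the image of a groupoid morphism over a perfect field is a groupoid. -/
theorem exists_reduced_closure_groupoid {G₁ G₂ : GroupoidScheme S} (k : Type u) [Field k] [PerfectField k]
    (eU : G₂.U ≅ Spec (CommRingCat.of k)) (a : GroupoidScheme.Hom G₁ G₂) [IsIso a.fU] :
    ∃ D : SubData G₂, IsReduced D.Z ∧ IsClosedImmersion D.ι ∧ Set.range ⇑D.ι = closure (Set.range ⇑a.fR) := by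
  have : IsReduced G₂.U := isReduced_of_isOpenImmersion eU.hom
  let C : TopologicalSpace.Closeds ↥G₂.R := ⟨closure (Set.range ⇑a.fR), isClosed_closure⟩
  let ι := (Scheme.IdealSheafData.vanishingIdeal C).subschemeι
  have hι : Set.range ι = closure (Set.range ⇑a.fR) := H23.RedSub.range_vanishingIdeal C
  have : IsReduced (Scheme.IdealSheafData.vanishingIdeal C).subscheme := inferInstance
  have : IsReduced (pullback (ι ≫ G₂.s) (ι ≫ G₂.t)) := by
    have := GrpSchLib.isReduced_pullback_of_perfectField ((ι ≫ G₂.s) ≫ eU.hom) ((ι ≫ G₂.t) ≫ eU.hom)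
    exact isReduced_of_isOpenImmersion (pullback.map (ι ≫ G₂.s) (ι ≫ G₂.t) ((ι ≫ G₂.s) ≫ eU.hom)
      ((ι ≫ G₂.t) ≫ eU.hom) (𝟙 _) (𝟙 _) eU.hom (by simp) (by simp))
  obtain ⟨e, he⟩ := AlgSpDec.exists_factor_closed ι G₂.e (by
    rintro _ ⟨v, rfl⟩
    rw [hι]
    refine subset_closure ⟨G₁.e (inv a.fU v), ?_⟩
    rw [← Scheme.Hom.comp_apply G₁.e, hom_comm_e, ← Scheme.Hom.comp_apply, IsIso.inv_hom_id_assoc])
  obtain ⟨i, hi⟩ := AlgSpDec.exists_factor_closed ι (ι ≫ G₂.i) (by
    rintro _ ⟨z, rfl⟩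
    rw [hι, Scheme.Hom.comp_apply]
    exact inv_mem_closure a (hι ▸ ⟨z, rfl⟩))
  obtain ⟨c, hc⟩ := AlgSpDec.exists_factor_closed ι
    (pullback.lift (pullback.fst (ι ≫ G₂.s) (ι ≫ G₂.t) ≫ ι) (pullback.snd (ι ≫ G₂.s) (ι ≫ G₂.t) ≫ ι)
      (by rw [Category.assoc, Category.assoc, pullback.condition]) ≫ G₂.c) (by
    rintro _ ⟨z, rfl⟩
    rw [hι, Scheme.Hom.comp_apply]
    refine comp_mem_closure k eU a _ ?_ ?_
    · rw [← Scheme.Hom.comp_apply, pullback.lift_fst]
      exact hι ▸ ⟨pullback.fst (ι ≫ G₂.s) (ι ≫ G₂.t) z, (Scheme.Hom.comp_apply _ _ _).symm⟩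
    · rw [← Scheme.Hom.comp_apply, pullback.lift_snd]
      exact hι ▸ ⟨pullback.snd (ι ≫ G₂.s) (ι ≫ G₂.t) z, (Scheme.Hom.comp_apply _ _ _).symm⟩)
  exact ⟨⟨_, ι, e, he, i, hi, c, hc⟩, inferInstance, inferInstance, hι⟩

end Groth.Agent.GrpdLib
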