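import Groth.Agent.GrpdLib.StabTorsor

/-!
# Left translation by a bisection
-/

set_option backward.isDefEq.respectTransparency false
set_option backward.isDefEq.respectTransparency.types false

universe u

open CategoryTheory CategoryTheory.Limits AlgebraicGeometry Grpd

namespace Groth.Agent.GrpdLib

variable {S : Scheme.{u}} (G : GroupoidScheme S) (ρ : G.U ⟶ G.R) (hρ : ρ ≫ G.s = 𝟙 G.U)

/-- Left translation by a section of the source map. -/
noncomputable def translate : G.R ⟶ G.R :=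
  pullback.lift (G.t ≫ ρ) (𝟙 G.R) (by rw [Category.assoc, hρ, Category.comp_id, Category.id_comp]) ≫ G.c

theorem translate_t : translate G ρ hρ ≫ G.t = G.t ≫ ρ ≫ G.t := by rw [translate, G.comp_t, Category.assoc]

theorem translate_e : G.e ≫ translate G ρ hρ = ρ := by
  rw [translate, lift_comp_c]
  refine (c_congr G _ ?_ ?_).trans (G.comp_e ρ)
  · rw [reassoc_of% G.e_t]
  · rw [reassoc_of% hρ, Category.comp_id]

theorem isIso_translate (σ : G.U ⟶ G.U) (hστ : σ ≫ ρ ≫ G.t = 𝟙 G.U) (hτσ : ρ ≫ G.t ≫ σ = 𝟙 G.U) :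
    IsIso (translate G ρ hρ) := by
  have hη : (σ ≫ ρ ≫ G.i) ≫ G.s = 𝟙 G.U := by
    rw [Category.assoc, Category.assoc, G.i_s, hστ]
  have hη' : (σ ≫ ρ ≫ G.i) ≫ G.t = σ := by
    rw [Category.assoc, Category.assoc, G.i_t, hρ, Category.comp_id]
  refine ⟨translate G (σ ≫ ρ ≫ G.i) hη, ?_, ?_⟩
  · conv_lhs => arg 2; rw [translate]
    rw [lift_comp_c]
    refine (c_congr G _ (α' := (G.t ≫ ρ) ≫ G.i) ?_ (Category.comp_id _)).trans ?_
    · rw [reassoc_of% (translate_t G ρ hρ), reassoc_of% hτσ, Category.assoc]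
    · unfold translate
      rw [← G.assoc _ _ _ (by rw [Category.assoc, G.i_s])]
      refine (c_congr G _ (G.i_comp _) rfl).trans ((c_congr G _ ?_ rfl).trans (G.e_comp (𝟙 G.R)))
      rw [Category.assoc, reassoc_of% hρ, Category.id_comp]
  · conv_lhs => arg 2; rw [translate]
    rw [lift_comp_c]
    refine (c_congr G _ (α' := G.t ≫ σ ≫ ρ) ?_ (Category.comp_id _)).trans ?_
    · rw [reassoc_of% (translate_t G _ hη), reassoc_of% G.i_t, reassoc_of% hρ]
    · unfold translate
      have hi : G.t ≫ σ ≫ ρ ≫ G.i = (G.t ≫ σ ≫ ρ) ≫ G.i := by simp only [Category.assoc]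
      refine (c_congr G _ rfl (c_congr G _ hi rfl)).trans ?_
      rw [← G.assoc _ _ _ (by rw [Category.assoc (G.t ≫ σ ≫ ρ) G.i, G.i_t])]
      refine (c_congr G _ (G.comp_i _) rfl).trans ((c_congr G _ ?_ rfl).trans (G.e_comp (𝟙 G.R)))
      simp only [Category.assoc, Category.id_comp]
      rw [reassoc_of% hστ]

end Groth.Agent.GrpdLib
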